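import Cfsg.Agent.Lib.FischerQuad.Local

/-!
The 126 quads of a product of four, and the centraliser acting on them.
-/

set_option autoImplicit false
set_option linter.style.haveILetI false

namespace Cfsg.Agent.FischerQuad

open Cfsg.Agent.Fischer
open Cfsg.Agent.Fischer.Factor
open Cfsg.Agent.Fi22Local
open Cfsg.Agent.FischerPresented
open Cfsg.Agent.FischerInvol24
open Cfsg.Agent.FischerUnique.InvolutionClasses (Fac)

universe u

variable {G : Type u} [Group G] [Finite G] {D : Set G}

/-- The quads with product `z`. -/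
abbrev Blk (D : Set G) (z : G) := {S : Set G // Quad D z S}

/-- Every member of one commutes with every member of the other. -/
def BCm (S T : Set G) : Prop := ∀ u ∈ S, ∀ v ∈ T, Commute u v

variable (V : Env D)
include V

theorem Env.bcm {z : G} {S T : Set G} (hS : Quad D z S) (hT : Quad D z T) {u v : G} (hu : u ∈ S) (hv : v ∈ T)
    (h : Commute u v) : BCm S T := by
  intro u' hu' v' hv'
  have h1 : Commute u v' := V.quad_all hT (hS.mem hu).1 (hS.mem hu).2 hv h hv'
  exact (V.quad_all hS (hT.mem hv').1 (hT.mem hv').2 hu h1.symm hu').symm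

theorem Env.conj_quad {z g : G} {S : Set G} (hg : Commute g z) (hS : Quad D z S) :
    Quad D z ((fun x => g * x * g⁻¹) '' S) := hS.conj V.facts.tg hg

/-- A transposition fixes the quads it commutes with and no others. -/
theorem Env.fix_iff {z d : G} {T : Set G} (hd : d ∈ D) (hdz : Commute d z) (hT : Quad D z T) {v : G}
    (hv : v ∈ T) : (fun x => d * x * d⁻¹) '' T = T ↔ Commute d v := by
  have F := V.facts
  refine ⟨fun h => ?_, fun h => ?_⟩
  · by_contra hn
    have h1 : d * v * d ∈ T := by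
      have : d * v * d⁻¹ ∈ T := h ▸ ⟨v, hv, rfl⟩
      rwa [TSet.inv F.tg.1 hd] at this
    have h2 := (hT.comm hv h1).eq
    rw [TSet.braid F.tg.1 hd (hT.mem hv).1 hn] at h2
    simp only [← mul_assoc, TSet.sq F.tg.1 (hT.mem hv).1, one_mul] at h2
    rw [mul_assoc (v * d), TSet.sq F.tg.1 (hT.mem hv).1, mul_one] at h2
    exact hn h2
  · refine Set.Subset.antisymm ?_ fun u hu => ⟨u, hu, ?_⟩
    · rintro _ ⟨u, hu, rfl⟩
      simp only [conj_eq_self_of_commute (V.quad_all hT hd hdz hv h hu)]
      exact hu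
    · exact conj_eq_self_of_commute (V.quad_all hT hd hdz hv h hu)

omit V

/-- The action of the centraliser on the quads. -/
noncomputable def act (V : Env D) (z : G) : ↥(Subgroup.centralizer ({z} : Set G)) →* Equiv.Perm (Blk D z) :=
  MonoidHom.toHomPerm
    { toFun := fun g S => ⟨(fun x => (g : G) * x * (g : G)⁻¹) '' S.1,
        V.conj_quad (Subgroup.mem_centralizer_singleton_iff.1 g.2) S.2⟩
      map_one' := funext fun S => Subtype.ext (by show _ = S.1; simp)
      map_mul' := fun g h => funext fun S => Subtype.ext (by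
        show (fun x => (g * h : ↥(Subgroup.centralizer ({z} : Set G))).1 * x * _⁻¹) '' S.1 = _
        refine Eq.trans ?_ (Set.image_comp _ _ _)
        refine Set.image_congr fun x _ => ?_
        simp only [Subgroup.coe_mul, Function.comp_apply]
        group) }

theorem act_coe (V : Env D) {z : G} (g : ↥(Subgroup.centralizer ({z} : Set G))) (S : Blk D z) :
    (act V z g S : Set G) = (fun x => (g : G) * x * (g : G)⁻¹) '' S.1 := rfl

theorem act_mem (V : Env D) {z : G} (g : ↥(Subgroup.centralizer ({z} : Set G))) {S : Blk D z} {x : G}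
    (hx : x ∈ S.1) : (g : G) * x * (g : G)⁻¹ ∈ (act V z g S).1 := ⟨x, hx, rfl⟩

include V

/-- Quads sharing a member, as points. -/
theorem Env.blk_eq {z : G} {S T : Blk D z} {x : G} (hS : x ∈ S.1) (hT : x ∈ T.1) : S = T :=
  Subtype.ext (V.quad_eq S.2 T.2 hS hT)

namespace Local

variable {z a b c e : G} {π : ↥(Subgroup.centralizer ({a, b} : Set G)) →* GG}
  {y : Fin 45 → Fin 4 → G} (L : Local D z a b c e π y)
include L

omit V in
theorem fac : Fac D 4 z := L.frame.tup.fac

/-- The quad of a number. -/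
def blk (j : Fin 45) : Blk D z := ⟨blockSet y j, L.quad V j⟩

omit V in
/-- The quad of the frame. -/
def base : Blk D z := ⟨{a, b, c, e}, L.frame.quad⟩

omit V in
theorem a_mem : a ∈ (L.base).1 := Or.inl rfl

theorem y_mem (j : Fin 45) (m : Fin 4) : y j m ∈ D ∧ Commute (y j m) z :=
  (L.quad V j).mem (mem_blockSet y j m)

omit [Finite G] V in
theorem y_a (j : Fin 45) (m : Fin 4) : Commute (y j m) a := (L.mem j m).1.2.2.symm

/-- Either the base quad, or one of the numbered ones, or a transposition moved by all four. -/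
theorem cases {w : G} (hw : w ∈ D) (hwz : Commute w z) (h : Commute w a) :
    w ∈ (L.base).1 ∨ ∃ j m, y j m = w := by
  by_cases hb' : w ∈ (L.base).1
  · exact Or.inl hb'
  refine Or.inr ?_
  have hall : ∀ v ∈ (L.base).1, v ∈ D → w ∈ Nb D v := fun v hv hvD =>
    ⟨hw, fun e => hb' (e ▸ hv), (V.quad_all L.frame.quad hw hwz L.a_mem h hv).symm⟩
  have hQ : ∀ v ∈ (L.base).1, v ∈ D := fun v hv => (L.frame.quad.mem hv).1
  exact L.surj V (hall a L.a_mem (hQ a L.a_mem)) (hall b (Or.inr (Or.inl rfl)) (hQ b (Or.inr (Or.inl rfl))))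
    (hall c (Or.inr (Or.inr (Or.inl rfl))) (hQ c (Or.inr (Or.inr (Or.inl rfl)))))
    (hall e (Or.inr (Or.inr (Or.inr rfl))) (hQ e (Or.inr (Or.inr (Or.inr rfl)))))

/-- Every member lies in a quad. -/
theorem exists_quad {w : G} (hw : w ∈ D) (hwz : Commute w z) : ∃ S : Blk D z, w ∈ S.1 := by
  by_cases h : Commute w a
  · rcases L.cases V hw hwz h with h' | ⟨j, m, rfl⟩
    exacts [⟨L.base, h'⟩, ⟨L.blk V j, mem_blockSet y j m⟩]
  · have haz := (L.frame.quad.mem L.a_mem).2
    have hg : Commute (a * w) z := haz.mul_left hwz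
    have F := V.facts
    refine ⟨⟨_, V.conj_quad hg L.frame.quad⟩, a, L.a_mem, ?_⟩
    show a * w * a * (a * w)⁻¹ = w
    rw [mul_inv_rev, TSet.inv F.tg.1 hw, TSet.inv F.tg.1 L.frame.ha]
    calc a * w * a * (w * a) = a * (w * a * w) * a := by simp only [mul_assoc]
      _ = a * (a * w * a) * a := by rw [TSet.braid F.tg.1 L.frame.ha hw (fun e => h e.symm)]
      _ = w := by simp only [← mul_assoc, F.sq L.frame.ha, one_mul]; rw [mul_assoc, F.sq L.frame.ha, mul_one]

/-- There are 126 quads. -/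
theorem card_blk : Nat.card (Blk D z) = 126 := by
  classical
  letI : Fintype (Blk D z) := Fintype.ofFinite _
  have hbij : Function.Bijective (fun p : (Σ S : Blk D z, ↥S.1) =>
      (⟨p.2.1, p.1.2.mem p.2.2⟩ : ↥{w | w ∈ D ∧ Commute w z})) := by
    refine ⟨?_, ?_⟩
    · rintro ⟨S, x, hx⟩ ⟨T, x', hx'⟩ h
      obtain rfl : x = x' := congrArg Subtype.val h
      obtain rfl := V.blk_eq hx hx'
      rfl
    · rintro ⟨w, hw, hwz⟩
      obtain ⟨S, hS⟩ := L.exists_quad V hw hwz
      exact ⟨⟨S, w, hS⟩, rfl⟩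
  have h1 := Nat.card_eq_of_bijective _ hbij
  rw [Nat.card_sigma, Nat.card_coe_set_eq, V.card z L.fac] at h1
  have h2 : ∀ S : Blk D z, Nat.card ↥S.1 = 4 := fun S => by rw [Nat.card_coe_set_eq, S.2.ncard]
  simp only [h2, Finset.sum_const, Finset.card_univ, smul_eq_mul] at h1
  rw [Nat.card_eq_fintype_card]
  omega

theorem blk_ne_base (j : Fin 45) : L.blk V j ≠ L.base := by
  intro h
  have h1 : y j 0 ∈ (L.base).1 := h ▸ mem_blockSet y j 0
  rcases h1 with h1 | h1 | h1 | h1
  exacts [(L.mem j 0).1.2.1 h1, (L.mem j 0).2.1.2.1 h1, (L.mem j 0).2.2.1.2.1 h1, (L.mem j 0).2.2.2.2.1 h1]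

theorem blk_inj {i j : Fin 45} (h : L.blk V i = L.blk V j) : i = j := L.blockSet_inj V (congrArg Subtype.val h)

/-- A quad commuting with the base is numbered. -/
theorem near_cases {T : Blk D z} {v : G} (hv : v ∈ T.1) (h : Commute v a) :
    T = L.base ∨ ∃ j, T = L.blk V j := by
  obtain ⟨h1, h2⟩ := T.2.mem hv
  rcases L.cases V h1 h2 h with h' | ⟨j, m, rfl⟩
  exacts [Or.inl (V.blk_eq hv h'), Or.inr ⟨j, V.blk_eq hv (mem_blockSet y j m)⟩]

end Local

end Cfsg.Agent.FischerQuad
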