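import Cfsg.Agent.Lib.FischerQuad.Comb
import Cfsg.Agent.Lib.FischerQuad.LocalCert
import Cfsg.Agent.Lib.Fi22Local.TripleTransport
import Mathlib.GroupTheory.Perm.Basic

/-!
The 180 common neighbours of the points 0 and 7 of Fi22: blocks, their action on each other, and the
pointwise stabiliser.
-/

set_option autoImplicit false
set_option maxRecDepth 100000

namespace Cfsg.Agent.FischerQuad

open Cfsg.Agent.Fi22Local
open Cfsg.Agent.Fi22Local.Triple
open Cfsg.Agent.FischerPresented
open Cfsg.Agent.PermCert (Elt one validElt toPerm rep_toPerm genGroup cert_card)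

/-- A listed point. -/
def qq (k : ℕ) : ℕ := pts.getD k 0

/-- The listed points are distinct common neighbours. -/
theorem pts_ok : ((pts.all fun p => Nat.blt p 3510 && in2 p) && Nat.beq pts.length 180 &&
    PermCert.distinctKeys pts) = true := by decide +kernel

/-- Four points of a block, with the transpositions multiplying to those of the pair. -/
theorem block_ok : (CosetCert.allBelow (fun j =>
    sameW (wd [qq (4 * j), qq (4 * j + 1), qq (4 * j + 2), qq (4 * j + 3)]) (wd [0, 7]) &&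
      CosetCert.allBelow (fun k => CosetCert.allBelow (fun l => cm (qq (4 * j + k)) (qq (4 * j + l))) 4) 4) 45) = true := by
  decide +kernel

/-- The representatives act on each other as the table says. -/
theorem action_ok : (CosetCert.allBelow (fun i => CosetCert.allBelow (fun j =>
    (let p := tapp (qq (4 * i)) (qq (4 * j))
     let b := 4 * rr i j
     (Nat.beq p (qq b) || Nat.beq p (qq (b + 1)) || Nat.beq p (qq (b + 2)) || Nat.beq p (qq (b + 3))) &&
      (Nat.beq p (qq (4 * j)) == cc i j))) 45) 45) = true := by decide +kernel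

/-- The exchange of the two base points. -/
theorem swap_ok : (wok swapW && Nat.beq (act swapW 0) 7 && Nat.beq (act swapW 7) 0 && validElt 6 45 swap45 &&
    CosetCert.allBelow (fun j =>
      (let p := act swapW (qq (4 * j))
       let b := 4 * PermCert.get 6 swap45.1 j
       (Nat.beq p (qq b) || Nat.beq p (qq (b + 1)) || Nat.beq p (qq (b + 2)) || Nat.beq p (qq (b + 3))))) 45) = true := by
  decide +kernel

/-- The generators of the group on the listed points come from members of them. -/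
theorem sel_ok : (CosetCert.allBelow (fun i => Nat.blt (sel.getD i 0) 180 &&
    CosetCert.allBelow (fun k =>
      Nat.beq (tapp (qq (sel.getD i 0)) (qq k)) (qq (PermCert.get 8 (c180Gens.getD i (one 8 180)).1 k))) 180) 6 &&
    Nat.beq c180Gens.length 6 && c180Gens.all fun e => validElt 8 180 e) = true := by decide +kernel

theorem pts_spec : (∀ k, k < 180 → qq k < 3510 ∧ in2 (qq k) = true) ∧
    (∀ k l, k < 180 → l < 180 → qq k = qq l → k = l) ∧ ∀ p, p < 3510 → in2 p = true → ∃ k, k < 180 ∧ qq k = p := by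
  classical
  have h := pts_ok
  simp only [Bool.and_eq_true, List.all_eq_true, Nat.blt_eq, Nat.beq_eq] at h
  obtain ⟨⟨hall, hlen⟩, hnd⟩ := h
  have hnd' : pts.Nodup := PermCert.distinctKeys_spec _ hnd
  have hget : ∀ k (hk : k < pts.length), qq k = pts[k] := fun k hk => List.getD_eq_getElem _ _ hk
  refine ⟨fun k hk => ?_, fun k l hk hl e => ?_, fun p hp hP => ?_⟩
  · have hk' : k < pts.length := hlen.symm ▸ hk
    rw [hget k hk']
    exact hall _ (List.getElem_mem hk')
  · have hk' : k < pts.length := hlen.symm ▸ hk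
    have hl' : l < pts.length := hlen.symm ▸ hl
    rw [hget k hk', hget l hl'] at e
    exact hnd'.getElem_inj_iff.1 e
  · have hsub : pts.toFinset ⊆ (Finset.univ.filter fun p : Fin 3510 => in2 p = true).map Fin.valEmbedding := by
      intro x hx
      obtain ⟨h1, h2⟩ := hall x (List.mem_toFinset.1 hx)
      exact Finset.mem_map.2 ⟨⟨x, h1⟩, Finset.mem_filter.2 ⟨Finset.mem_univ _, h2⟩, rfl⟩
    have hcard : ((Finset.univ.filter fun p : Fin 3510 => in2 p = true).map Fin.valEmbedding).card = 180 := by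
      have := in_counts.2.2
      rw [Out22.countBelow_eq, Set.ncard_eq_toFinset_card', Set.toFinset_ofPred] at this
      rw [Finset.card_map]
      exact this
    have heq := Finset.eq_of_subset_of_card_le hsub (by rw [hcard, List.toFinset_card_of_nodup hnd', hlen])
    have hm : p ∈ pts.toFinset := heq ▸ Finset.mem_map.2 ⟨⟨p, hp⟩, Finset.mem_filter.2 ⟨Finset.mem_univ _, hP⟩, rfl⟩
    obtain ⟨k, hk, e⟩ := List.getElem_of_mem (List.mem_toFinset.1 hm)
    exact ⟨k, hlen ▸ hk, (hget k hk).trans e⟩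

theorem in2_iff {p : ℕ} : in2 p = true ↔ p ≠ 0 ∧ p ≠ 7 ∧ tapp 0 p = p ∧ tapp 7 p = p := by
  simp only [in2, cm, Bool.and_eq_true, Bool.not_eq_true', Nat.beq_eq, Bool.eq_false_iff, ne_eq]
  tauto

theorem tapp_fix_iff {a b : ℕ} (ha : a < 3510) (hb : b < 3510) : tapp a b = b ↔ Commute (trN a) (trN b) := by
  rw [← apt_trN ha hb]
  exact apt_fix_iff _ hb

theorem qq_comm {k : ℕ} (hk : k < 180) : Commute (trN 0) (trN (qq k)) ∧ Commute (trN 7) (trN (qq k)) ∧
    qq k ≠ 0 ∧ qq k ≠ 7 := by
  obtain ⟨h1, h2⟩ := pts_spec.1 k hk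
  obtain ⟨n0, n7, c0, c7⟩ := in2_iff.1 h2
  exact ⟨(tapp_fix_iff (by norm_num) h1).1 c0, (tapp_fix_iff (by norm_num) h1).1 c7, n0, n7⟩

/-- The transpositions of a block commute and multiply to those of the pair. -/
theorem block_spec {j : ℕ} (hj : j < 45) :
    trN (qq (4 * j + 3)) * trN (qq (4 * j + 2)) * trN (qq (4 * j + 1)) * trN (qq (4 * j)) = trN 7 * trN 0 ∧
      ∀ k < 4, ∀ l < 4, Commute (trN (qq (4 * j + k))) (trN (qq (4 * j + l))) := by
  have h := CosetCert.allBelow_spec block_ok hj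
  rw [Bool.and_eq_true] at h
  refine ⟨?_, fun k hk l hl => ?_⟩
  · have e := el_eq h.1
    simp only [wd, List.flatMap_cons, List.flatMap_nil, List.append_nil, el_append] at e
    exact e
  · have := CosetCert.allBelow_spec (CosetCert.allBelow_spec h.2 hk) hl
    rw [cm, Nat.beq_eq] at this
    exact (tapp_fix_iff (pts_spec.1 _ (by omega)).1 (pts_spec.1 _ (by omega)).1).1 this

/-- The representatives act as the table says. -/
theorem action_spec (i j : Fin 45) :
    (∃ m < 4, trN (qq (4 * i)) * trN (qq (4 * j)) * (trN (qq (4 * i)))⁻¹ = trN (qq (4 * (rF i j : ℕ) + m))) ∧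
      (Cm i j ↔ Commute (trN (qq (4 * i))) (trN (qq (4 * j)))) := by
  have hi : qq (4 * i) < 3510 := (pts_spec.1 _ (by omega)).1
  have hj : qq (4 * j) < 3510 := (pts_spec.1 _ (by omega)).1
  have h := CosetCert.allBelow_spec (CosetCert.allBelow_spec action_ok i.2) j.2
  simp only [Bool.and_eq_true, Bool.or_eq_true, Nat.beq_eq, beq_iff_eq] at h
  refine ⟨?_, ?_⟩
  · rw [← trN_apt _ hj, apt_trN hi hj]
    rcases h.1 with ((e | e) | e) | e
    exacts [⟨0, by norm_num, congrArg trN e⟩, ⟨1, by norm_num, congrArg trN e⟩, ⟨2, by norm_num, congrArg trN e⟩,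
      ⟨3, by norm_num, congrArg trN e⟩]
  · rw [cm_iff, ← tapp_fix_iff hi hj, ← h.2, Nat.beq_eq]

/-- The permutation of the exchange. -/
noncomputable def swapP : Equiv.Perm (Fin 45) := toPerm 6 45 swap45

theorem swap_spec : apt (el swapW) 0 = 7 ∧ apt (el swapW) 7 = 0 ∧
    ∀ j : Fin 45, ∃ m < 4, el swapW * trN (qq (4 * j)) * (el swapW)⁻¹ = trN (qq (4 * (swapP j : ℕ) + m)) := by
  have h := swap_ok
  simp only [Bool.and_eq_true, Nat.beq_eq] at h
  obtain ⟨⟨⟨⟨hw, h0⟩, h7⟩, hv⟩, hj⟩ := h
  refine ⟨by rw [apt_el hw (by norm_num)]; exact h0, by rw [apt_el hw (by norm_num)]; exact h7, fun j => ?_⟩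
  have hq : qq (4 * j) < 3510 := (pts_spec.1 _ (by omega)).1
  have h' := CosetCert.allBelow_spec hj j.2
  simp only [Bool.or_eq_true, Nat.beq_eq] at h'
  rw [← trN_apt _ hq, apt_el hw hq, swapP, ← (rep_toPerm hv j).1]
  rcases h' with ((e | e) | e) | e
  exacts [⟨0, by norm_num, congrArg trN e⟩, ⟨1, by norm_num, congrArg trN e⟩, ⟨2, by norm_num, congrArg trN e⟩,
    ⟨3, by norm_num, congrArg trN e⟩]

theorem swapP_not_five : swapP ∉ genGroup 6 45 c5Gens := by
  intro h
  have hle : genGroup 6 45 c6Gens ≤ genGroup 6 45 c5Gens := by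
    rw [show c6Gens = c5Gens ++ [swap45] from rfl]
    refine (Subgroup.closure_le _).2 ?_
    intro σ hσ
    rw [Set.mem_ofPred_eq, List.map_append, List.mem_append] at hσ
    rcases hσ with hσ | hσ
    · exact Subgroup.subset_closure hσ
    · rw [List.map_singleton, List.mem_singleton] at hσ
      subst hσ
      exact h
  have := Subgroup.card_le_of_le hle
  rw [cert_card c6_cert, cert_card c5_cert, c6_order, c5_order] at this
  omega

theorem c5_rows : c5Gens = (List.range 5).map fun k => r45.getD (f5 k) (one 6 45) := by decide +kernel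

theorem rowPerm_mem_c5 {k : ℕ} (hk : k < 5) : rowPerm (f5 k) ∈ genGroup 6 45 c5Gens := by
  refine Subgroup.subset_closure ?_
  rw [Set.mem_ofPred_eq, c5_rows, List.map_map]
  exact List.mem_map.2 ⟨k, List.mem_range.2 hk, rfl⟩

/-! ### The pointwise stabiliser -/

theorem card_pfix07 : Nat.card (pfix [0, 7]) = 26542080 := by
  have h := card_stab3
  have h2 : Nat.card (pfix [0, 7]) = 180 * Nat.card (pfix [0, 7, 50]) := by
    obtain ⟨-, -, c2⟩ := in_counts
    obtain ⟨c07, c050, c750, -⟩ := base_commute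
    refine card_pfix_step (l := [0, 7]) (c := 50) (P := in2) (fun g hg => ⟨apt_lt _ (by norm_num), ?_⟩)
      (fun p hp hP => ?_) c2
    · have g0 := hg 0 (by simp)
      have g7 := hg 7 (by simp)
      have k0 := apt_tapp g (show 0 < 3510 by norm_num) (show 50 < 3510 by norm_num)
      have k7 := apt_tapp g (show 7 < 3510 by norm_num) (show 50 < 3510 by norm_num)
      rw [g0, c050] at k0
      rw [g7, c750] at k7
      refine in2_iff.2 ⟨?_, ?_, k0.symm, k7.symm⟩
      · exact fun e => absurd (apt_injective g (e.trans g0.symm)) (by norm_num)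
      · exact fun e => absurd (apt_injective g (e.trans g7.symm)) (by norm_num)
    · obtain ⟨n0, n7, k0, k7⟩ := in2_iff.1 hP
      obtain ⟨g, a, b, c⟩ := exists_triple (show 0 < 3510 by norm_num) (show 7 < 3510 by norm_num) hp
        (by norm_num) (Ne.symm n0) (Ne.symm n7) c07 k0 k7
      exact ⟨g, fun d hd => by
        rcases List.mem_cons.1 hd with rfl | hd
        · exact a
        · rw [List.mem_singleton.1 hd]; exact b, c⟩
  omega

theorem trN_mem_pfix {p : ℕ} (hp : p < 3510) (h0 : tapp p 0 = 0) (h7 : tapp p 7 = 7) :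
    trN p ∈ pfix [0, 7] := by
  intro d hd
  simp only [List.mem_cons, List.not_mem_nil, or_false] at hd
  rcases hd with rfl | rfl <;> rw [apt_trN hp (by norm_num)] <;> assumption

theorem qq_mem_pfix {k : ℕ} (hk : k < 180) : trN (qq k) ∈ pfix [0, 7] := by
  obtain ⟨c0, c7, -, -⟩ := qq_comm hk
  have hq := (pts_spec.1 k hk).1
  exact trN_mem_pfix hq ((tapp_fix_iff hq (by norm_num)).2 c0.symm) ((tapp_fix_iff hq (by norm_num)).2 c7.symm)

/-- Whatever fixes the pair and its common neighbours lies in the group of the pair. -/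
theorem fix_all {g : GG} (h0 : apt g 0 = 0) (h7 : apt g 7 = 7) (h : ∀ k < 180, apt g (qq k) = qq k) :
    g = 1 ∨ g = trN 0 ∨ g = trN 7 ∨ g = trN 0 * trN 7 := by
  classical
  obtain ⟨c07, -, -, -⟩ := base_commute
  have hex : ∀ (g : pfix [0, 7]) (k : Fin 180), ∃ l : Fin 180, qq l = apt g (qq k) := by
    intro g k
    obtain ⟨hq, hin⟩ := pts_spec.1 k k.2
    obtain ⟨n0, n7, k0, k7⟩ := in2_iff.1 hin
    have g0 : apt (g : GG) 0 = 0 := g.2 0 (by simp)
    have g7 : apt (g : GG) 7 = 7 := g.2 7 (by simp)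
    have e0 := apt_tapp (g : GG) (show 0 < 3510 by norm_num) hq
    have e7 := apt_tapp (g : GG) (show 7 < 3510 by norm_num) hq
    rw [g0, k0] at e0
    rw [g7, k7] at e7
    obtain ⟨l, hl, e⟩ := pts_spec.2.2 (apt (g : GG) (qq k)) (apt_lt _ hq) (in2_iff.2
      ⟨fun e => n0 (apt_injective _ (e.trans g0.symm)), fun e => n7 (apt_injective _ (e.trans g7.symm)),
        e0.symm, e7.symm⟩)
    exact ⟨⟨l, hl⟩, e⟩
  choose f hf using hex
  have finj : ∀ {k l : Fin 180}, qq k = qq l → k = l := fun e => Fin.ext (pts_spec.2.1 _ _ (Fin.isLt _) (Fin.isLt _) e)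
  let A : pfix [0, 7] →* Function.End (Fin 180) :=
    { toFun := f
      map_one' := funext fun k => finj (by rw [hf]; exact apt_one _)
      map_mul' := fun g g' => funext fun k => finj (by
        show qq (f (g * g') k) = qq (f g (f g' k))
        rw [hf, hf, hf]; exact apt_mul _ _ _) }
  let ρ : pfix [0, 7] →* Equiv.Perm (Fin 180) := A.toHomPerm
  have hρ : ∀ g k, qq (ρ g k) = apt (g : GG) (qq k) := hf
  have himg : 6635520 ≤ Nat.card ρ.range := by
    rw [← c180_order, ← cert_card c180_cert]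
    refine Subgroup.card_le_of_le ((Subgroup.closure_le _).2 ?_)
    intro σ hσ
    obtain ⟨e, he, rfl⟩ := List.mem_map.1 hσ
    obtain ⟨i, hi, rfl⟩ := List.getElem_of_mem he
    have hs := sel_ok
    simp only [Bool.and_eq_true, Nat.beq_eq, List.all_eq_true] at hs
    obtain ⟨⟨hs1, hlen⟩, hval⟩ := hs
    have hi6 : i < 6 := hlen ▸ hi
    have h6 := CosetCert.allBelow_spec hs1 hi6
    rw [Bool.and_eq_true, Nat.blt_eq] at h6
    refine ⟨⟨trN (qq (sel.getD i 0)), qq_mem_pfix h6.1⟩, Equiv.ext fun k => finj ?_⟩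
    rw [hρ, apt_trN (pts_spec.1 _ h6.1).1 (pts_spec.1 _ k.2).1]
    have := Nat.eq_of_beq_eq_true (CosetCert.allBelow_spec h6.2 k.2)
    rw [this, List.getD_eq_getElem _ _ hi, (rep_toPerm (hval _ (List.getElem_mem hi)) k).1]
  have hker : Nat.card ρ.ker ≤ 4 := by
    have := Subgroup.card_eq_card_quotient_mul_card_subgroup ρ.ker
    rw [Nat.card_congr (QuotientGroup.quotientKerEquivRange ρ).toEquiv, card_pfix07] at this
    nlinarith
  have h7' : tapp 7 0 = 0 := (tapp_fix_iff (by norm_num) (by norm_num)).2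
    ((tapp_fix_iff (by norm_num) (by norm_num)).1 c07).symm
  have hself : ∀ {p : ℕ}, p < 3510 → tapp p p = p := fun hp => (tapp_fix_iff hp hp).2 (Commute.refl _)
  have m0 : trN 0 ∈ pfix [0, 7] := trN_mem_pfix (by norm_num) (hself (by norm_num)) c07
  have m7 : trN 7 ∈ pfix [0, 7] := trN_mem_pfix (by norm_num) h7' (hself (by norm_num))
  have hk0 : (⟨trN 0, m0⟩ : pfix [0, 7]) ∈ ρ.ker := Equiv.ext fun k => finj (by
    rw [hρ, apt_trN (by norm_num) (pts_spec.1 _ k.2).1]
    exact (in2_iff.1 (pts_spec.1 _ k.2).2).2.2.1)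
  have hk7 : (⟨trN 7, m7⟩ : pfix [0, 7]) ∈ ρ.ker := Equiv.ext fun k => finj (by
    rw [hρ, apt_trN (by norm_num) (pts_spec.1 _ k.2).1]
    exact (in2_iff.1 (pts_spec.1 _ k.2).2).2.2.2)
  let S : Finset (pfix [0, 7]) := {1, ⟨trN 0, m0⟩, ⟨trN 7, m7⟩, ⟨trN 0, m0⟩ * ⟨trN 7, m7⟩}
  have ne0 : ∀ {p}, p < 3510 → trN p ≠ (1 : GG) := fun hp e => by
    obtain ⟨g, hg⟩ := Fi22Class.mem_D.1 (trN_mem hp)
    have hz := e ▸ hg
    have hz1 : Fi22Class.z = 1 := by simpa using hz
    exact Fi22Class.z_ne_one hz1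
  have n07 : trN 0 ≠ trN 7 := fun e => absurd (trN_inj (by norm_num) (by norm_num) e) (by norm_num)
  have sq : ∀ {p}, p < 3510 → trN p * trN p = (1 : GG) := fun hp => by
    obtain ⟨g, hg⟩ := Fi22Class.mem_D.1 (trN_mem hp)
    rw [← hg, show g * Fi22Class.z * g⁻¹ * (g * Fi22Class.z * g⁻¹) = g * (Fi22Class.z * Fi22Class.z) * g⁻¹ by group,
      Fi22Class.z_sq]
    group
  have hS : S.card = 4 := by
    simp only [S]
    rw [Finset.card_insert_of_notMem, Finset.card_insert_of_notMem, Finset.card_insert_of_notMem,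
      Finset.card_singleton]
    · simp only [Finset.mem_singleton, Subtype.ext_iff, Subgroup.coe_mul]
      exact fun e => ne0 (show 0 < 3510 by norm_num) (right_eq_mul.1 e)
    · simp only [Finset.mem_insert, Finset.mem_singleton, Subtype.ext_iff, Subgroup.coe_mul, not_or]
      exact ⟨n07, fun e => ne0 (show 7 < 3510 by norm_num) (left_eq_mul.1 e)⟩
    · simp only [Finset.mem_insert, Finset.mem_singleton, Subtype.ext_iff, Subgroup.coe_mul,
        Subgroup.coe_one, not_or]
      refine ⟨(ne0 (by norm_num)).symm, (ne0 (by norm_num)).symm, fun e => n07 ?_⟩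
      have := congrArg (· * trN 7) e
      rw [one_mul, mul_assoc, sq (by norm_num), mul_one] at this
      exact this.symm
  have hSk : ∀ x ∈ S, x ∈ ρ.ker := by
    simp only [S, Finset.mem_insert, Finset.mem_singleton]
    rintro x (rfl | rfl | rfl | rfl)
    exacts [one_mem _, hk0, hk7, mul_mem hk0 hk7]
  have := Fi22.order_facts.1
  letI : Fintype ρ.ker := Fintype.ofFinite _
  have hgm : g ∈ pfix [0, 7] := by
    intro d hd
    simp only [List.mem_cons, List.not_mem_nil, or_false] at hd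
    rcases hd with rfl | rfl <;> assumption
  have hg : (⟨g, hgm⟩ : pfix [0, 7]) ∈ ρ.ker :=
    Equiv.ext fun k => finj (by rw [hρ]; exact h k k.2)
  have heq : S = (Finset.univ : Finset ρ.ker).map (Function.Embedding.subtype _) := by
    refine Finset.eq_of_subset_of_card_le (fun x hx => Finset.mem_map.2 ⟨⟨x, hSk x hx⟩, Finset.mem_univ _, rfl⟩) ?_
    rw [Finset.card_map, Finset.card_univ, hS, ← Nat.card_eq_fintype_card]
    exact hker
  have hgS : (⟨g, hgm⟩ : pfix [0, 7]) ∈ S := heq ▸ Finset.mem_map.2 ⟨⟨_, hg⟩, Finset.mem_univ _, rfl⟩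
  simp only [S, Finset.mem_insert, Finset.mem_singleton, Subtype.ext_iff, Subgroup.coe_mul, Subgroup.coe_one] at hgS
  exact hgS

end Cfsg.Agent.FischerQuad
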