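import Cfsg.Agent.Lib.FischerQuad.Data
import Cfsg.Agent.Lib.Compute.CosetCert
import Mathlib.GroupTheory.Perm.Sign
import Mathlib.Data.List.Sublists

/-!
The rank three geometry on the 45 blocks: its automorphisms, and its closed sets in which every member
commutes with exactly three others.
-/

set_option autoImplicit false
set_option maxRecDepth 100000

namespace Cfsg.Agent.FischerQuad

open Cfsg.Agent.PermCert (Elt one validElt toPerm rep_toPerm genGroup)

/-- The image of a block under a transposition of another. -/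
def rr (i j : ℕ) : ℕ := PermCert.get 6 (r45.getD i (one 6 45)).1 j

/-- Two blocks commute. -/
def cc (i j : ℕ) : Bool := Nat.beq (rr i j) j

theorem rows_valid : (r45.all fun e => validElt 6 45 e) = true ∧ r45.length = 45 := by decide +kernel

theorem rr_lt (i : ℕ) (j : Fin 45) : rr i j < 45 := by
  unfold rr
  rcases Nat.lt_or_ge i r45.length with h | h
  · rw [List.getD_eq_getElem _ _ h]
    have := PermCert.rep_toPerm (List.all_eq_true.1 rows_valid.1 _ (List.getElem_mem h)) j
    rw [this.1]
    exact Fin.isLt _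
  · rw [List.getD_eq_default _ _ h]
    show PermCert.get 6 (PermCert.idCode 6 45) j < 45
    rw [PermCert.get_idCode 6 45 j (by norm_num) j.2]
    exact j.2

/-- The same on indices. -/
def rF (i j : Fin 45) : Fin 45 := ⟨rr i j, rr_lt i j⟩

/-- Two blocks commute. -/
def Cm (i j : Fin 45) : Prop := rF i j = j

instance (i j : Fin 45) : Decidable (Cm i j) := inferInstanceAs (Decidable (rF i j = j))

theorem cm_iff {i j : Fin 45} : Cm i j ↔ cc i j = true := by
  rw [Cm, cc, Nat.beq_eq, Fin.ext_iff]
  rfl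

theorem cm_symm_ok : (CosetCert.allBelow (fun i => CosetCert.allBelow (fun j => cc i j == cc j i) 45) 45) = true := by
  decide +kernel

theorem cm_symm {i j : Fin 45} (h : Cm i j) : Cm j i := by
  rw [cm_iff] at h ⊢
  have := CosetCert.allBelow_spec (CosetCert.allBelow_spec cm_symm_ok i.2) j.2
  rw [beq_iff_eq] at this
  rw [← this, h]

theorem cm_self_ok : (CosetCert.allBelow (fun i => cc i i) 45) = true := by decide +kernel

theorem cm_self (i : Fin 45) : Cm i i := cm_iff.2 (CosetCert.allBelow_spec cm_self_ok i.2)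

/-! ### Counts -/

theorem mu_ok : (CosetCert.allBelow (fun i => CosetCert.allBelow (fun j => cc i j ||
    Nat.beq ((List.range 45).filter fun k => cc i k && cc j k).length 3) 45) 45) = true := by decide +kernel

theorem deg_ok : (CosetCert.allBelow (fun i =>
    Nat.beq ((List.range 45).filter fun k => cc i k).length 13) 45) = true := by decide +kernel

theorem card_filter_range (f : ℕ → Bool) (P : Fin 45 → Prop) [DecidablePred P] (h : ∀ k : Fin 45, P k ↔ f k = true) :
    (Finset.univ.filter P).card = ((List.range 45).filter f).length := by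
  rw [← List.toFinset_card_of_nodup (List.nodup_range.filter _), ← Finset.card_map Fin.valEmbedding]
  congr 1
  ext k
  simp only [Finset.mem_map, Finset.mem_filter, Finset.mem_univ, true_and, List.mem_toFinset, List.mem_filter,
    List.mem_range, Fin.valEmbedding_apply]
  constructor
  · rintro ⟨k, hk, rfl⟩
    exact ⟨k.2, (h k).1 hk⟩
  · rintro ⟨hk, hf⟩
    exact ⟨⟨k, hk⟩, (h ⟨k, hk⟩).2 hf, rfl⟩

/-- Two blocks that do not commute have three common commuting blocks. -/
theorem card_mu {i j : Fin 45} (h : ¬ Cm i j) :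
    (Finset.univ.filter fun k => Cm i k ∧ Cm j k).card = 3 := by
  rw [card_filter_range (fun k => cc i k && cc j k) _ (fun k => by simp [cm_iff])]
  have := CosetCert.allBelow_spec (CosetCert.allBelow_spec mu_ok i.2) j.2
  rw [Bool.or_eq_true, Nat.beq_eq] at this
  exact this.resolve_left fun e => h (cm_iff.2 e)

/-- A block commutes with itself and twelve others. -/
theorem card_deg (i : Fin 45) : (Finset.univ.filter fun k => Cm i k).card = 13 := by
  rw [card_filter_range (fun k => cc i k) _ (fun k => cm_iff)]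
  exact Nat.eq_of_beq_eq_true (CosetCert.allBelow_spec deg_ok i.2)

/-! ### The five blocks -/

/-- The five blocks. -/
def f5 (k : ℕ) : Fin 45 := ⟨five.getD k 0 % 45, Nat.mod_lt _ (by norm_num)⟩

/-- Derivation check: each new block is the image of an earlier one under an earlier one. -/
def derOK : List ℕ → List (ℕ × ℕ × ℕ) → Bool
  | have_, [] => CosetCert.allBelow (fun i => have_.any fun x => Nat.beq x i) 45
  | have_, (c, a, b) :: l => (have_.any fun x => Nat.beq x a) && (have_.any fun x => Nat.beq x b) &&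
      Nat.beq (rr a b) c && derOK (have_ ++ [c]) l

theorem deriv_ok : derOK ((List.range 5).map fun k => (f5 k).val) deriv = true := by decide +kernel

theorem derOK_spec {P : Fin 45 → Prop} (hc : ∀ a b, P a → P b → P (rF a b)) :
    ∀ (l : List (ℕ × ℕ × ℕ)) (hv : List ℕ), (∀ x ∈ hv, ∃ h : x < 45, P ⟨x, h⟩) → derOK hv l = true →
      ∀ i, P i := by
  intro l
  induction l with
  | nil =>
    intro hv hP h i
    obtain ⟨x, hx, he⟩ := List.any_eq_true.1 (CosetCert.allBelow_spec h i.2)
    obtain ⟨hlt, hp⟩ := hP x hx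
    obtain rfl : (⟨x, hlt⟩ : Fin 45) = i := Fin.ext (Nat.eq_of_beq_eq_true he)
    exact hp
  | cons d l ih =>
    obtain ⟨c, a, b⟩ := d
    intro hv hP h
    simp only [derOK, Bool.and_eq_true, Nat.beq_eq, List.any_eq_true] at h
    obtain ⟨⟨⟨⟨x, hx, rfl⟩, ⟨y, hy, rfl⟩⟩, rfl⟩, hrest⟩ := h
    refine ih _ (fun u hu => ?_) hrest
    rcases List.mem_append.1 hu with hu | hu
    · exact hP u hu
    · rw [List.mem_singleton] at hu
      obtain ⟨hxl, hxp⟩ := hP x hx
      obtain ⟨hyl, hyp⟩ := hP y hy
      subst hu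
      exact ⟨rr_lt x ⟨y, hyl⟩, hc _ _ hxp hyp⟩

/-- A property of the five closed under conjugation holds everywhere. -/
theorem five_induction {P : Fin 45 → Prop} (h5 : ∀ k < 5, P (f5 k)) (hc : ∀ a b, P a → P b → P (rF a b)) :
    ∀ i, P i := by
  refine derOK_spec hc _ _ (fun x hx => ?_) deriv_ok
  obtain ⟨k, hk, rfl⟩ := List.mem_map.1 hx
  exact ⟨(f5 k).2, h5 k (List.mem_range.1 hk)⟩

theorem five_pattern : (¬ Cm (f5 0) (f5 1) ∧ Cm (f5 0) (f5 2) ∧ Cm (f5 0) (f5 3) ∧ Cm (f5 0) (f5 4)) ∧
    (¬ Cm (f5 1) (f5 2) ∧ ¬ Cm (f5 1) (f5 3) ∧ Cm (f5 1) (f5 4)) ∧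
    (¬ Cm (f5 2) (f5 3) ∧ Cm (f5 2) (f5 4)) ∧ ¬ Cm (f5 3) (f5 4) ∧
    ¬ Cm (f5 1) (rF (f5 2) (f5 3)) ∧ ¬ Cm (f5 2) (rF (f5 3) (f5 1)) := by decide +kernel

/-! ### The rows as permutations -/

/-- The permutation of a row. -/
noncomputable def rowPerm (i : Fin 45) : Equiv.Perm (Fin 45) := toPerm 6 45 (r45.getD i (one 6 45))

theorem row_valid (i : Fin 45) : validElt 6 45 (r45.getD i (one 6 45)) = true := by
  have h : (i : ℕ) < r45.length := by rw [rows_valid.2]; exact i.2
  rw [List.getD_eq_getElem _ _ h]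
  exact List.all_eq_true.1 rows_valid.1 _ (List.getElem_mem h)

theorem rowPerm_apply (i j : Fin 45) : rowPerm i j = rF i j :=
  Fin.ext ((rep_toPerm (row_valid i) j).1.symm)

/-- A word in the five. -/
noncomputable def pW (w : List ℕ) : Equiv.Perm (Fin 45) := (w.reverse.map fun k => rowPerm (f5 k)).prod

theorem pW_apply : ∀ (w : List ℕ) (j : Fin 45), ((pW w j : Fin 45) : ℕ) = w.foldl (fun x k => rr (f5 k) x) j := by
  intro w
  induction w with
  | nil => intro j; rfl
  | cons k w ih =>
    intro j
    rw [List.foldl_cons, show pW (k :: w) = pW w * rowPerm (f5 k) by simp [pW], Equiv.Perm.mul_apply, ih,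
      rowPerm_apply]
    rfl

/-- The permutations preserving the operation. -/
def AutR : Subgroup (Equiv.Perm (Fin 45)) where
  carrier := {σ | ∀ i j, σ (rF i j) = rF (σ i) (σ j)}
  one_mem' := fun _ _ => rfl
  mul_mem' := fun {σ τ} hσ hτ i j => by
    rw [Equiv.Perm.mul_apply, hτ i j, hσ]
    rfl
  inv_mem' := fun {σ} hσ i j => σ.injective (by
    rw [hσ]
    exact (σ.apply_symm_apply _).trans (congrArg₂ rF (σ.apply_symm_apply i).symm (σ.apply_symm_apply j).symm))

theorem five_aut_ok : (CosetCert.allBelow (fun k => CosetCert.allBelow (fun i => CosetCert.allBelow (fun j =>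
    Nat.beq (rr (f5 k) (rr i j)) (rr (rr (f5 k) i) (rr (f5 k) j))) 45) 45) 5) = true := by decide +kernel

theorem row_mem_aut {k : ℕ} (hk : k < 5) : rowPerm (f5 k) ∈ AutR := by
  intro i j
  simp only [rowPerm_apply]
  exact Fin.ext (Nat.eq_of_beq_eq_true
    (CosetCert.allBelow_spec (CosetCert.allBelow_spec (CosetCert.allBelow_spec five_aut_ok hk) i.2) j.2))

theorem pW_mem_aut {w : List ℕ} (hw : (w.all fun k => Nat.blt k 5) = true) : pW w ∈ AutR := by
  refine Subgroup.list_prod_mem _ fun x hx => ?_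
  obtain ⟨k, hk, rfl⟩ := List.mem_map.1 hx
  exact row_mem_aut (Nat.le_of_ble_eq_true (List.all_eq_true.1 hw k (List.mem_reverse.1 hk)))

theorem aut_cm {σ : Equiv.Perm (Fin 45)} (hσ : σ ∈ AutR) (i j : Fin 45) : Cm (σ i) (σ j) ↔ Cm i j := by
  simp only [Cm, ← hσ i j, σ.injective.eq_iff]

theorem aut_eq_one {σ : Equiv.Perm (Fin 45)} (hσ : σ ∈ AutR) (h : ∀ k < 5, σ (f5 k) = f5 k) : σ = 1 :=
  Equiv.ext (five_induction (P := fun i => σ i = i) h fun a b ha hb => by rw [hσ, ha, hb])

/-- Candidates for the images of the other four when the second is fixed. -/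
def quads : List (ℕ × ℕ × ℕ × ℕ) :=
  ((List.range 45).filter fun u => !(cc (f5 1) u)).flatMap fun u =>
    ((List.range 45).filter fun v => !(cc (f5 1) v) && !(cc u v) && !(cc (f5 1) (rr u v))).flatMap fun v =>
      ((List.range 45).filter fun s => !(cc s (f5 1)) && cc s u && cc s v).flatMap fun s =>
        ((List.range 45).filter fun w => !(cc w v) && cc w (f5 1) && cc w u && cc w s).map fun w => (s, u, v, w)

theorem quads_length : quads.length = 1152 := by decide +kernel

theorem toSecond_ok : (CosetCert.allBelow (fun j => ((toSecond.getD j []).all fun k => Nat.blt k 5) &&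
    Nat.beq ((toSecond.getD j []).foldl (fun x k => rr (f5 k) x) j) (f5 1).val) 45) = true := by decide +kernel

theorem exists_to_second (j : Fin 45) : ∃ τ ∈ AutR, τ j = f5 1 := by
  have h := CosetCert.allBelow_spec toSecond_ok j.2
  rw [Bool.and_eq_true, Nat.beq_eq] at h
  exact ⟨_, pW_mem_aut h.1, Fin.ext ((pW_apply _ j).trans h.2)⟩

/-- At most 51840 automorphisms. -/
theorem card_aut_le : Nat.card AutR ≤ 51840 := by
  classical
  choose τ hτ hτj using exists_to_second
  obtain ⟨⟨p01, p02, p03, p04⟩, ⟨p12, p13, p14⟩, ⟨p23, p24⟩, p34, pd, -⟩ := five_pattern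
  let q : AutR → Fin 45 × {x // x ∈ quads} := fun σ => (σ.1 (f5 1),
    ⟨(((τ (σ.1 (f5 1)) * σ.1) (f5 0) : ℕ), ((τ (σ.1 (f5 1)) * σ.1) (f5 2) : ℕ),
      ((τ (σ.1 (f5 1)) * σ.1) (f5 3) : ℕ), ((τ (σ.1 (f5 1)) * σ.1) (f5 4) : ℕ)), by
      have hm : τ (σ.1 (f5 1)) * σ.1 ∈ AutR := mul_mem (hτ _) σ.2
      have h1 : (τ (σ.1 (f5 1)) * σ.1) (f5 1) = f5 1 := hτj _
      set ρ := τ (σ.1 (f5 1)) * σ.1
      have key : ∀ {i j : Fin 45}, Cm i j → cc (ρ i) (ρ j) = true := fun h => cm_iff.1 ((aut_cm hm _ _).2 h)
      have key' : ∀ {i j : Fin 45}, ¬ Cm i j → cc (ρ i) (ρ j) = false := fun h =>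
        Bool.eq_false_iff.2 fun e => h ((aut_cm hm _ _).1 (cm_iff.2 e))
      have hd : cc (ρ (f5 1)) (rr (ρ (f5 2)) (ρ (f5 3))) = false := by
        rw [show rr (ρ (f5 2)) (ρ (f5 3)) = ((rF (ρ (f5 2)) (ρ (f5 3)) : Fin 45) : ℕ) from rfl, ← hm]
        exact key' pd
      have a1 := key' p12
      have a2 := key' p13
      have a3 := key' p01
      have a4 : cc (ρ (f5 4)) (ρ (f5 1)) = true := key (cm_symm p14)
      rw [h1] at a1 a2 a3 a4 hd
      simp only [quads, List.mem_flatMap, List.mem_map, List.mem_filter, List.mem_range, Bool.and_eq_true,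
        Bool.not_eq_true']
      exact ⟨_, ⟨Fin.isLt _, a1⟩, _, ⟨Fin.isLt _, ⟨a2, key' p23⟩, hd⟩, _,
        ⟨Fin.isLt _, ⟨a3, key p02⟩, key p03⟩, _,
        ⟨Fin.isLt _, ⟨⟨key' fun h => p34 (cm_symm h), a4⟩, key (cm_symm p24)⟩, key (cm_symm p04)⟩, rfl⟩⟩)
  have hq : Function.Injective q := by
    intro σ σ' h
    simp only [q, Prod.mk.injEq, Subtype.mk.injEq] at h
    obtain ⟨e1, e0, e2, e3, e4⟩ := h
    rw [← e1] at e0 e2 e3 e4
    have e : ∀ k < 5, (σ'.1⁻¹ * σ.1) (f5 k) = f5 k := by
      intro k hk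
      rw [Equiv.Perm.mul_apply, show ∀ x y, (σ'.1⁻¹ x = y ↔ x = σ'.1 y) from fun x y => Equiv.symm_apply_eq _]
      interval_cases k
      exacts [(τ _).injective (Fin.ext e0), e1, (τ _).injective (Fin.ext e2), (τ _).injective (Fin.ext e3),
        (τ _).injective (Fin.ext e4)]
    have := aut_eq_one (mul_mem (inv_mem σ'.2) σ.2) e
    exact Subtype.ext (inv_mul_eq_one.1 this).symm
  refine (Nat.card_le_card_of_injective q hq).trans ?_
  rw [Nat.card_prod, Nat.card_fin, Nat.card_eq_fintype_card, Fintype.card_of_subtype quads.toFinset (by simp)]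
  have := (List.toFinset_card_le quads).trans quads_length.le
  omega

/-! ### Closed sets -/

/-- The members of a bit set. -/
def elems (m : ℕ) : List ℕ := (List.range 45).filter fun j => CosetCert.bit m j

/-- Add the images of members under members. -/
def stepM (m : ℕ) : ℕ :=
  (elems m).foldl (fun acc a => (elems m).foldl (fun acc b => CosetCert.insBit acc (rr a b)) acc) m

/-- Three rounds of it. -/
def clM (m : ℕ) : ℕ := stepM (stepM (stepM m))

/-- The commuting degree inside a bit set. -/
def degM (e : List ℕ) (a : ℕ) : ℕ := (e.filter fun b => !(Nat.beq a b) && cc a b).length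

/-- Every closed set above `m` of degree three and size at least thirteen is listed. -/
def goodM : ℕ → ℕ → Bool
  | 0, _ => false
  | fuel + 1, m =>
    let e := elems m
    (e.any fun a => Nat.blt 3 (degM e a)) ||
      (let full := e.all fun a => Nat.beq (degM e a) 3
       (!full || Nat.blt e.length 13 || list40.any fun p => Nat.beq p.1 m) &&
        CosetCert.allBelow (fun x => CosetCert.bit m x || (full && e.any fun a => cc a x) ||
          goodM fuel (clM (CosetCert.insBit m x))) 45)

/-- The start: a block and three blocks commuting with it. -/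
def starts : List ℕ :=
  (List.sublistsLen 3 ((List.range 45).filter fun j => !(Nat.beq (f5 1).val j) && cc (f5 1) j)).map fun l =>
    clM (l.foldl CosetCert.insBit (CosetCert.insBit 0 (f5 1).val))

theorem starts_good : (starts.all fun m => goodM 10 m) = true := by decide +kernel

/-- The set of a bit set lies inside `S`. -/
def InS (S : Finset (Fin 45)) (m : ℕ) : Prop := ∀ j, CosetCert.bit m j = true → ∃ h : j < 45, (⟨j, h⟩ : Fin 45) ∈ S

theorem InS.ins {S : Finset (Fin 45)} {m : ℕ} (h : InS S m) {x : Fin 45} (hx : x ∈ S) :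
    InS S (CosetCert.insBit m x) := fun j hj => by
  rcases CosetCert.bit_insBit hj with rfl | hj
  exacts [⟨x.2, hx⟩, h j hj]

theorem InS.ins' {S : Finset (Fin 45)} (hS : ∀ a ∈ S, ∀ b ∈ S, rF a b ∈ S) {m : ℕ} (h : InS S m) :
    InS S (stepM m) := by
  have hmem : ∀ a ∈ elems m, ∃ ha : a < 45, (⟨a, ha⟩ : Fin 45) ∈ S := fun a ha => h a (List.mem_filter.1 ha).2
  have key : ∀ (l : List ℕ), (∀ a ∈ l, a ∈ elems m) → ∀ acc, InS S acc →
      InS S (l.foldl (fun acc a => (elems m).foldl (fun acc b => CosetCert.insBit acc (rr a b)) acc) acc) := by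
    intro l
    induction l with
    | nil => intro _ acc hacc; exact hacc
    | cons a l ih =>
      intro hl acc hacc
      refine ih (fun x hx => hl x (List.mem_cons_of_mem _ hx)) _ ?_
      obtain ⟨ha, haS⟩ := hmem a (hl a List.mem_cons_self)
      have : ∀ (l : List ℕ), (∀ b ∈ l, b ∈ elems m) → ∀ acc, InS S acc →
          InS S (l.foldl (fun acc b => CosetCert.insBit acc (rr a b)) acc) := by
        intro l
        induction l with
        | nil => intro _ acc hacc; exact hacc
        | cons b l ih' =>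
          intro hl acc hacc
          refine ih' (fun x hx => hl x (List.mem_cons_of_mem _ hx)) _ ?_
          obtain ⟨hb, hbS⟩ := hmem b (hl b List.mem_cons_self)
          exact hacc.ins (hS _ haS _ hbS)
      exact this _ (fun b hb => hb) _ hacc
  exact key _ (fun a ha => ha) _ h

theorem InS.cl {S : Finset (Fin 45)} (hS : ∀ a ∈ S, ∀ b ∈ S, rF a b ∈ S) {m : ℕ} (h : InS S m) :
    InS S (clM m) := ((h.ins' hS).ins' hS).ins' hS

/-- Degree three within. -/
def Deg3 (S : Finset (Fin 45)) : Prop := ∀ a ∈ S, (S.filter fun b => b ≠ a ∧ Cm a b).card = 3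

theorem deg_le {S : Finset (Fin 45)} {m : ℕ} (h : InS S m) (a : Fin 45) :
    degM (elems m) a ≤ (S.filter fun b => b ≠ a ∧ Cm a b).card := by
  rw [degM, elems, ← List.toFinset_card_of_nodup ((List.nodup_range.filter _).filter _),
    ← Finset.card_map Fin.valEmbedding]
  refine Finset.card_le_card fun b hb => ?_
  simp only [elems, List.mem_toFinset, List.mem_filter, Bool.and_eq_true, Bool.not_eq_true'] at hb
  obtain ⟨⟨-, hbit⟩, hne, hc⟩ := hb
  obtain ⟨hlt, hbS⟩ := h b hbit
  refine Finset.mem_map.2 ⟨⟨b, hlt⟩, Finset.mem_filter.2 ⟨hbS, fun e => ?_, cm_iff.2 hc⟩, rfl⟩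
  rw [← e] at hne
  simp at hne

theorem goodM_sound {S : Finset (Fin 45)} (hS : ∀ a ∈ S, ∀ b ∈ S, rF a b ∈ S) (h3 : Deg3 S) (h13 : 13 ≤ S.card) :
    ∀ (fuel m : ℕ), InS S m → goodM fuel m = true →
      ∃ p ∈ list40, ∀ j : Fin 45, j ∈ S ↔ CosetCert.bit p.1 j = true := by
  intro fuel
  induction fuel with
  | zero => intro m _ h; simp [goodM] at h
  | succ fuel ih =>
    intro m hm h
    simp only [goodM, Bool.or_eq_true, Bool.and_eq_true] at h
    rcases h with h | ⟨h1, h2⟩
    · obtain ⟨a, ha, hlt⟩ := List.any_eq_true.1 h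
      obtain ⟨ha45, haS⟩ := hm a (List.mem_filter.1 ha).2
      have := deg_le hm ⟨a, ha45⟩
      rw [h3 _ haS] at this
      simp only [Nat.blt_eq] at hlt
      simp only at this
      omega
    by_cases hall : ∀ j ∈ S, CosetCert.bit m (j : ℕ) = true
    · -- the bit set is all of it
      have heq : ∀ j : Fin 45, j ∈ S ↔ CosetCert.bit m j = true :=
        fun j => ⟨hall j, fun hb => (hm j hb).2⟩
      have hlen : (elems m).length = S.card := by
        rw [elems, ← List.toFinset_card_of_nodup (List.nodup_range.filter _), ← Finset.card_map Fin.valEmbedding]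
        congr 1
        ext k
        simp only [elems, List.mem_toFinset, List.mem_filter, List.mem_range, Finset.mem_map,
          Fin.valEmbedding_apply]
        constructor
        · rintro ⟨hk, hb⟩
          exact ⟨⟨k, hk⟩, (heq _).2 hb, rfl⟩
        · rintro ⟨k, hk, rfl⟩
          exact ⟨k.2, (heq k).1 hk⟩
      have hfull : ((elems m).all fun a => Nat.beq (degM (elems m) a) 3) = true := by
        rw [List.all_eq_true]
        intro a ha
        obtain ⟨ha45, haS⟩ := hm a (List.mem_filter.1 ha).2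
        rw [Nat.beq_eq, ← h3 _ haS, degM, elems, ← List.toFinset_card_of_nodup ((List.nodup_range.filter _).filter _),
          ← Finset.card_map Fin.valEmbedding]
        congr 1
        ext b
        simp only [elems, List.mem_toFinset, List.mem_filter, Bool.and_eq_true, Bool.not_eq_true', List.mem_range,
          Finset.mem_map, Finset.mem_filter, Fin.valEmbedding_apply]
        constructor
        · rintro ⟨⟨hb, hbit⟩, hne, hc⟩
          refine ⟨⟨b, hb⟩, ⟨(heq _).2 hbit, fun e => ?_, cm_iff.2 hc⟩, rfl⟩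
          have e' : b = a := congrArg Fin.val e
          rw [e'] at hne
          simp at hne
        · rintro ⟨b, ⟨hb, hne, hc⟩, rfl⟩
          refine ⟨⟨b.2, (heq b).1 hb⟩, ?_, cm_iff.1 hc⟩
          rw [Bool.eq_false_iff, Ne, Nat.beq_eq]
          exact fun e => hne (Fin.ext e.symm)
      simp only [hfull, Bool.not_true, Bool.false_eq_true, false_or, Nat.blt_eq, hlen] at h1
      rcases h1 with h1 | h1
      · omega
      · obtain ⟨p, hp, he⟩ := List.any_eq_true.1 h1
        exact ⟨p, hp, fun j => by rw [heq, Nat.eq_of_beq_eq_true he]⟩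
    push Not at hall
    obtain ⟨x, hxS, hxm⟩ := hall
    have := CosetCert.allBelow_spec h2 x.2
    simp only [Bool.or_eq_true, Bool.and_eq_true] at this
    rcases this with (h' | ⟨hf, hadj⟩) | h'
    · exact absurd h' hxm
    · -- the neighbours inside are already complete
      obtain ⟨a, ha, hax⟩ := List.any_eq_true.1 hadj
      have haf := List.all_eq_true.1 hf a ha
      rw [Nat.beq_eq] at haf
      obtain ⟨ha45, haS⟩ := hm a (List.mem_filter.1 ha).2
      have hstep := deg_le (hm.ins hxS) ⟨a, ha45⟩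
      rw [h3 _ haS] at hstep
      have hgt : 3 < degM (elems (CosetCert.insBit m x)) a := by
        rw [← haf, degM, degM, elems, elems, ← List.toFinset_card_of_nodup ((List.nodup_range.filter _).filter _),
          ← List.toFinset_card_of_nodup ((List.nodup_range.filter _).filter _)]
        refine Finset.card_lt_card ⟨fun b hb => ?_, fun hsub => ?_⟩
        · simp only [elems, List.mem_toFinset, List.mem_filter] at hb ⊢
          exact ⟨⟨hb.1.1, CosetCert.bit_insBit_of hb.1.2⟩, hb.2⟩
        · have hxin : (x : ℕ) ∈ ((elems (CosetCert.insBit m x)).filter fun b => !(Nat.beq a b) && cc a b).toFinset := by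
            simp only [elems, List.mem_toFinset, List.mem_filter, List.mem_range, Bool.and_eq_true, Bool.not_eq_true']
            refine ⟨⟨x.2, CosetCert.bit_insBit_self _ _⟩, ?_, hax⟩
            rw [Bool.eq_false_iff, Ne, Nat.beq_eq]
            exact fun e => hxm (e ▸ (List.mem_filter.1 ha).2)
          have := hsub hxin
          simp only [elems, List.mem_toFinset, List.mem_filter] at this
          exact hxm this.1.2
      simp only at hstep
      omega
    · exact ih _ ((hm.ins hxS).cl hS) h'

theorem list40_image_ok : (list40.all fun p => list40.length == 40 && (p.2.all fun k => Nat.blt k 5) &&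
    CosetCert.allBelow (fun j => CosetCert.bit p.1 (p.2.foldl (fun x k => rr (f5 k) x) j) == CosetCert.bit S0 j) 45) = true := by
  decide +kernel

theorem list40_closed_ok : (list40.all fun p => CosetCert.allBelow (fun k => list40.any fun q =>
    CosetCert.allBelow (fun j => CosetCert.bit q.1 (rr (f5 k) j) == CosetCert.bit p.1 j) 45) 5) = true := by
  decide +kernel

theorem list40_distinct_ok : ((list40.map fun p => p.1 % 2 ^ 45).dedup.length == 40) = true := by decide +kernel

/-- A set listed in the table. -/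
def Listed (S : Finset (Fin 45)) : Prop := ∃ p ∈ list40, ∀ j : Fin 45, j ∈ S ↔ CosetCert.bit p.1 j = true

theorem listed_row {S : Finset (Fin 45)} (h : Listed S) {k : ℕ} (hk : k < 5) :
    Listed (S.image (rowPerm (f5 k))) := by
  obtain ⟨p, hp, hS⟩ := h
  obtain ⟨q, hq, he⟩ := List.any_eq_true.1 (CosetCert.allBelow_spec (List.all_eq_true.1 list40_closed_ok p hp) hk)
  refine ⟨q, hq, fun j => ?_⟩
  obtain ⟨i, rfl⟩ := (rowPerm (f5 k)).surjective j
  rw [(rowPerm (f5 k)).injective.mem_finset_image, hS i, rowPerm_apply]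
  have := CosetCert.allBelow_spec he i.2
  rw [beq_iff_eq] at this
  rw [show ((rF (f5 k) i : Fin 45) : ℕ) = rr (f5 k) i from rfl, this]

theorem rr_invol_ok : (CosetCert.allBelow (fun k => CosetCert.allBelow (fun j =>
    Nat.beq (rr (f5 k) (rr (f5 k) j)) j) 45) 5) = true := by decide +kernel

theorem row_sq {k : ℕ} (hk : k < 5) (j : Fin 45) : rowPerm (f5 k) (rowPerm (f5 k) j) = j := by
  rw [rowPerm_apply, rowPerm_apply]
  exact Fin.ext (Nat.eq_of_beq_eq_true (CosetCert.allBelow_spec (CosetCert.allBelow_spec rr_invol_ok hk) j.2))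

theorem listed_word {w : List ℕ} (hw : (w.all fun k => Nat.blt k 5) = true) {S : Finset (Fin 45)}
    (h : Listed (S.image (pW w))) : Listed S := by
  induction w generalizing S with
  | nil => simpa [pW] using h
  | cons k w ih =>
    rw [List.all_cons, Bool.and_eq_true, Nat.blt_eq] at hw
    have e : S.image (pW (k :: w)) = (S.image (rowPerm (f5 k))).image (pW w) := by
      rw [Finset.image_image]
      refine Finset.image_congr fun j _ => ?_
      rw [show pW (k :: w) = pW w * rowPerm (f5 k) by simp [pW]]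
      rfl
    rw [e] at h
    have h' := listed_row (ih hw.2 h) hw.1
    rw [Finset.image_image] at h'
    rwa [show (rowPerm (f5 k) : Fin 45 → Fin 45) ∘ rowPerm (f5 k) = id from funext (row_sq hw.1),
      Finset.image_id] at h'

/-- The closed sets of degree three with at least thirteen members are listed. -/
theorem closed_listed {S : Finset (Fin 45)} (hS : ∀ a ∈ S, ∀ b ∈ S, rF a b ∈ S) (h3 : Deg3 S)
    (h13 : 13 ≤ S.card) : Listed S := by
  classical
  obtain ⟨s, hs⟩ := Finset.card_pos.1 (show 0 < S.card by omega)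
  have hw := CosetCert.allBelow_spec toSecond_ok s.2
  rw [Bool.and_eq_true, Nat.beq_eq] at hw
  set τ := pW (toSecond.getD s []) with hτdef
  have hτ : τ ∈ AutR := pW_mem_aut hw.1
  have hts : τ s = f5 1 := Fin.ext ((pW_apply _ s).trans hw.2)
  refine listed_word hw.1 ?_
  rw [← hτdef]
  set T := S.image τ with hTdef
  have hT : ∀ a ∈ T, ∀ b ∈ T, rF a b ∈ T := by
    simp only [hTdef, Finset.mem_image]
    rintro _ ⟨a, ha, rfl⟩ _ ⟨b, hb, rfl⟩
    exact ⟨rF a b, hS a ha b hb, hτ a b⟩
  have hT3 : Deg3 T := by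
    intro x hx
    obtain ⟨a, ha, rfl⟩ := Finset.mem_image.1 hx
    rw [← h3 a ha, hTdef, Finset.filter_image, Finset.card_image_of_injective _ τ.injective]
    congr 1
    refine Finset.filter_congr fun b _ => ?_
    rw [ne_eq, τ.injective.eq_iff, aut_cm hτ]
  have ht : f5 1 ∈ T := hts ▸ Finset.mem_image_of_mem τ hs
  have hnb := hT3 _ ht
  let nbl := (List.range 45).filter fun j => !(Nat.beq (f5 1).val j) && cc (f5 1) j
  let l := nbl.filter fun j => decide (∃ h : j < 45, (⟨j, h⟩ : Fin 45) ∈ T)
  have hl : l.length = 3 := by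
    rw [← hnb, ← List.toFinset_card_of_nodup ((List.nodup_range.filter _).filter _),
      ← Finset.card_map Fin.valEmbedding]
    congr 1
    ext j
    simp only [nbl, l, List.mem_toFinset, List.mem_filter, List.mem_range, Bool.and_eq_true, Bool.not_eq_true',
      decide_eq_true_eq, Finset.mem_map, Finset.mem_filter, Fin.valEmbedding_apply]
    constructor
    · rintro ⟨⟨hj, hne, hc⟩, hlt, hjT⟩
      refine ⟨⟨j, hj⟩, ⟨hjT, fun e => ?_, cm_iff.2 hc⟩, rfl⟩
      rw [← (congrArg Fin.val e : j = _)] at hne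
      simp at hne
    · rintro ⟨j, ⟨hjT, hne, hc⟩, rfl⟩
      refine ⟨⟨j.2, ?_, cm_iff.1 hc⟩, j.2, hjT⟩
      rw [Bool.eq_false_iff, Ne, Nat.beq_eq]
      exact fun e => hne (Fin.ext e.symm)
  have hgood := List.all_eq_true.1 starts_good _
    (List.mem_map.2 ⟨l, List.mem_sublistsLen.2 ⟨List.filter_sublist, hl⟩, rfl⟩)
  refine goodM_sound hT hT3 (by rw [hTdef, Finset.card_image_of_injective _ τ.injective]; exact h13) _ _
    (InS.cl hT ?_) hgood
  have key : ∀ (l : List ℕ), (∀ j ∈ l, ∃ h : j < 45, (⟨j, h⟩ : Fin 45) ∈ T) → ∀ m, InS T m →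
      InS T (l.foldl CosetCert.insBit m) := by
    intro l
    induction l with
    | nil => intro _ m hm; exact hm
    | cons j l ih =>
      intro hl m hm
      obtain ⟨hj, hjT⟩ := hl j List.mem_cons_self
      exact ih (fun x hx => hl x (List.mem_cons_of_mem _ hx)) _ (hm.ins hjT)
  refine key _ (fun j hj => of_decide_eq_true (List.mem_filter.1 hj).2) _ ?_
  intro j hj
  rcases CosetCert.bit_insBit hj with rfl | hj
  · exact ⟨(f5 1).2, ht⟩
  · rw [CosetCert.bit_zero] at hj
    exact absurd hj (by simp)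

/-- The eighteen of the sixth generator. -/
def S0set : Finset (Fin 45) := Finset.univ.filter fun j => CosetCert.bit S0 (j : ℕ) = true

theorem S0_five_ok : (CosetCert.bit S0 (f5 0).val && CosetCert.bit S0 (f5 1).val &&
    CosetCert.bit S0 (f5 2).val && CosetCert.bit S0 (f5 3).val && !(CosetCert.bit S0 (f5 4).val)) = true := by
  decide +kernel

theorem S0_mem : f5 0 ∈ S0set ∧ f5 1 ∈ S0set ∧ f5 2 ∈ S0set ∧ f5 3 ∈ S0set ∧ f5 4 ∉ S0set := by
  have h := S0_five_ok
  simp only [Bool.and_eq_true, Bool.not_eq_true'] at h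
  obtain ⟨⟨⟨⟨h0, h1⟩, h2⟩, h3⟩, h4⟩ := h
  simp [S0set, h0, h1, h2, h3, h4]

/-- A listed set is the image of the eighteen under a word in the five. -/
theorem listed_spec {S : Finset (Fin 45)} (h : Listed S) :
    ∃ w : List ℕ, (w.all fun k => Nat.blt k 5) = true ∧ S = S0set.image (pW w) := by
  obtain ⟨p, hp, hS⟩ := h
  have := List.all_eq_true.1 list40_image_ok p hp
  simp only [Bool.and_eq_true, beq_iff_eq] at this
  refine ⟨p.2, this.1.2, ?_⟩
  ext j
  obtain ⟨i, rfl⟩ := (pW p.2).surjective j
  rw [hS, (pW p.2).injective.mem_finset_image, S0set, Finset.mem_filter, pW_apply]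
  have e := CosetCert.allBelow_spec this.2 i.2
  rw [beq_iff_eq] at e
  simp [e]

/-- There are forty images of the eighteen. -/
theorem forty : ∃ Φ : Fin 40 → List ℕ, (∀ i, ((Φ i).all fun k => Nat.blt k 5) = true) ∧
    Function.Injective fun i => S0set.image (pW (Φ i)) := by
  classical
  have hlen : list40.length = 40 := by
    have := List.all_eq_true.1 list40_image_ok
    obtain ⟨p, hp⟩ : ∃ p, p ∈ list40 := ⟨_, List.getElem_mem (show 0 < list40.length by decide +kernel)⟩
    have := this p hp
    simp only [Bool.and_eq_true, beq_iff_eq] at this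
    exact this.1.1
  refine ⟨fun i => (list40[(i : ℕ)]'(hlen.symm ▸ i.2)).2, fun i => ?_, fun i j h => ?_⟩
  · have := List.all_eq_true.1 list40_image_ok _ (List.getElem_mem (hlen.symm ▸ i.2 : (i : ℕ) < list40.length))
    simp only [Bool.and_eq_true] at this
    exact this.1.2
  have hbit : ∀ (p : ℕ × List ℕ), p ∈ list40 → ∀ x : Fin 45,
      (x ∈ S0set.image (pW p.2) ↔ CosetCert.bit p.1 x = true) := by
    intro p hp x
    have := List.all_eq_true.1 list40_image_ok p hp
    simp only [Bool.and_eq_true, beq_iff_eq] at this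
    obtain ⟨y, rfl⟩ := (pW p.2).surjective x
    have e := CosetCert.allBelow_spec this.2 y.2
    rw [beq_iff_eq] at e
    rw [(pW p.2).injective.mem_finset_image, S0set, Finset.mem_filter, pW_apply]
    simp [e]
  have hi : (i : ℕ) < list40.length := hlen.symm ▸ i.2
  have hj : (j : ℕ) < list40.length := hlen.symm ▸ j.2
  have hmod : (list40[(i : ℕ)]).1 % 2 ^ 45 = (list40[(j : ℕ)]).1 % 2 ^ 45 := by
    refine Nat.eq_of_testBit_eq fun k => ?_
    rw [Nat.testBit_mod_two_pow, Nat.testBit_mod_two_pow]
    by_cases hk : k < 45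
    · have h1 := hbit _ (List.getElem_mem hi) ⟨k, hk⟩
      have h2 := hbit _ (List.getElem_mem hj) ⟨k, hk⟩
      simp only at h
      rw [h, h2, CosetCert.bit_eq_testBit, CosetCert.bit_eq_testBit] at h1
      simp only [hk, decide_true, Bool.true_and]
      exact (Bool.eq_iff_iff.2 h1).symm
    · simp [hk]
  have hnd : (list40.map fun p => p.1 % 2 ^ 45).Nodup := by
    have := list40_distinct_ok
    rw [beq_iff_eq] at this
    rw [← List.dedup_eq_self]
    exact List.Sublist.eq_of_length (List.dedup_sublist _) (by rw [this, List.length_map, hlen])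
  refine Fin.ext ?_
  have := (List.Nodup.getElem_inj_iff hnd (i := (i : ℕ)) (j := (j : ℕ)) (hi := by rw [List.length_map]; exact hi)
    (hj := by rw [List.length_map]; exact hj)).1 (by simpa using hmod)
  exact this

end Cfsg.Agent.FischerQuad
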