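import Cfsg.Agent.Lib.FischerQuad.Image
import Cfsg.Agent.Lib.LargeExtra.Basic
import Cfsg.Agent.Lib.FiniteGroup.FrattiniAut
import Cfsg.Agent.Lib.MinNonCA.Basic
import Mathlib.GroupTheory.Perm.Cycle.Type

/-!
The extraspecial group generated by the products of two members of one quad.
-/

set_option autoImplicit false
set_option maxRecDepth 100000
set_option linter.style.haveILetI false

open scoped commutatorElement

namespace Cfsg.Agent.FischerQuad

open Cfsg.Agent.Fischer
open Cfsg.Agent.Fischer.Factor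
open Cfsg.Agent.FischerInvol24

universe u

variable {G : Type u} [Group G] [Finite G] {D : Set G}

/-- The centraliser. -/
abbrev Cz (z : G) : Subgroup G := Subgroup.centralizer {z}

omit [Finite G] in
theorem tuple_perm_prod {z a b c e : G} (h : Tuple D z a b c e) (l : List (Fin 4))
    (hl : l.Perm [0, 1, 2, 3]) : (l.map ![a, b, c, e]).prod = z := by
  rw [← h.2.2.2]
  exact (hl.map ![a, b, c, e]).prod_eq' (List.pairwise_iff_forall_sublist.2 fun {x y} hs => by
    have hx : ∀ w ∈ l.map ![a, b, c, e], w ∈ [a, b, c, e] := fun w hw => (hl.map ![a, b, c, e]).mem_iff.1 hw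
    exact h.2.2.1 _ (hx _ (hs.subset (by simp))) _ (hx _ (hs.subset (by simp))))

/-- The products of two members of one quad. -/
def pairs (D : Set G) (z : G) : Set (Cz z) :=
  {p | ∃ S : Blk D z, ∃ u ∈ S.1, ∃ v ∈ S.1, (p : G) = u * v}

/-- The group of the products of two. -/
def EE (D : Set G) (z : G) : Subgroup (Cz z) := Subgroup.closure (pairs D z)

/-- The product itself. -/
def zc (z : G) : Cz z := ⟨z, Subgroup.mem_centralizer_singleton_iff.2 rfl⟩

/-- Its group of order two. -/
def ZZ (z : G) : Subgroup (Cz z) := Subgroup.zpowers (zc z)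

omit [Finite G] in
theorem zc_central {z : G} (g : Cz z) : g * zc z = zc z * g :=
  Subtype.ext (Subgroup.mem_centralizer_singleton_iff.1 g.2)

omit [Finite G] in
theorem ZZ_center (z : G) : ZZ z ≤ Subgroup.center (Cz z) :=
  Subgroup.zpowers_le.2 (Subgroup.mem_center_iff.2 fun g => zc_central g)

instance ZZ_normal (z : G) : (ZZ z).Normal :=
  ⟨fun n hn g => by rw [Subgroup.mem_center_iff.1 (ZZ_center z hn) g, mul_inv_cancel_right]; exact hn⟩

theorem EE_normal (hT : Cfsg.IsThreeTranspositionGroup D) (z : G) : (EE D z).Normal := by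
  refine ⟨fun n hn g => ?_⟩
  induction hn using Subgroup.closure_induction with
  | mem p hp =>
    obtain ⟨S, u, hu, v, hv, e⟩ := hp
    refine Subgroup.subset_closure ⟨⟨_, S.2.conj hT (g := (g : G)) (Subgroup.mem_centralizer_singleton_iff.1 g.2)⟩,
      _, ⟨u, hu, rfl⟩, _, ⟨v, hv, rfl⟩, ?_⟩
    rw [Subgroup.coe_mul, Subgroup.coe_mul, Subgroup.coe_inv, e]
    group
  | one => simp
  | mul p r _ _ hp hr =>
    have := mul_mem hp hr
    rwa [show g * p * g⁻¹ * (g * r * g⁻¹) = g * (p * r) * g⁻¹ by group] at this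
  | inv p _ hp =>
    have := inv_mem hp
    rwa [show (g * p * g⁻¹)⁻¹ = g * p⁻¹ * g⁻¹ by group] at this

variable (V : Env D)
include V

theorem Env.others {z : G} {S : Blk D z} {u : G} (hu : u ∈ S.1) :
    ∃ v ∈ S.1, ∃ w ∈ S.1, v ≠ u ∧ w ≠ u ∧ v ≠ w := by
  obtain ⟨v, w, r, ht, hS⟩ := S.2.first hu
  obtain ⟨n1, n2, -, n4, -, -⟩ := ht.ne
  exact ⟨v, by rw [hS]; simp, w, by rw [hS]; simp, n1.symm, n2.symm, n4⟩

/-- An element sending the product of two members to itself keeps the two. -/
theorem Env.pair_fixed {u v u' v' : G} (hu : u ∈ D) (hv : v ∈ D) (hu' : u' ∈ D) (hv' : v' ∈ D) (hne : u ≠ v)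
    (hne' : u' ≠ v') (hc : Commute u v) (hc' : Commute u' v') (h : u * v = u' * v') : u = u' ∨ u = v' := by
  have hs := unique_factor V.facts.tg.1 V.facts.h4 V.facts.h6 2 (by norm_num) [u, v] [u', v'] (by simp [hne])
    (by simp [hne']) rfl rfl (by simp [hu, hv]) (by simp [hu', hv']) (by simp [hc, hc.symm])
    (by simp [hc', hc'.symm]) (by simpa using h) u
  simpa using hs

variable {z a b c e : G} {π : ↥(Subgroup.centralizer ({a, b} : Set G)) →* Fi22Local.GG}
  {y : Fin 45 → Fin 4 → G}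

theorem Env.z_sq (L : Local D z a b c e π y) : z * z = 1 := by
  have h := prod_sq V.facts.tg.1 [a, b, c, e] L.frame.tup.2.1 L.frame.tup.2.2.1
  rwa [L.frame.tup.2.2.2] at h

theorem Env.order_z (L : Local D z a b c e π y) : orderOf (zc z) = 2 := by
  rw [← Subgroup.orderOf_coe]
  exact V.facts.orderOf_fac L.fac (by norm_num) le_rfl

theorem Env.mem_ZZ (L : Local D z a b c e π y) {g : Cz z} : g ∈ ZZ z ↔ (g : G) = 1 ∨ (g : G) = z := by
  constructor
  · intro h
    obtain ⟨n, rfl⟩ := Subgroup.mem_zpowers_iff.1 h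
    have := zpow_mod_orderOf (zc z) n
    rw [V.order_z L] at this
    rw [← this]
    rcases Int.emod_two_eq_zero_or_one n with h2 | h2 <;> rw [Nat.cast_ofNat, h2]
    · left; simp
    · right; simp [zc]
  · rintro (h | h)
    · rw [show g = 1 from Subtype.ext h]; exact one_mem _
    · rw [show g = zc z from Subtype.ext h]; exact Subgroup.mem_zpowers _

theorem Env.zc_mem (L : Local D z a b c e π y) : zc z ∈ EE D z := by
  have hQ := L.frame.quad
  have hab : Commute (a * b) z := (hQ.mem L.a_mem).2.mul_left (hQ.mem (u := b) (Or.inr (Or.inl rfl))).2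
  have hce : Commute (c * e) z := (hQ.mem (u := c) (Or.inr (Or.inr (Or.inl rfl)))).2.mul_left
    (hQ.mem (u := e) (Or.inr (Or.inr (Or.inr rfl)))).2
  have e1 : zc z = ⟨a * b, Subgroup.mem_centralizer_singleton_iff.2 hab.eq⟩ *
      ⟨c * e, Subgroup.mem_centralizer_singleton_iff.2 hce.eq⟩ := Subtype.ext (by
    show z = a * b * (c * e)
    rw [← L.frame.prod_eq]; group)
  rw [e1]
  exact mul_mem (Subgroup.subset_closure ⟨L.base, a, L.a_mem, b, Or.inr (Or.inl rfl), rfl⟩)
    (Subgroup.subset_closure ⟨L.base, c, Or.inr (Or.inr (Or.inl rfl)), e, Or.inr (Or.inr (Or.inr rfl)), rfl⟩)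

/-- What commutes with all members is central. -/
theorem Env.fix_members (L : Local D z a b c e π y) {s : ℕ → Cz z} (M : Six V L s) {g : Cz z}
    (h : ∀ S : Blk D z, ∀ u ∈ S.1, Commute (g : G) u) : g ∈ ZZ z := by
  rw [V.mem_ZZ L]
  have hg : ∀ u ∈ (L.base).1, Commute (g : G) u := h L.base
  obtain ⟨u, v, hu, hv, e1⟩ := L.fix_all (hg a L.a_mem) (hg b (Or.inr (Or.inl rfl)))
    (hg c (Or.inr (Or.inr (Or.inl rfl)))) (hg e (Or.inr (Or.inr (Or.inr rfl))))
    (fun j m => h (L.blk V j) _ (mem_blockSet y j m))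
  obtain ⟨⟨hxD, hxa⟩, -⟩ := M.top
  set x : G := (s 5 : G) with hx
  have hxz : Commute x z := Subgroup.mem_centralizer_singleton_iff.1 (s 5).2
  have hxg : Commute x (v * u) := by
    obtain ⟨S, hS⟩ := L.exists_quad V hxD hxz
    exact e1 ▸ (h S x hS).symm
  have nx : ∀ w ∈ (L.base).1, ¬ Commute x w := fun w hw hc =>
    hxa (V.quad_all L.frame.quad hxD hxz hw hc L.a_mem)
  have nb : ¬ Commute x b := nx b (Or.inr (Or.inl rfl))
  have nc : ¬ Commute x c := nx c (Or.inr (Or.inr (Or.inl rfl)))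
  have ne : ¬ Commute x e := nx e (Or.inr (Or.inr (Or.inr rfl)))
  have two : ∀ {p r : G}, p ∈ (L.base).1 → r ∈ (L.base).1 → p ≠ r → ¬ Commute x (p * r) := by
    intro p r hp hr hne hc
    exact nx p hp ((TSet.commute_mul_iff V.facts.tg.1 (L.frame.quad.mem hp).1 (L.frame.quad.mem hr).1 hxD hne
      (L.frame.quad.comm hp hr)).1 hc).1
  have three : ∀ {p r : G}, r ∈ (L.base).1 → p * r = z → ¬ Commute x p := by
    intro p r hr hpr hc
    refine nx r hr ?_
    rw [show r = p⁻¹ * z by rw [← hpr]; group]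
    exact hc.inv_right.mul_right hxz
  obtain ⟨nab, nac, nae, nbc, nbe, nce⟩ := L.frame.tup.ne
  have pp : ∀ (l : List (Fin 4)), l.Perm [0, 1, 2, 3] → (l.map ![a, b, c, e]).prod = z :=
    tuple_perm_prod L.frame.tup
  have ma := L.a_mem
  have mb : b ∈ (L.base).1 := Or.inr (Or.inl rfl)
  have mc : c ∈ (L.base).1 := Or.inr (Or.inr (Or.inl rfl))
  have me : e ∈ (L.base).1 := Or.inr (Or.inr (Or.inr rfl))
  rw [e1]
  rcases hu with rfl | rfl | rfl | rfl <;> rcases hv with rfl | rfl | rfl | rfl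
  · left; simp
  · exact absurd (by simpa using hxg) nc
  · exact absurd (by simpa using hxg) ne
  · exact absurd (by simpa using hxg) (two mc me nce)
  · exact absurd (by simpa using hxg) hxa
  · exact absurd hxg (two mc ma nac.symm)
  · exact absurd hxg (two me ma nae.symm)
  · exact absurd hxg (three mb (by simpa [mul_assoc] using pp [2, 3, 0, 1] (by decide)))
  · exact absurd (by simpa using hxg) nb
  · exact absurd hxg (two mc mb nbc.symm)
  · exact absurd hxg (two me mb nbe.symm)
  · exact absurd hxg (three ma (by simpa [mul_assoc] using pp [2, 3, 1, 0] (by decide)))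
  · exact absurd (by simpa using hxg) (two ma mb nab)
  · exact absurd hxg (three me (by simpa [mul_assoc] using pp [2, 0, 1, 3] (by decide)))
  · exact absurd hxg (three mc (by simpa [mul_assoc] using pp [3, 0, 1, 2] (by decide)))
  · right; simpa [mul_assoc] using pp [2, 3, 0, 1] (by decide)

/-- Nothing more centralises the products of two. -/
theorem Env.centralizer_EE (L : Local D z a b c e π y) {s : ℕ → Cz z} (M : Six V L s) {g : Cz z}
    (h : ∀ p ∈ EE D z, g * p = p * g) : g ∈ ZZ z := by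
  refine V.fix_members L M fun S u hu => ?_
  obtain ⟨v, hv, w, hw, nv, nw, nvw⟩ := V.others hu
  have key : ∀ r ∈ S.1, r ≠ u → (g : G) * u * (g : G)⁻¹ = u ∨ (g : G) * u * (g : G)⁻¹ = r := by
    intro r hr hne
    obtain ⟨huD, huz⟩ := S.2.mem hu
    obtain ⟨hrD, hrz⟩ := S.2.mem hr
    have hp := congrArg Subtype.val (h ⟨u * r, Subgroup.mem_centralizer_singleton_iff.2 (huz.mul_left hrz).eq⟩
      (Subgroup.subset_closure ⟨S, u, hu, r, hr, rfl⟩))
    simp only [Subgroup.coe_mul] at hp
    refine V.pair_fixed (v := (g : G) * r * (g : G)⁻¹) (V.facts.conj _ huD) (V.facts.conj _ hrD) huD hrD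
      (fun e => hne.symm (mul_left_cancel (mul_right_cancel e))) hne.symm
      ((commute_conj_iff (g : G) u r).2 (S.2.comm hu hr)) (S.2.comm hu hr) ?_
    rw [show (g : G) * u * (g : G)⁻¹ * ((g : G) * r * (g : G)⁻¹) = (g : G) * (u * r) * (g : G)⁻¹ by group, hp,
      mul_inv_cancel_right]
  refine mul_inv_eq_iff_eq_mul.1 ?_
  rcases key v hv nv with h1 | h1
  · exact h1
  rcases key w hw nw with h2 | h2
  · exact h2
  exact absurd (h1.symm.trans h2) nvw

omit V

namespace Numbered

variable {V : Env D} {L : Local D z a b c e π y} {s : ℕ → Cz z} {q : Fin 126 ≃ Blk D z}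
  (N : Numbered V L s q)
include N

theorem phi_eq_one {g : Cz z} : N.phi g = 1 ↔ ∀ S : Blk D z, act V z g S = S := by
  constructor
  · intro h S
    have := N.phi_apply g (q.symm S)
    rw [h, Equiv.Perm.one_apply, q.apply_symm_apply] at this
    exact this.symm
  · intro h
    exact Equiv.ext fun d => q.injective (by rw [N.phi_apply, h, Equiv.Perm.one_apply])

theorem pairs_le : EE D z ≤ N.phi.ker := by
  refine (Subgroup.closure_le _).2 ?_
  rintro p ⟨S, u, hu, v, hv, hp⟩
  obtain ⟨huD, huz⟩ := S.2.mem hu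
  obtain ⟨hvD, hvz⟩ := S.2.mem hv
  let uc : Cz z := ⟨u, Subgroup.mem_centralizer_singleton_iff.2 huz.eq⟩
  let vc : Cz z := ⟨v, Subgroup.mem_centralizer_singleton_iff.2 hvz.eq⟩
  have : p = uc * vc := Subtype.ext hp
  rw [SetLike.mem_coe, MonoidHom.mem_ker, this, map_mul, N.equal_action S (u := uc) (v := vc) hu hv, ← map_mul,
    show vc * vc = 1 from Subtype.ext (V.facts.sq hvD), map_one]

/-- On a quad such a product is trivial or moves all four. -/
theorem pair_move {p : Cz z} (hp : p ∈ pairs D z) (T : Blk D z) :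
    (∀ r ∈ T.1, (p : G) * r * (p : G)⁻¹ = r) ∨
      ∀ r ∈ T.1, (p : G) * r * (p : G)⁻¹ ∈ T.1 ∧ (p : G) * r * (p : G)⁻¹ ≠ r := by
  have hk := N.pairs_le (Subgroup.subset_closure hp)
  rw [MonoidHom.mem_ker, N.phi_eq_one] at hk
  by_cases hfix : ∃ r ∈ T.1, (p : G) * r * (p : G)⁻¹ = r
  swap
  · push Not at hfix
    refine Or.inr fun r hr => ⟨?_, hfix r hr⟩
    have := act_mem V p hr
    rwa [hk T] at this
  obtain ⟨r, hr, e1⟩ := hfix
  refine Or.inl fun r' hr' => ?_
  obtain ⟨S, u, hu, v, hv, hp⟩ := hp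
  obtain ⟨huD, huz⟩ := S.2.mem hu
  obtain ⟨hvD, hvz⟩ := S.2.mem hv
  obtain ⟨hrD, hrz⟩ := T.2.mem hr
  rw [hp] at e1 ⊢
  refine conj_eq_self_of_commute ?_
  by_cases huv : u = v
  · rw [huv, V.facts.sq hvD]; exact Commute.one_left _
  have h1 : Commute r (u * v) := (mul_inv_eq_iff_eq_mul.1 e1).symm
  obtain ⟨hru, hrv⟩ := (TSet.commute_mul_iff V.facts.tg.1 huD hvD hrD huv (S.2.comm hu hv)).1 h1
  exact (V.bcm S.2 T.2 hu hr hru.symm u hu r' hr').mul_left (V.bcm S.2 T.2 hv hr hrv.symm v hv r' hr')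

theorem pair_sq {p : Cz z} (hp : p ∈ pairs D z) : p * p = 1 := by
  obtain ⟨S, u, hu, v, hv, e1⟩ := hp
  refine Subtype.ext ?_
  show (p : G) * p = 1
  rw [e1, (S.2.comm hu hv).symm.mul_mul_mul_comm, V.facts.sq (S.2.mem hu).1, V.facts.sq (S.2.mem hv).1, one_mul]

/-- Two such products commute modulo the centre. -/
theorem pair_comm {p p' : Cz z} (hp : p ∈ pairs D z) (hp' : p' ∈ pairs D z) : ⁅p, p'⁆ ∈ ZZ z := by
  classical
  refine V.fix_members L N.six fun T r hr => ?_
  have hinv : ∀ {x : Cz z}, x ∈ pairs D z → (x : G)⁻¹ = (x : G) := fun {x} hx =>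
    inv_eq_of_mul_eq_one_right (congrArg Subtype.val (N.pair_sq hx))
  let f : Cz z → G → G := fun x r => (x : G) * r * (x : G)⁻¹
  have hff : ∀ {x : Cz z}, x ∈ pairs D z → ∀ r, f x (f x r) = r := fun {x} hx r => by
    have e2 : (x : G) * x = 1 := congrArg Subtype.val (N.pair_sq hx)
    show (x : G) * ((x : G) * r * (x : G)⁻¹) * (x : G)⁻¹ = r
    rw [hinv hx, ← mul_assoc, ← mul_assoc, e2, one_mul, mul_assoc, e2, mul_one]
  suffices h : ∀ r ∈ T.1, f p (f p' r) = f p' (f p r) by
    refine mul_inv_eq_iff_eq_mul.1 ?_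
    have hm' : f p' r ∈ T.1 := by
      rcases N.pair_move hp' T with h' | h'
      · rw [show f p' r = r from h' r hr]; exact hr
      · exact (h' r hr).1
    have e3 := h (f p' r) hm'
    rw [hff hp'] at e3
    have : f p (f p' (f p (f p' r))) = r := by rw [← e3, hff hp]
    rw [commutatorElement_def]
    simp only [Subgroup.coe_mul, Subgroup.coe_inv, hinv hp, hinv hp']
    simp only [f] at this
    rw [hinv hp, hinv hp'] at this
    simp only [mul_inv_rev, hinv hp, hinv hp']
    simpa [mul_assoc] using this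
  intro r hr
  rcases N.pair_move hp T with h1 | h1
  · show f p (f p' r) = f p' (f p r)
    rcases N.pair_move hp' T with h2 | h2
    · simp only [f, h1 r hr, h2 r hr]
    · simp only [f, h1 r hr, h1 _ (h2 r hr).1]
  rcases N.pair_move hp' T with h2 | h2
  · simp only [f, h2 r hr, h2 _ (h1 r hr).1]
  by_cases he : f p r = f p' r
  · have e1 := hff hp r
    have e2 := hff hp' r
    rw [← he, e1, he, e2]
  -- the fourth member
  set r1 := f p r
  set r2 := f p' r
  have n1 : r1 ≠ r := (h1 r hr).2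
  have n2 : r2 ≠ r := (h2 r hr).2
  have m1 : r1 ∈ T.1 := (h1 r hr).1
  have m2 : r2 ∈ T.1 := (h2 r hr).1
  have finj : ∀ (x : Cz z) {u v : G}, f x u = f x v → u = v :=
    fun x u v h => mul_left_cancel (mul_right_cancel h)
  have a1 : f p r2 ∈ T.1 \ ({r, r1, r2} : Set G) := by
    refine ⟨(h1 r2 m2).1, ?_⟩
    rintro (h | h | h)
    · exact he (finj p (h.trans (hff hp r).symm)).symm
    · exact n2 (finj p h)
    · exact (h1 r2 m2).2 h
  have a2 : f p' r1 ∈ T.1 \ ({r, r1, r2} : Set G) := by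
    refine ⟨(h2 r1 m1).1, ?_⟩
    rintro (h | h | h)
    · exact he (finj p' (h.trans (hff hp' r).symm))
    · exact (h2 r1 m1).2 h
    · exact n1 (finj p' h)
  have hcard : (T.1 \ ({r, r1, r2} : Set G)).ncard = 1 := by
    rw [Set.ncard_sdiff (by rintro w (rfl | rfl | rfl) <;> assumption), T.2.ncard,
      Set.ncard_insert_of_notMem (by simp [n1.symm, n2.symm]), Set.ncard_pair he]
  obtain ⟨w, hw⟩ := Set.ncard_eq_one.1 hcard
  rw [hw, Set.mem_singleton_iff] at a1 a2
  rw [a1, a2]

theorem comm_mem {p p' : Cz z} (hp : p ∈ EE D z) (hp' : p' ∈ EE D z) : ⁅p, p'⁆ ∈ ZZ z := by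
  have hq : ∀ x y : Cz z, ⁅x, y⁆ ∈ ZZ z ↔
      Commute (QuotientGroup.mk' (ZZ z) x) (QuotientGroup.mk' (ZZ z) y) := fun x y => by
    rw [← commutatorElement_eq_one_iff_commute, ← map_commutatorElement, ← MonoidHom.mem_ker,
      QuotientGroup.ker_mk']
  rw [hq]
  induction hp, hp' using Subgroup.closure_induction₂ with
  | mem x y hx hy => exact (hq x y).1 (N.pair_comm hx hy)
  | one_left x hx => rw [map_one]; exact Commute.one_left _
  | one_right x hx => rw [map_one]; exact Commute.one_right _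
  | mul_left x y w _ _ _ h1 h2 => rw [map_mul]; exact h1.mul_left h2
  | mul_right y w x _ _ _ h1 h2 => rw [map_mul]; exact h1.mul_right h2
  | inv_left x y _ _ h => rw [map_inv]; exact h.inv_left
  | inv_right x y _ _ h => rw [map_inv]; exact h.inv_right

theorem sq_mem {p : Cz z} (hp : p ∈ EE D z) : p * p ∈ ZZ z := by
  induction hp using Subgroup.closure_induction with
  | mem x hx => rw [N.pair_sq hx]; exact one_mem _
  | one => simp
  | mul x y hx hy h1 h2 =>
    have hc := N.comm_mem hy hx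
    have hz := Subgroup.mem_center_iff.1 (ZZ_center z hc)
    have e1 : x * y * (x * y) = ⁅y, x⁆ * (x * x * (y * y)) := by
      calc x * y * (x * y) = x * (⁅y, x⁆ * (x * y)) * y := by rw [commutatorElement_def]; group
        _ = ⁅y, x⁆ * (x * x * (y * y)) := by rw [← mul_assoc x, hz x]; group
    rw [e1]
    exact mul_mem hc (mul_mem h1 h2)
  | inv x _ h => simpa [mul_inv_rev] using inv_mem h

/-- The order. -/
theorem card_EE : Nat.card (EE D z) = 2 ^ 13 := by
  classical
  haveI := EE_normal V.facts.tg z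
  set E := EE D z
  set mk := QuotientGroup.mk' (ZZ z)
  set Eb := E.map mk
  haveI : Eb.Normal := Subgroup.Normal.map inferInstance mk (QuotientGroup.mk'_surjective _)
  have hZE : ZZ z ≤ E := Subgroup.zpowers_le.2 (V.zc_mem L)
  have hcard : Nat.card E = Nat.card Eb * 2 := by
    let r : E →* Eb := mk.subgroupMap E
    rw [Subgroup.card_eq_card_quotient_mul_card_subgroup r.ker,
      Nat.card_congr (QuotientGroup.quotientKerEquivOfSurjective r (mk.subgroupMap_surjective E)).toEquiv]
    congr 1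
    rw [show r.ker = (ZZ z).subgroupOf E by
      ext x
      rw [MonoidHom.mem_ker, Subtype.ext_iff, Subgroup.mem_subgroupOf]
      exact QuotientGroup.eq_one_iff _, Nat.card_congr (Subgroup.subgroupOfEquivOfLe hZE).toEquiv, ZZ,
      Nat.card_zpowers, V.order_z L]
  have hcomm : ∀ u v : Eb, u * v = v * u := by
    rintro ⟨_, p, hp, rfl⟩ ⟨_, p', hp', rfl⟩
    refine Subtype.ext ?_
    show mk p * mk p' = mk p' * mk p
    refine commutatorElement_eq_one_iff_commute.1 ?_
    rw [← map_commutatorElement, ← MonoidHom.mem_ker, QuotientGroup.ker_mk']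
    exact N.comm_mem hp hp'
  letI : CommGroup Eb := { (inferInstance : Group Eb) with mul_comm := hcomm }
  have hexp : ∀ u : Eb, u ^ 2 = 1 := by
    rintro ⟨_, p, hp, rfl⟩
    refine Subtype.ext ?_
    rw [SubmonoidClass.coe_pow, Subgroup.coe_one, pow_two, ← map_mul, ← MonoidHom.mem_ker, QuotientGroup.ker_mk']
    exact N.sq_mem hp
  haveI : Fact (Nat.Prime 2) := ⟨Nat.prime_two⟩
  obtain ⟨k, hk⟩ := IsPGroup.iff_card.1 (fun u : Eb => (⟨1, by simpa using hexp u⟩ : ∃ n, u ^ 2 ^ n = 1))
  obtain ⟨-, haut⟩ := FrattiniAut.elemAbelian_facts (p := 2) hexp hk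
  have hk12 : k ≤ 12 := by
    have h1 : Nat.card E ∣ 3 * 2 ^ 13 := N.card_ker ▸ Subgroup.card_dvd_of_le N.pairs_le
    rw [hcard, hk, ← pow_succ] at h1
    have h2 := ((Nat.coprime_primes Nat.prime_two Nat.prime_three).2 (by norm_num)).pow_left (k + 1)
    have h3 := h2.dvd_of_dvd_mul_left h1
    have := (Nat.pow_dvd_pow_iff_le_right (by norm_num)).1 h3
    omega
  let T : (Cz z) →* MulAut Eb := (MulAut.conjNormal (H := Eb)).comp mk
  have hTk : T.ker ≤ N.phi.ker := by
    intro g hg
    rw [MonoidHom.mem_ker, N.phi_eq_one]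
    intro S
    obtain ⟨u, hu⟩ := S.2.nonempty
    obtain ⟨v, hv, w, hw, nv, -, -⟩ := V.others hu
    obtain ⟨huD, huz⟩ := S.2.mem hu
    obtain ⟨hvD, hvz⟩ := S.2.mem hv
    set p : Cz z := ⟨u * v, Subgroup.mem_centralizer_singleton_iff.2 (huz.mul_left hvz).eq⟩
    have hpE : p ∈ E := Subgroup.subset_closure ⟨S, u, hu, v, hv, rfl⟩
    have h1 := congrArg Subtype.val (DFunLike.congr_fun (show T g = 1 from hg) ⟨mk p, p, hpE, rfl⟩)
    rw [MulAut.one_apply] at h1
    have h2 : mk (g * p * g⁻¹) = mk p := by rw [map_mul, map_mul, map_inv]; exact h1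
    obtain ⟨t, ht, e2⟩ : ∃ t ∈ ZZ z, g * p * g⁻¹ = p * t :=
      ⟨p⁻¹ * (g * p * g⁻¹), QuotientGroup.eq.1 h2.symm, by group⟩
    have e3 : (g : G) * u * (g : G)⁻¹ * ((g : G) * v * (g : G)⁻¹) = u * v * (t : G) := by
      have := congrArg Subtype.val e2
      simp only [Subgroup.coe_mul, Subgroup.coe_inv, p] at this
      rw [← this]; group
    have hgu : (g : G) * u * (g : G)⁻¹ ∈ S.1 := by
      have hgne : (g : G) * u * (g : G)⁻¹ ≠ (g : G) * v * (g : G)⁻¹ :=
        fun h => nv (mul_left_cancel (mul_right_cancel h)).symm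
      have hgc := (commute_conj_iff (g : G) u v).2 (S.2.comm hu hv)
      rcases (V.mem_ZZ L).1 ht with ht | ht <;> rw [ht] at e3
      · rw [mul_one] at e3
        rcases V.pair_fixed (V.facts.conj _ huD) (V.facts.conj _ hvD) huD hvD hgne nv.symm hgc (S.2.comm hu hv) e3
          with h | h <;> rw [h] <;> assumption
      · obtain ⟨a', b', c', ht', hS⟩ := S.2.first hu
        obtain ⟨r, r', hperm⟩ : ∃ r r', [a', b', c'].Perm [v, r, r'] := by
          classical
          have hvmem : v ∈ [a', b', c'] := by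
            rw [hS] at hv
            rcases hv with h | h | h | h
            · exact absurd h nv
            all_goals (rw [h]; simp)
          obtain ⟨r, r', hr⟩ := List.length_eq_two.1 (show ([a', b', c'].erase v).length = 2 by
            rw [List.length_erase_of_mem hvmem]; rfl)
          exact ⟨r, r', hr ▸ List.perm_cons_erase hvmem⟩
        have ht2 : Tuple D z u v r r' := ht'.perm (hperm.cons u)
        obtain ⟨-, -, -, -, -, nrr⟩ := ht2.ne
        have hmem : ∀ x ∈ [v, r, r'], x ∈ S.1 := fun x hx => by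
          rw [hS]
          have := hperm.mem_iff.2 hx
          simp only [List.mem_cons, List.not_mem_nil, or_false] at this
          rcases this with h | h | h <;> rw [h] <;> simp
        have e4 : u * v * z = r * r' := by
          rw [← ht2.2.2.2]
          simp only [List.prod_cons, List.prod_nil, mul_one]
          calc u * v * (u * (v * (r * r'))) = (u * v * (u * v)) * (r * r') := by group
            _ = r * r' := by
              rw [(S.2.comm hu hv).symm.mul_mul_mul_comm, V.facts.sq huD, V.facts.sq hvD, one_mul, one_mul]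
        rw [e4] at e3
        rcases V.pair_fixed (V.facts.conj _ huD) (V.facts.conj _ hvD) (ht2.2.1 r (by simp)) (ht2.2.1 r' (by simp))
          hgne nrr hgc (ht2.2.2.1 r (by simp) r' (by simp)) e3 with h | h <;> rw [h] <;> exact hmem _ (by simp)
    exact V.blk_eq (act_mem V g hu) hgu
  have h3 : ¬ 3 ∣ Nat.card T.ker := by
    intro h3
    haveI : Fact (Nat.Prime 3) := ⟨Nat.prime_three⟩
    obtain ⟨g, hg⟩ := exists_prime_orderOf_dvd_card' 3 h3
    have hg3 : orderOf (g : Cz z) = 3 := (Subgroup.orderOf_coe g).trans hg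
    have hcent : ∀ p ∈ E, (g : Cz z) * p = p * g := by
      intro p hp
      refine MinNonCA.comm_of_coprime (m := 3) (n := 2) (ZZ_center z ?_) (hg3 ▸ pow_orderOf_eq_one _)
        (ZZ_center z (by rw [pow_two]; exact N.sq_mem hp)) (by norm_num)
      refine (QuotientGroup.eq_one_iff _).1 ?_
      show mk ((g : Cz z) * p * (g : Cz z)⁻¹ * p⁻¹) = 1
      rw [map_mul, map_mul, map_mul, map_inv, map_inv, mul_inv_eq_one]
      exact congrArg Subtype.val (DFunLike.congr_fun (show T g = 1 from g.2) ⟨mk p, p, hp, rfl⟩)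
    have hz := V.centralizer_EE L N.six hcent
    have h2 : orderOf (g : Cz z) ∣ Nat.card (ZZ z) := Subgroup.orderOf_dvd_natCard (ZZ z) hz
    rw [hg3, ZZ, Nat.card_zpowers, V.order_z L] at h2
    norm_num at h2
  have h37 : 3 ^ 7 ∣ Nat.card (MulAut Eb) := by
    refine dvd_trans ?_ (Subgroup.card_subgroup_dvd_card T.range)
    have h := Subgroup.card_eq_card_quotient_mul_card_subgroup T.ker
    rw [Nat.card_congr (QuotientGroup.quotientKerEquivRange T).toEquiv, V.card_cent L] at h
    have hd : 3 ^ 7 ∣ Nat.card T.range * Nat.card T.ker := h ▸ by norm_num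
    exact (((Nat.Prime.coprime_iff_not_dvd Nat.prime_three).2 h3).pow_left 7).dvd_of_dvd_mul_right hd
  rw [haut] at h37
  rw [hcard, hk]
  by_cases h : k = 12
  · rw [h]; norm_num
  · exfalso
    interval_cases k <;> norm_num [Finset.prod_range_succ] at h37
    exact h rfl

theorem isExtraspecial_EE : Cfsg.IsExtraspecial 2 (EE D z) := by
  classical
  haveI : Fact (Nat.Prime 2) := ⟨Nat.prime_two⟩
  have hzE := V.zc_mem L
  have hzp : ∀ x : EE D z, x ∈ Subgroup.zpowers (⟨zc z, hzE⟩ : EE D z) ↔ (x : Cz z) ∈ ZZ z := by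
    intro x
    simp only [ZZ, Subgroup.mem_zpowers_iff]
    exact exists_congr fun n => ⟨fun h => congrArg Subtype.val h, fun h => Subtype.ext h⟩
  refine LargeExtra.isExtraspecial_of (IsPGroup.of_card N.card_EE) (z := ⟨zc z, hzE⟩)
    ((Subgroup.orderOf_coe _).symm.trans (V.order_z L)) (fun x => ?_) (fun x y => ?_) (fun x => ?_) ?_
  · rw [hzp]
    refine ⟨fun h => V.centralizer_EE L N.six fun p hp => congrArg Subtype.val (h ⟨p, hp⟩), fun h y => ?_⟩
    exact Subtype.ext ((Subgroup.mem_center_iff.1 (ZZ_center z h) y).symm)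
  · rw [hzp]
    exact N.comm_mem x.2 y.2
  · rw [hzp, SubmonoidClass.coe_pow, pow_two]
    exact N.sq_mem x.2
  · by_contra h
    push Not at h
    have hle : EE D z ≤ ZZ z := fun p hp =>
      V.centralizer_EE L N.six fun r hr => congrArg Subtype.val (h ⟨p, hp⟩ ⟨r, hr⟩)
    have := Subgroup.card_le_of_le hle
    rw [N.card_EE, ZZ, Nat.card_zpowers, V.order_z L] at this
    norm_num at this

end Numbered

end Cfsg.Agent.FischerQuad
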