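import Cfsg.Agent.Lib.FischerQuad.Model
import Mathlib.GroupTheory.GroupAction.Quotient
import Mathlib.Data.Fintype.Perm

/-!
The permutation group on the 126 quads: its order, and the order of the kernel.
-/

set_option autoImplicit false
set_option maxRecDepth 100000
set_option linter.style.haveILetI false

namespace Cfsg.Agent.FischerQuad

open Cfsg.Agent.Fischer
open Cfsg.Agent.Fischer.Factor
open Cfsg.Agent.Fi22Local
open Cfsg.Agent.Fi22Local.Triple (pfix)
open Cfsg.Agent.FischerInvol24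
open Cfsg.Agent.PermCert (genGroup cert_card)

universe u

variable {G : Type u} [Group G] [Finite G] {D : Set G}

/-- The quads with their numbering. -/
structure Numbered (V : Env D) {z a b c e : G} {π : ↥(Subgroup.centralizer ({a, b} : Set G)) →* GG}
    {y : Fin 45 → Fin 4 → G} (L : Local D z a b c e π y)
    (s : ℕ → ↥(Subgroup.centralizer ({z} : Set G))) (q : Fin 126 ≃ Blk D z) : Prop where
  six : Six V L s
  zero : q 0 = L.base
  eqv : ∀ x < 6, ∀ d, q (sixP x d) = act V z (s x) (q d)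

/-- The pointwise centraliser of the frame. -/
theorem Env.card_four_cent (V : Env D) {z a b c e : G} {π : ↥(Subgroup.centralizer ({a, b} : Set G)) →* GG}
    {y : Fin 45 → Fin 4 → G} (L : Local D z a b c e π y) :
    Nat.card (Subgroup.centralizer ({a, b, c, e} : Set G)) = 4 * 26542080 := by
  classical
  have R := L.frame
  have F := V.facts
  set C4 := Subgroup.centralizer ({a, b, c, e} : Set G)
  have hle : C4 ≤ Subgroup.centralizer ({a, b} : Set G) :=
    Subgroup.centralizer_le (by intro x hx; rcases hx with rfl | rfl <;> simp)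
  have hmem : ∀ g : ↥(Subgroup.centralizer ({a, b} : Set G)),
      (g : G) ∈ C4 ↔ π g ∈ pfix [0, 7] := by
    intro g
    have hcomm : ∀ (p : ℕ), p < 3510 → ∀ v : ↥(Subgroup.centralizer ({a, b} : Set G)), (v : G) ∈ Nb D a →
        (v : G) ∈ Nb D b → π v = trN p → (Commute (g : G) v ↔ apt (π g) p = p) := by
      intro p hp v hva hvb hv
      rw [apt_fix_iff _ hp, ← hv]
      refine ⟨fun h => (show Commute g v from Subtype.ext h.eq).map π, fun h => ?_⟩
      have hga : Commute (g : G) a := (Subgroup.mem_centralizer_iff.1 g.2 a (Or.inl rfl)).symm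
      have hgb : Commute (g : G) b := (Subgroup.mem_centralizer_iff.1 g.2 b (Or.inr rfl)).symm
      refine mul_inv_eq_iff_eq_mul.1 (congrArg Subtype.val (R.map.inj F R.ha R.hb (a := g * v * g⁻¹) (b := v) ?_ ?_
        hva ?_))
      · have := nb_conj F.tg (g : G) hva; rwa [conj_eq_self_of_commute hga] at this
      · have := nb_conj F.tg (g : G) hvb; rwa [conj_eq_self_of_commute hgb] at this
      · rw [map_mul, map_mul, map_inv, h.eq, mul_inv_cancel_right]
    have h0 := hcomm 0 (by norm_num) ⟨c, memC R.hca R.hcb⟩ R.hca R.hcb (R.imc _)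
    have h7 := hcomm 7 (by norm_num) ⟨e, memC R.hea R.heb⟩ R.hea R.heb (R.ime _)
    constructor
    · intro h d hd
      simp only [List.mem_cons, List.not_mem_nil, or_false] at hd
      rcases hd with rfl | rfl
      · exact h0.1 (Subgroup.mem_centralizer_iff.1 h c (by simp)).symm
      · exact h7.1 (Subgroup.mem_centralizer_iff.1 h e (by simp)).symm
    · intro h
      rw [Subgroup.mem_centralizer_iff]
      rintro v (rfl | rfl | rfl | rfl)
      · exact Subgroup.mem_centralizer_iff.1 g.2 _ (Or.inl rfl)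
      · exact Subgroup.mem_centralizer_iff.1 g.2 _ (Or.inr rfl)
      · exact (h0.2 (h 0 (by simp))).eq.symm
      · exact (h7.2 (h 7 (by simp))).eq.symm
  let ρ : C4 →* pfix [0, 7] := (π.comp (Subgroup.inclusion hle)).codRestrict _ fun g => (hmem _).1 g.2
  have hs : Function.Surjective ρ := by
    rintro ⟨w, hw⟩
    obtain ⟨g, rfl⟩ := R.map.surj w
    exact ⟨⟨g, (hmem g).2 hw⟩, rfl⟩
  have hk : Nat.card ρ.ker = 4 := by
    have ma : a ∈ C4 := by
      rw [Subgroup.mem_centralizer_iff]
      rintro v (rfl | rfl | rfl | rfl)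
      exacts [rfl, R.hb.2.2.eq.symm, R.hca.2.2.eq.symm, R.hea.2.2.eq.symm]
    have mb : b ∈ C4 := by
      rw [Subgroup.mem_centralizer_iff]
      rintro v (rfl | rfl | rfl | rfl)
      exacts [R.hb.2.2.eq, rfl, R.hcb.2.2.eq.symm, R.heb.2.2.eq.symm]
    have hS : ∀ x : C4, x ∈ ρ.ker ↔ (x : G) ∈ ([1, a, b, a * b] : List G) := by
      intro x
      rw [MonoidHom.mem_ker, Subtype.ext_iff]
      show π (Subgroup.inclusion hle x) = 1 ↔ _
      rw [R.map.ker]
      simp
    have e1 : Nat.card ρ.ker = ([1, a, b, a * b] : List G).toFinset.card := by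
      rw [← Fintype.card_coe, ← Nat.card_eq_fintype_card]
      refine Nat.card_eq_of_bijective (fun x => ⟨(x.1 : G), List.mem_toFinset.2 ((hS x.1).1 x.2)⟩)
        ⟨fun x x' h => Subtype.ext (Subtype.ext (Subtype.mk.inj h)), fun x => ?_⟩
      have hx := List.mem_toFinset.1 x.2
      have hx4 : (x : G) ∈ C4 := by
        simp only [List.mem_cons, List.not_mem_nil, or_false] at hx
        rcases hx with h | h | h | h <;> rw [h]
        exacts [one_mem _, ma, mb, mul_mem ma mb]
      exact ⟨⟨⟨x, hx4⟩, (hS _).2 hx⟩, rfl⟩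
    rw [e1, List.toFinset_card_of_nodup]
    · rfl
    have n1 : ∀ {u}, u ∈ D → u ≠ (1 : G) := fun hu h => by
      refine F.ne_one (x := (1 : G)) ⟨[_], List.nodup_singleton _, rfl, by simpa using hu, by simp, by simp [h]⟩
        le_rfl (by norm_num) rfl
    simp only [List.nodup_cons, List.mem_cons, List.not_mem_nil, or_false, not_or, List.nodup_nil, and_true,
      not_false_eq_true]
    refine ⟨⟨(n1 R.ha).symm, (n1 R.hb.1).symm, fun h => R.hb.2.1 ?_⟩, ⟨R.hb.2.1.symm, fun h => n1 R.hb.1 ?_⟩,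
      fun h => n1 R.ha ?_⟩
    · calc b = a * a * b := by rw [F.sq R.ha, one_mul]
        _ = a := by rw [mul_assoc, ← h, mul_one]
    · exact left_eq_mul.1 h
    · exact right_eq_mul.1 h
  rw [Subgroup.card_eq_card_quotient_mul_card_subgroup ρ.ker,
    Nat.card_congr (QuotientGroup.quotientKerEquivOfSurjective ρ hs).toEquiv, hk, card_pfix07]

/-- The order of the centraliser. -/
theorem Env.card_cent (V : Env D) {z a b c e : G} {π : ↥(Subgroup.centralizer ({a, b} : Set G)) →* GG}
    {y : Fin 45 → Fin 4 → G} (L : Local D z a b c e π y) :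
    Nat.card (Subgroup.centralizer ({z} : Set G)) = 126 * 24 * (4 * 26542080) := by
  classical
  letI : Fintype (Blk D z) := Fintype.ofFinite _
  let T4 := {p : Fin 4 → G // Tuple D z (p 0) (p 1) (p 2) (p 3)}
  have hmemS : ∀ (p : T4) i, p.1 i ∈ ({p.1 0, p.1 1, p.1 2, p.1 3} : Set G) := fun p i => by
    fin_cases i <;> simp
  have hinj : ∀ p : T4, Function.Injective p.1 := by
    intro p i j h
    obtain ⟨h01, h02, h03, h12, h13, h23⟩ := p.2.ne
    fin_cases i <;> fin_cases j <;> first | rfl | exact absurd h (by assumption) | exact absurd h.symm (by assumption)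
  let F1 : T4 → Σ S : Blk D z, (Fin 4 → ↥S.1) := fun p => ⟨⟨_, p.2.quad⟩, fun i => ⟨p.1 i, hmemS p i⟩⟩
  let E := {x : Σ S : Blk D z, (Fin 4 → ↥S.1) // Function.Injective x.2}
  have hT4 : Nat.card T4 = Nat.card E := by
    refine Nat.card_eq_of_bijective (fun p => ⟨F1 p, fun i j h => hinj p (congrArg Subtype.val h)⟩) ⟨?_, ?_⟩
    · intro p p' h
      have h' : F1 p = F1 p' := congrArg Subtype.val h
      exact Subtype.ext (funext fun i => congrArg (fun x : Σ S : Blk D z, (Fin 4 → ↥S.1) => ((x.2 i : _) : G)) h')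
    · rintro ⟨⟨S, f⟩, hf⟩
      obtain ⟨a', b', c', e', ht, hS⟩ := S.2
      let g : Fin 4 → G := fun i => (f i).1
      have hg : Function.Injective g := fun i j h => hf (Subtype.ext h)
      have hnd : [g 0, g 1, g 2, g 3].Nodup := by
        have := List.nodup_ofFn.2 hg
        simpa [List.ofFn_succ] using this
      have hperm : [a', b', c', e'].Perm [g 0, g 1, g 2, g 3] := by
        refine ((List.subperm_of_subset hnd ?_).perm_of_length_le (by simp)).symm
        intro x hx
        have hxS : x ∈ S.1 := by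
          simp only [List.mem_cons, List.not_mem_nil, or_false] at hx
          rcases hx with rfl | rfl | rfl | rfl <;> exact (f _).2
        rwa [hS, set_four] at hxS
      have ht' := ht.perm hperm
      refine ⟨⟨g, ht'⟩, ?_⟩
      have eS : (⟨_, ht'.quad⟩ : Blk D z) = S := V.blk_eq (Or.inl rfl) (f 0).2
      have key : ∀ (S T : Blk D z) (f : Fin 4 → ↥T.1) (g : Fin 4 → G), S = T → ∀ hm : ∀ i, g i ∈ S.1,
          (∀ i, g i = (f i).1) → (⟨S, fun i => ⟨g i, hm i⟩⟩ : Σ S : Blk D z, (Fin 4 → ↥S.1)) = ⟨T, f⟩ := by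
        intro S T f g hST hm hfg
        subst hST
        congr 1
        exact funext fun i => Subtype.ext (hfg i)
      exact Subtype.ext (key _ S f g eS _ fun i => rfl)
  have hE : Nat.card E = 126 * 24 := by
    rw [show Nat.card E = Nat.card (Σ S : Blk D z, {f : Fin 4 → ↥S.1 // Function.Injective f}) from
      Nat.card_congr ⟨fun x => ⟨x.1.1, x.1.2, x.2⟩, fun x => ⟨⟨x.1, x.2.1⟩, x.2.2⟩, fun _ => rfl, fun _ => rfl⟩]
    rw [Nat.card_sigma]
    have h1 : ∀ S : Blk D z, Nat.card {f : Fin 4 → ↥S.1 // Function.Injective f} = 24 := by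
      intro S
      letI : Fintype ↥S.1 := Fintype.ofFinite _
      rw [Nat.card_congr (Equiv.subtypeInjectiveEquivEmbedding _ _), Nat.card_eq_fintype_card,
        Fintype.card_embedding_eq, ← Nat.card_eq_fintype_card (α := ↥S.1), Nat.card_coe_set_eq, S.2.ncard,
        Fintype.card_fin]
      rfl
    simp only [h1, Finset.sum_const, Finset.card_univ, smul_eq_mul]
    rw [← Nat.card_eq_fintype_card, L.card_blk V]
  set C := Subgroup.centralizer ({z} : Set G)
  have hle : Subgroup.centralizer ({a, b, c, e} : Set G) ≤ C := by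
    intro g hg
    rw [Subgroup.mem_centralizer_singleton_iff, ← L.frame.prod_eq]
    have := fun v hv => (show Commute v g from Subgroup.mem_centralizer_iff.1 hg v hv)
    exact ((((this a (by simp)).symm.mul_right (this b (by simp)).symm).mul_right (this c (by simp)).symm).mul_right
      (this e (by simp)).symm).eq
  set H := (Subgroup.centralizer ({a, b, c, e} : Set G)).subgroupOf C
  let p0 : Fin 4 → G := ![a, b, c, e]
  have ht0 : ∀ g : C, Tuple D z ((g : G) * p0 0 * (g : G)⁻¹) ((g : G) * p0 1 * (g : G)⁻¹)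
      ((g : G) * p0 2 * (g : G)⁻¹) ((g : G) * p0 3 * (g : G)⁻¹) := by
    intro g
    obtain ⟨h1, h2, h3, h4⟩ := L.frame.tup
    refine ⟨(List.nodup_map_iff (MulAut.conj (g : G)).injective).2 h1, ?_, ?_, ?_⟩
    · intro u hu
      obtain ⟨v, hv, rfl⟩ := List.mem_map.1 (show u ∈ [a, b, c, e].map (MulAut.conj (g : G)) from hu)
      exact V.facts.conj (g : G) (h2 v hv)
    · intro u hu v hv
      obtain ⟨u', hu', rfl⟩ := List.mem_map.1 (show u ∈ [a, b, c, e].map (MulAut.conj (g : G)) from hu)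
      obtain ⟨v', hv', rfl⟩ := List.mem_map.1 (show v ∈ [a, b, c, e].map (MulAut.conj (g : G)) from hv)
      exact (h3 u' hu' v' hv').map (MulAut.conj (g : G)).toMonoidHom
    · show ([a, b, c, e].map (MulAut.conj (g : G))).prod = z
      rw [← map_list_prod, h4]
      exact conj_eq_self_of_commute (Subgroup.mem_centralizer_singleton_iff.1 g.2)
  let F2 : C → T4 := fun g => ⟨fun i => (g : G) * p0 i * (g : G)⁻¹, ht0 g⟩
  have hF : ∀ g h : C, F2 g = F2 h ↔ g⁻¹ * h ∈ H := by
    intro g h
    rw [Subgroup.mem_subgroupOf, Subgroup.mem_centralizer_iff]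
    have key : ∀ v : G, (g : G) * v * (g : G)⁻¹ = (h : G) * v * (h : G)⁻¹ ↔
        v * ((g⁻¹ * h : C) : G) = ((g⁻¹ * h : C) : G) * v := by
      intro v
      simp only [Subgroup.coe_mul, Subgroup.coe_inv]
      constructor
      · intro e1
        calc v * ((g : G)⁻¹ * h) = (g : G)⁻¹ * ((g : G) * v * (g : G)⁻¹) * h := by group
          _ = _ := by rw [e1]; group
      · intro e1
        calc (g : G) * v * (g : G)⁻¹ = (g : G) * (v * ((g : G)⁻¹ * h)) * (h : G)⁻¹ := by group
          _ = _ := by rw [e1]; group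
    constructor
    · intro e1 v hv
      have e2 := fun i => (key _).1 (congrFun (congrArg Subtype.val e1) i)
      rcases hv with rfl | rfl | rfl | rfl
      exacts [e2 0, e2 1, e2 2, e2 3]
    · intro e1
      refine Subtype.ext (funext fun i => (key _).2 ?_)
      exact e1 _ (by fin_cases i <;> simp [p0])
  let F3 : C ⧸ H → T4 := fun x => Quotient.liftOn' x F2 fun g h hgh => (hF g h).2 (QuotientGroup.leftRel_apply.1 hgh)
  have hbij : Function.Bijective F3 := by
    constructor
    · intro x x'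
      induction x using QuotientGroup.induction_on with
      | _ g =>
        induction x' using QuotientGroup.induction_on with
        | _ h => exact fun e1 => QuotientGroup.eq.2 ((hF g h).1 e1)
    · intro p
      obtain ⟨g, g0, g1, g2, g3, gz⟩ := V.tuple_conj L.frame.tup p.2
      refine ⟨QuotientGroup.mk ⟨g, Subgroup.mem_centralizer_singleton_iff.2 (mul_inv_eq_iff_eq_mul.1 gz)⟩, ?_⟩
      refine Subtype.ext (funext fun i => ?_)
      fin_cases i <;> assumption
  rw [Subgroup.card_eq_card_quotient_mul_card_subgroup H, Nat.card_eq_of_bijective _ hbij, hT4, hE,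
    Nat.card_congr (Subgroup.subgroupOfEquivOfLe hle).toEquiv, V.card_four_cent L]

namespace Numbered

variable {V : Env D} {z a b c e : G} {π : ↥(Subgroup.centralizer ({a, b} : Set G)) →* GG}
  {y : Fin 45 → Fin 4 → G} {L : Local D z a b c e π y} {s : ℕ → ↥(Subgroup.centralizer ({z} : Set G))}
  {q : Fin 126 ≃ Blk D z} (N : Numbered V L s q)
include N

/-- The centraliser on the numbers. -/
noncomputable def phi (_ : Numbered V L s q) : ↥(Subgroup.centralizer ({z} : Set G)) →* Equiv.Perm (Fin 126) :=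
  (Equiv.permCongrHom q.symm).toMonoidHom.comp (act V z)

theorem phi_apply (g : ↥(Subgroup.centralizer ({z} : Set G))) (d : Fin 126) : q (N.phi g d) = act V z g (q d) := by
  simp [phi, Equiv.permCongrHom, Equiv.permCongr_apply]

theorem phi_six {x : ℕ} (hx : x < 6) : N.phi (s x) = sixP x :=
  Equiv.ext fun d => q.injective (by rw [N.phi_apply, N.eqv x hx])

theorem phi_low {k : ℕ} (hk : k < 5) : N.phi (L.rep V (f5 k)) = sixP k := by
  rw [← N.six.low k hk, N.phi_six (by omega)]

theorem act_low {k : ℕ} (hk : k < 5) (d : Fin 126) : q (sixP k d) = act V z (L.rep V (f5 k)) (q d) := by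
  rw [← N.six.low k hk, N.eqv k (by omega)]

theorem sixP_invol {k : ℕ} (hk : k < 6) (d : Fin 126) : sixP k (sixP k d) = d := by
  rw [← N.phi_six hk, ← Equiv.Perm.mul_apply, ← map_mul, N.six.sq, map_one]
  rfl

theorem word_far (w : List ℕ) (hw : ∀ k ∈ w, k < 5) : ∀ d, L.Far (q (wP w d)) → L.Far (q d) := by
  induction w with
  | nil => intro d h; exact h
  | cons k w ih =>
    intro d h
    rw [wP_cons, Equiv.Perm.mul_apply] at h
    have h1 := L.far_rep V (ih (fun y hy => hw y (List.mem_cons_of_mem _ hy)) _ h) (f5 k)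
    have hk := hw k List.mem_cons_self
    rwa [← N.act_low hk, N.sixP_invol (by omega)] at h1

/-- Far points are far quads. -/
theorem far_pt {d : Fin 126} (hd : Far d) : L.Far (q d) := by
  obtain ⟨w, hw, h⟩ := exists_rep d (fun e => orbit_spec.2.2.2.2.2.2.1 (e ▸ hd))
  rcases h with ⟨-, he⟩ | ⟨he, -⟩
  swap
  · exact absurd hd he
  refine N.word_far w hw d ?_
  rw [he, ← orbit_spec.2.2.1, N.eqv 5 (by norm_num), N.zero]
  obtain ⟨⟨hxD, hxa⟩, -⟩ := N.six.top
  intro v hv hva
  have F := V.facts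
  have haT : (s 5 : G) * a * (s 5 : G)⁻¹ ∈ (act V z (s 5) L.base).1 := act_mem V (s 5) L.a_mem
  have hD' := (act V z (s 5) L.base).2
  have h1 : Commute a ((s 5 : G) * a * (s 5 : G)⁻¹) :=
    V.quad_all hD' L.frame.ha (L.frame.quad.mem L.a_mem).2 hv hva.symm haT
  rw [TSet.inv F.tg.1 hxD, TSet.braid F.tg.1 hxD L.frame.ha hxa] at h1
  refine hxa ?_
  have h2 := ((Commute.refl a).mul_right h1).mul_right (Commute.refl a)
  simp only [← mul_assoc, F.sq L.frame.ha, one_mul] at h2
  rw [mul_assoc, F.sq L.frame.ha, mul_one] at h2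
  exact h2.symm

/-- The number of a numbered quad among the 126. -/
noncomputable def num (_ : Numbered V L s q) (j : Fin 45) : Fin 126 := q.symm (L.blk V j)

theorem q_num (j : Fin 45) : q (N.num j) = L.blk V j := q.apply_symm_apply _

theorem num_inj {i j : Fin 45} (h : N.num i = N.num j) : i = j :=
  L.blk_inj V (by rw [← N.q_num, ← N.q_num, h])

theorem num_ne_zero (j : Fin 45) : N.num j ≠ 0 := fun h =>
  L.blk_ne_base V j (by rw [← N.q_num, h, N.zero])

theorem num_not_far (j : Fin 45) : ¬ Far (N.num j) := fun h =>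
  N.far_pt h (y j 0) (by rw [N.q_num]; exact mem_blockSet y j 0) (L.y_a j 0)

/-- The other points are numbered quads. -/
theorem near_pt {d : Fin 126} (h0 : d ≠ 0) (hd : ¬ Far d) : ∃ j, N.num j = d := by
  classical
  set T := (Finset.univ.filter fun d : Fin 126 => ¬ Far d).erase 0
  have hT : T.card = 45 := by
    have hm : (0 : Fin 126) ∈ Finset.univ.filter fun d : Fin 126 => ¬ Far d :=
      Finset.mem_filter.2 ⟨Finset.mem_univ _, orbit_spec.2.2.2.2.2.2.1⟩
    rw [Finset.card_erase_of_mem hm]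
    have := Finset.card_filter_add_card_filter_not (s := (Finset.univ : Finset (Fin 126))) (fun d => Far d)
    rw [Finset.card_univ, Fintype.card_fin, ← Fintype.card_subtype, ← Nat.card_eq_fintype_card,
      orbit_spec.2.2.2.2.2.2.2.2.1] at this
    omega
  have hsub : (Finset.univ : Finset (Fin 45)).image N.num ⊆ T := by
    intro x hx
    obtain ⟨j, -, rfl⟩ := Finset.mem_image.1 hx
    exact Finset.mem_erase.2 ⟨N.num_ne_zero j, Finset.mem_filter.2 ⟨Finset.mem_univ _, N.num_not_far j⟩⟩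
  have heq := Finset.eq_of_subset_of_card_le hsub (by
    rw [hT, Finset.card_image_of_injective _ (fun i j h => N.num_inj h), Finset.card_univ, Fintype.card_fin])
  have hdT : d ∈ T := Finset.mem_erase.2 ⟨h0, Finset.mem_filter.2 ⟨Finset.mem_univ _, hd⟩⟩
  obtain ⟨j, -, hj⟩ := Finset.mem_image.1 (heq.symm ▸ hdT)
  exact ⟨j, hj⟩

theorem sixP_num {k : ℕ} (hk : k < 5) (j : Fin 45) : sixP k (N.num j) = N.num (rF (f5 k) j) :=
  q.injective (by rw [N.act_low hk, N.q_num, N.q_num, L.act_rep_blk])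

/-- Two permutations commuting with the five are equal when they agree near and at the representative. -/
theorem eq_of_det {σ τ : Equiv.Perm (Fin 126)} (hσ : ∀ k < 5, σ * sixP k = sixP k * σ)
    (hτ : ∀ k < 5, τ * sixP k = sixP k * τ) (h0 : σ 0 = τ 0) (hn : ∀ j, σ (N.num j) = τ (N.num j))
    (h1 : σ d1 = τ d1) : σ = τ := by
  refine Equiv.ext fun d => ?_
  by_cases hd0 : d = 0
  · rw [hd0, h0]
  by_cases hd : Far d
  · obtain ⟨w, hw, h⟩ := exists_rep d hd0
    rcases h with ⟨-, he⟩ | ⟨he, -⟩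
    swap
    · exact absurd hd he
    have com : ∀ ρ : Equiv.Perm (Fin 126), (∀ k < 5, ρ * sixP k = sixP k * ρ) → wP w * ρ = ρ * wP w := by
      intro ρ hρ
      refine (Commute.list_prod_left _ _ fun p hp => ?_).eq
      obtain ⟨k, hk, rfl⟩ := List.mem_map.1 hp
      exact (hρ k (hw k (List.mem_reverse.1 hk))).symm
    refine (wP w).injective ?_
    rw [← Equiv.Perm.mul_apply, com σ hσ, Equiv.Perm.mul_apply, he, ← Equiv.Perm.mul_apply, com τ hτ,
      Equiv.Perm.mul_apply, he, h1]
  · obtain ⟨j, rfl⟩ := N.near_pt hd0 hd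
    exact hn j

/-- A member of the base. -/
theorem base_member {u : G} (hu : u ∈ (L.base).1) (hC : u ∈ Subgroup.centralizer ({z} : Set G)) :
    N.phi ⟨u, hC⟩ 0 = 0 ∧ (∀ j, N.phi ⟨u, hC⟩ (N.num j) = N.num j) ∧
      (∀ k < 5, N.phi ⟨u, hC⟩ * sixP k = sixP k * N.phi ⟨u, hC⟩) ∧ N.phi ⟨u, hC⟩ d1 = d2 := by
  obtain ⟨huD, huz⟩ := L.frame.quad.mem hu
  have hy : ∀ j m, Commute u (y j m) := fun j m =>
    (V.quad_all L.frame.quad (L.y_mem V j m).1 (L.y_mem V j m).2 L.a_mem (L.y_a j m) hu).symm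
  have h0 : N.phi ⟨u, hC⟩ 0 = 0 := q.injective (by
    rw [N.phi_apply, N.zero]
    exact Subtype.ext ((V.fix_iff huD huz L.frame.quad hu).2 (Commute.refl u)))
  have hn : ∀ j, N.phi ⟨u, hC⟩ (N.num j) = N.num j := fun j => q.injective (by
    rw [N.phi_apply, N.q_num]
    exact Subtype.ext ((V.fix_iff huD huz (L.quad V j) (mem_blockSet y j 0)).2 (hy j 0)))
  have hc : ∀ k < 5, N.phi ⟨u, hC⟩ * sixP k = sixP k * N.phi ⟨u, hC⟩ := fun k hk => by
    rw [← N.phi_low hk, ← map_mul, ← map_mul]
    exact congrArg _ (Subtype.ext (hy (f5 k) 0).eq)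
  refine ⟨h0, hn, hc, ?_⟩
  obtain ⟨-, -, o5, -, f1, -, f0, -, -, hfix⟩ := orbit_spec
  have hne : N.phi ⟨u, hC⟩ d1 ≠ d1 := by
    intro h
    have h2 := congrArg q h
    rw [N.phi_apply] at h2
    obtain ⟨v, hv⟩ := (q d1).2.nonempty
    have hcomm := (V.fix_iff huD huz (q d1).2 hv).1 (congrArg Subtype.val h2)
    exact N.far_pt f1 v hv (V.quad_all L.frame.quad ((q d1).2.mem hv).1 ((q d1).2.mem hv).2 hu hcomm.symm L.a_mem)
  have hfar : Far (N.phi ⟨u, hC⟩ d1) := by
    by_contra hf
    by_cases e0 : N.phi ⟨u, hC⟩ d1 = 0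
    · exact f0 ((N.phi ⟨u, hC⟩).injective (e0.trans h0.symm) ▸ f1)
    obtain ⟨j, hj⟩ := N.near_pt e0 hf
    exact N.num_not_far j ((N.phi ⟨u, hC⟩).injective ((hn j).trans hj) ▸ f1)
  refine (hfix _ hfar fun k hk => ?_).resolve_left hne
  rw [← Equiv.Perm.mul_apply, ← hc k (by omega), Equiv.Perm.mul_apply]
  congr 1
  refine q.injective ?_
  rw [N.act_low (by omega), ← o5, N.eqv 5 (by norm_num), N.zero, ← Equiv.Perm.mul_apply, ← map_mul]
  have hcs : L.rep V (f5 k) * s 5 = s 5 * L.rep V (f5 k) := Subtype.ext ((N.six.top.2 k (by omega)).2 hk).eq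
  rw [hcs, map_mul, Equiv.Perm.mul_apply, L.act_rep_base]

/-- Members of one quad act alike. -/
theorem equal_action (S : Blk D z) {u v : ↥(Subgroup.centralizer ({z} : Set G))} (hu : (u : G) ∈ S.1)
    (hv : (v : G) ∈ S.1) : N.phi u = N.phi v := by
  have hbase : ∀ p r : ↥(Subgroup.centralizer ({z} : Set G)), (p : G) ∈ (L.base).1 → (r : G) ∈ (L.base).1 →
      N.phi p = N.phi r := by
    intro p r hp hr
    obtain ⟨p0, pn, pc, p1⟩ := N.base_member hp p.2
    obtain ⟨r0, rn, rc, r1⟩ := N.base_member hr r.2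
    exact N.eq_of_det pc rc (p0.trans r0.symm) (fun j => (pn j).trans (rn j).symm) (p1.trans r1.symm)
  obtain ⟨a', b', c', e', ht, hS⟩ := S.2
  obtain ⟨g, ga, gb, gc, ge, gz⟩ := V.tuple_conj L.frame.tup ht
  have hg : Commute g z := mul_inv_eq_iff_eq_mul.1 gz
  obtain ⟨gg, rfl⟩ : ∃ gg : ↥(Subgroup.centralizer ({z} : Set G)), (gg : G) = g :=
    ⟨⟨g, Subgroup.mem_centralizer_singleton_iff.2 hg⟩, rfl⟩
  have hback : ∀ p : ↥(Subgroup.centralizer ({z} : Set G)), (p : G) ∈ S.1 →
      ((gg⁻¹ * p * gg : ↥(Subgroup.centralizer ({z} : Set G))) : G) ∈ (L.base).1 := by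
    intro p hp
    rw [hS] at hp
    simp only [Subgroup.coe_mul, Subgroup.coe_inv]
    rcases hp with hp | hp | hp | hp <;> rw [hp]
    · left; rw [← ga]; group
    · right; left; rw [← gb]; group
    · right; right; left; rw [← gc]; group
    · right; right; right; rw [Set.mem_singleton_iff, ← ge]; group
  have := hbase _ _ (hback u hu) (hback v hv)
  rw [map_mul, map_mul, map_mul, map_mul] at this
  exact mul_left_cancel (mul_right_cancel this)

/-- The stabiliser of the base permutes the numbered quads as an automorphism. -/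
theorem exists_restr {g : ↥(Subgroup.centralizer ({z} : Set G))} (h0 : N.phi g 0 = 0) :
    ∃ ρ ∈ AutR, (∀ j, N.phi g (N.num j) = N.num (ρ j)) ∧
      (ρ = 1 → ∀ k < 5, N.phi g * sixP k = sixP k * N.phi g) := by
  classical
  have hb : act V z g L.base = L.base := by rw [← N.zero, ← N.phi_apply, h0]
  have hex : ∀ j, ∃ i, act V z g (L.blk V j) = L.blk V i := by
    intro j
    have h1 : (g : G) * a * (g : G)⁻¹ ∈ (L.base).1 := by
      have := act_mem V g (S := L.base) L.a_mem
      rwa [hb] at this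
    have hm := act_mem V g (S := L.blk V j) (mem_blockSet y j 0)
    have hmem := (act V z g (L.blk V j)).2.mem hm
    have h2 : Commute ((g : G) * y j 0 * (g : G)⁻¹) a :=
      V.quad_all L.frame.quad hmem.1 hmem.2 h1 ((commute_conj_iff (g : G) _ _).2 (L.y_a j 0)) L.a_mem
    rcases L.near_cases V hm h2 with h | ⟨i, h⟩
    · exact absurd ((act V z g).injective (h.trans hb.symm)) (L.blk_ne_base V j)
    · exact ⟨i, h⟩
  choose f hf using hex
  have hinj : Function.Injective f := fun i j h =>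
    L.blk_inj V ((act V z g).injective ((hf i).trans ((congrArg (L.blk V) h).trans (hf j).symm)))
  obtain ⟨ρ, hρ⟩ : ∃ ρ : Equiv.Perm (Fin 45), ∀ j, ρ j = f j :=
    ⟨Equiv.ofBijective f ⟨hinj, Finite.injective_iff_surjective.1 hinj⟩, fun j => rfl⟩
  have hrep : ∀ i, N.phi g * N.phi (L.rep V i) * (N.phi g)⁻¹ = N.phi (L.rep V (f i)) := by
    intro i
    rw [← map_inv, ← map_mul, ← map_mul]
    refine N.equal_action (L.blk V (f i)) ?_ (mem_blockSet y (f i) 0)
    rw [← hf i]
    exact act_mem V g (S := L.blk V i) (mem_blockSet y i 0)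
  have hnum : ∀ j, N.phi g (N.num j) = N.num (ρ j) := fun j => q.injective (by
    rw [N.phi_apply, N.q_num, N.q_num, hρ, hf])
  have hrn : ∀ i j, N.phi (L.rep V i) (N.num j) = N.num (rF i j) := fun i j => q.injective (by
    rw [N.phi_apply, N.q_num, N.q_num, L.act_rep_blk])
  refine ⟨ρ, fun i j => N.num_inj ?_, hnum, fun h1 k hk => ?_⟩
  · rw [← hnum, ← hrn i j, ← hrn (ρ i) (ρ j), ← hnum j, ← Equiv.Perm.mul_apply, ← Equiv.Perm.mul_apply]
    congr 1
    have := hrep i
    rw [mul_inv_eq_iff_eq_mul] at this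
    rw [this, hρ]
  · have := hrep (f5 k)
    rw [← hρ, h1, Equiv.Perm.one_apply, N.phi_low hk, mul_inv_eq_iff_eq_mul] at this
    exact this

/-- An odd element: not among the products of the six. -/
theorem exists_outside : ∃ g, N.phi g ∉ genGroup 7 126 l126Gens := by
  obtain ⟨g, ga, gb, gc, ge, gz, gy⟩ := L.exists_swap V
  obtain ⟨gg, rfl⟩ : ∃ gg : ↥(Subgroup.centralizer ({z} : Set G)), (gg : G) = g :=
    ⟨⟨g, Subgroup.mem_centralizer_singleton_iff.2 (mul_inv_eq_iff_eq_mul.1 gz)⟩, rfl⟩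
  refine ⟨gg, fun h => swapP_not_five ?_⟩
  have h0 : N.phi gg 0 = 0 := q.injective (by
    rw [N.phi_apply, N.zero]
    exact V.blk_eq (act_mem V gg L.a_mem) (show _ ∈ _ by rw [ga]; exact L.a_mem))
  have h5 := stab_six h h0
  have key : ∀ σ ∈ genGroup 7 126 p126Gens, ∃ π' ∈ genGroup 6 45 c5Gens, ∀ j, σ (N.num j) = N.num (π' j) := by
    intro σ hσ
    rw [p126_eq] at hσ
    induction hσ using Subgroup.closure_induction with
    | mem τ hτ =>
      obtain ⟨k, hk, rfl⟩ := hτ
      exact ⟨rowPerm (f5 k), rowPerm_mem_c5 hk, fun j => by rw [N.sixP_num hk, rowPerm_apply]⟩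
    | one => exact ⟨1, one_mem _, fun j => rfl⟩
    | mul σ τ _ _ hσ hτ =>
      obtain ⟨p, hp, e1⟩ := hσ
      obtain ⟨r, hr, e2⟩ := hτ
      exact ⟨p * r, mul_mem hp hr, fun j => by rw [Equiv.Perm.mul_apply, e2, e1, Equiv.Perm.mul_apply]⟩
    | inv σ _ hσ =>
      obtain ⟨p, hp, e1⟩ := hσ
      refine ⟨p⁻¹, inv_mem hp, fun j => σ.injective ?_⟩
      rw [e1, show p (p⁻¹ j) = j from p.apply_symm_apply j]
      exact σ.apply_symm_apply _
  obtain ⟨π', hπ', e1⟩ := key _ h5
  have : π' = swapP := Equiv.ext fun j => N.num_inj (by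
    rw [← e1]
    refine q.injective ?_
    rw [N.phi_apply, N.q_num, N.q_num]
    exact V.blk_eq (act_mem V gg (mem_blockSet y j 0)) (gy j))
  rwa [this] at hπ'

theorem six_le_range : genGroup 7 126 l126Gens ≤ N.phi.range := by
  rw [l126_eq, Subgroup.closure_le]
  rintro _ ⟨x, hx, rfl⟩
  exact ⟨s x, N.phi_six hx⟩

theorem range_transitive (d : Fin 126) : ∃ σ ∈ N.phi.range, σ 0 = d := by
  obtain ⟨σ, hσ, h⟩ := six_transitive d
  exact ⟨σ, N.six_le_range hσ, h⟩

/-- The order of the permutation group. -/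
theorem card_range : Nat.card N.phi.range = 13063680 := by
  classical
  set P := N.phi.range with hP
  set H := MulAction.stabilizer P (0 : Fin 126) with hH
  have hidx : H.index = 126 := by
    rw [hH, MulAction.index_stabilizer, show MulAction.orbit P (0 : Fin 126) = Set.univ from
      Set.eq_univ_of_forall fun d => let ⟨σ, hσ, e⟩ := N.range_transitive d; ⟨⟨σ, hσ⟩, e⟩,
      Set.ncard_univ, Nat.card_fin]
  have hres : ∀ σ : H, ∃ ρ ∈ AutR, (∀ j, (σ.1.1) (N.num j) = N.num (ρ j)) ∧
      (ρ = 1 → ∀ k < 5, σ.1.1 * sixP k = sixP k * σ.1.1) := by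
    intro σ
    obtain ⟨g, hg⟩ := σ.1.2
    have h0 : σ.1.1 0 = 0 := σ.2
    rw [← hg] at h0 ⊢
    exact N.exists_restr h0
  choose r hr hrn hrc using hres
  let ρh : H →* AutR := MonoidHom.mk' (fun σ => ⟨r σ, hr σ⟩) fun σ τ => Subtype.ext (Equiv.ext fun j => N.num_inj (by
    rw [← hrn]
    show σ.1.1 (τ.1.1 (N.num j)) = N.num (r σ (r τ j))
    rw [hrn, hrn]))
  have hker : Nat.card ρh.ker ≤ 2 := by
    have hd : ∀ σ : ρh.ker, σ.1.1.1 d1 = d1 ∨ σ.1.1.1 d1 = d2 := by
      intro σ
      obtain ⟨-, -, o5, -, f1, -, f0, -, -, hfix⟩ := orbit_spec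
      have h1 : r σ.1 = 1 := congrArg Subtype.val σ.2
      have h0 : σ.1.1.1 0 = 0 := σ.1.2
      have hn : ∀ j, σ.1.1.1 (N.num j) = N.num j := fun j => by rw [hrn, h1]; rfl
      refine hfix _ ?_ fun k hk => ?_
      · by_contra hf
        by_cases e0 : σ.1.1.1 d1 = 0
        · exact f0 (σ.1.1.1.injective (e0.trans h0.symm) ▸ f1)
        obtain ⟨j, hj⟩ := N.near_pt e0 hf
        exact N.num_not_far j (σ.1.1.1.injective ((hn j).trans hj) ▸ f1)
      · rw [← Equiv.Perm.mul_apply, ← hrc σ.1 h1 k (by omega), Equiv.Perm.mul_apply]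
        congr 1
        refine q.injective ?_
        rw [N.act_low (by omega), ← o5, N.eqv 5 (by norm_num), N.zero, ← Equiv.Perm.mul_apply, ← map_mul]
        have hcs : L.rep V (f5 k) * s 5 = s 5 * L.rep V (f5 k) :=
          Subtype.ext ((N.six.top.2 k (by omega)).2 hk).eq
        rw [hcs, map_mul, Equiv.Perm.mul_apply, L.act_rep_base]
    have hj : Function.Injective (fun σ : ρh.ker => decide (σ.1.1.1 d1 = d1)) := by
      intro σ τ h
      have e1 : σ.1.1.1 d1 = τ.1.1.1 d1 := by
        simp only [decide_eq_decide] at h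
        rcases hd σ with e | e <;> rcases hd τ with e' | e' <;> rw [e, e']
        · exact (h.1 e).symm.trans e'
        · exact e.symm.trans (h.2 e')
      have hs : r σ.1 = 1 := congrArg Subtype.val σ.2
      have ht : r τ.1 = 1 := congrArg Subtype.val τ.2
      refine Subtype.ext (Subtype.ext (Subtype.ext (N.eq_of_det (hrc _ hs) (hrc _ ht) ?_ ?_ e1)))
      · exact (σ.1.2 : σ.1.1.1 0 = 0).trans (τ.1.2 : τ.1.1.1 0 = 0).symm
      · intro j; rw [hrn, hrn, hs, ht]
    exact (Nat.card_le_card_of_injective _ hj).trans (by rw [Nat.card_eq_fintype_card, Fintype.card_bool])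
  have hHle : Nat.card H ≤ 2 * 51840 := by
    rw [Subgroup.card_eq_card_quotient_mul_card_subgroup ρh.ker,
      Nat.card_congr (QuotientGroup.quotientKerEquivRange ρh).toEquiv, mul_comm]
    exact Nat.mul_le_mul hker ((Subgroup.card_le_card_group _).trans card_aut_le)
  have hPH := H.card_mul_index
  rw [hidx] at hPH
  obtain ⟨g, hg⟩ := N.exists_outside
  have hlt : 1 < (genGroup 7 126 l126Gens).relIndex P := by
    have h1 : (genGroup 7 126 l126Gens).relIndex P ≠ 1 := fun h =>
      hg (Subgroup.relIndex_eq_one.1 h ⟨g, rfl⟩)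
    have h2 : (genGroup 7 126 l126Gens).relIndex P ≠ 0 := Subgroup.index_ne_zero_of_finite
    omega
  have hPl := ((genGroup 7 126 l126Gens).subgroupOf P).card_mul_index
  rw [← Subgroup.relIndex, Nat.card_congr (Subgroup.subgroupOfEquivOfLe N.six_le_range).toEquiv, card_l126] at hPl
  nlinarith

/-- The order of the kernel. -/
theorem card_ker : Nat.card N.phi.ker = 3 * 2 ^ 13 := by
  have h := Subgroup.card_eq_card_quotient_mul_card_subgroup N.phi.ker
  rw [Nat.card_congr (QuotientGroup.quotientKerEquivRange N.phi).toEquiv, N.card_range, V.card_cent L] at h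
  norm_num at h ⊢
  omega

end Numbered

end Cfsg.Agent.FischerQuad
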