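import Cfsg.Agent.Lib.FischerQuad.Quads

/-!
The quads commuting with a given one.
-/

set_option autoImplicit false

namespace Cfsg.Agent.FischerQuad

open Cfsg.Agent.Fischer
open Cfsg.Agent.Fischer.Factor
open Cfsg.Agent.Fi22Local
open Cfsg.Agent.Fi22Local.Triple
open Cfsg.Agent.FischerPresented
open Cfsg.Agent.FischerInvol24
open Cfsg.Agent.FischerUnique.InvolutionClasses (Fac)

universe u

variable {G : Type u} [Group G] [Finite G] {D : Set G}

/-- The common neighbours of a frame, numbered as in Fi22. -/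
structure Local (D : Set G) (z a b c e : G) (π : ↥(Subgroup.centralizer ({a, b} : Set G)) →* GG)
    (y : Fin 45 → Fin 4 → G) : Prop where
  frame : Frame D z a b c e π
  mem : ∀ j m, y j m ∈ Nb D a ∧ y j m ∈ Nb D b ∧ y j m ∈ Nb D c ∧ y j m ∈ Nb D e
  img : ∀ j m (h : y j m ∈ Subgroup.centralizer ({a, b} : Set G)),
    π ⟨y j m, h⟩ = trN (qq (4 * (j : ℕ) + (m : ℕ)))

theorem qq_lt (j : Fin 45) (m : Fin 4) : qq (4 * (j : ℕ) + (m : ℕ)) < 3510 :=
  (pts_spec.1 _ (by omega)).1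

/-- The four of a number. -/
def blockSet (y : Fin 45 → Fin 4 → G) (j : Fin 45) : Set G := {y j 3, y j 2, y j 1, y j 0}

omit [Finite G] in
theorem mem_blockSet (y : Fin 45 → Fin 4 → G) (j : Fin 45) (m : Fin 4) : y j m ∈ blockSet y j := by
  fin_cases m <;> simp [blockSet]

omit [Finite G] in
theorem exists_of_mem_blockSet {y : Fin 45 → Fin 4 → G} {j : Fin 45} {x : G} (h : x ∈ blockSet y j) :
    ∃ m, y j m = x := by
  rcases h with rfl | rfl | rfl | rfl <;> exact ⟨_, rfl⟩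

variable (V : Env D)
include V

theorem Env.exists_local {z a b c e : G} {π : ↥(Subgroup.centralizer ({a, b} : Set G)) →* GG}
    (R : Frame D z a b c e π) : ∃ y, Local D z a b c e π y := by
  have F := V.facts
  choose x hxa hxb hxi using fun (j : Fin 45) (m : Fin 4) => R.map.lift _ (trN_mem (qq_lt j m))
  refine ⟨fun j m => (x j m : G), R, fun j m => ?_, fun j m h => hxi j m⟩
  obtain ⟨h0, h7, n0, n7⟩ := qq_comm (k := 4 * (j : ℕ) + (m : ℕ)) (by omega)
  refine ⟨hxa j m, hxb j m, ⟨(hxa j m).1, fun he => n0 ?_, ?_⟩, (hxa j m).1, fun he => n7 ?_, ?_⟩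
  · refine trN_inj (qq_lt j m) (by norm_num) ((hxi j m).symm.trans ?_)
    rw [← R.imc (memC R.hca R.hcb)]
    exact congrArg π (Subtype.ext he)
  · refine R.map.comm F (a := ⟨c, memC R.hca R.hcb⟩) R.hca.1 (hxa j m).1 ?_
    rw [R.imc, hxi]; exact h0
  · refine trN_inj (qq_lt j m) (by norm_num) ((hxi j m).symm.trans ?_)
    rw [← R.ime (memC R.hea R.heb)]
    exact congrArg π (Subtype.ext he)
  · refine R.map.comm F (a := ⟨e, memC R.hea R.heb⟩) R.hea.1 (hxa j m).1 ?_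
    rw [R.ime, hxi]; exact h7

omit V

namespace Local

variable {z a b c e : G} {π : ↥(Subgroup.centralizer ({a, b} : Set G)) →* GG}
  {y : Fin 45 → Fin 4 → G} (L : Local D z a b c e π y)
include L

theorem memy (j : Fin 45) (m : Fin 4) : y j m ∈ Subgroup.centralizer ({a, b} : Set G) :=
  memC (L.mem j m).1 (L.mem j m).2.1

theorem inj {i j : Fin 45} {m n : Fin 4} (h : y i m = y j n) : i = j ∧ m = n := by
  have e1 : trN (qq (4 * (i : ℕ) + (m : ℕ))) = trN (qq (4 * (j : ℕ) + (n : ℕ))) := by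
    rw [← L.img i m (L.memy i m), ← L.img j n (L.memy j n)]
    exact congrArg π (Subtype.ext h)
  have := pts_spec.2.1 _ _ (by omega) (by omega) (trN_inj (qq_lt i m) (qq_lt j n) e1)
  exact ⟨Fin.ext (by omega), Fin.ext (by omega)⟩

include V

theorem eq_of_img (j : Fin 45) (m : Fin 4) {w : ↥(Subgroup.centralizer ({a, b} : Set G))}
    (ha : (w : G) ∈ Nb D a) (hb : (w : G) ∈ Nb D b) (h : π w = trN (qq (4 * (j : ℕ) + (m : ℕ)))) :
    (w : G) = y j m :=
  congrArg Subtype.val (L.frame.map.inj V.facts L.frame.ha L.frame.hb (a := w) (b := ⟨_, L.memy j m⟩) ha hb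
    (L.mem j m).1 (h.trans (L.img j m _).symm))

/-- Every common neighbour is numbered. -/
theorem surj {w : G} (ha : w ∈ Nb D a) (hb : w ∈ Nb D b) (hc : w ∈ Nb D c) (he : w ∈ Nb D e) :
    ∃ j m, y j m = w := by
  have F := V.facts
  have R := L.frame
  obtain ⟨p, hp, ep⟩ := exists_trN (R.map.mem ⟨w, memC ha hb⟩ ha hb)
  have h0 : p ≠ 0 := by
    rintro rfl
    exact hc.2.1 (congrArg Subtype.val (R.map.inj F R.ha R.hb (a := ⟨w, memC ha hb⟩)
      (b := ⟨c, memC R.hca R.hcb⟩) ha hb R.hca (by rw [R.imc, ← ep])))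
  have h7 : p ≠ 7 := by
    rintro rfl
    exact he.2.1 (congrArg Subtype.val (R.map.inj F R.ha R.hb (a := ⟨w, memC ha hb⟩)
      (b := ⟨e, memC R.hea R.heb⟩) ha hb R.hea (by rw [R.ime, ← ep])))
  have c0 : tapp 0 p = p := (tapp_fix_iff (by norm_num) hp).2 (by
    rw [← R.imc (memC R.hca R.hcb), ep]
    exact (show Commute (⟨c, memC R.hca R.hcb⟩ : ↥(Subgroup.centralizer ({a, b} : Set G))) ⟨w, memC ha hb⟩ from
      Subtype.ext hc.2.2.eq).map π)
  have c7 : tapp 7 p = p := (tapp_fix_iff (by norm_num) hp).2 (by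
    rw [← R.ime (memC R.hea R.heb), ep]
    exact (show Commute (⟨e, memC R.hea R.heb⟩ : ↥(Subgroup.centralizer ({a, b} : Set G))) ⟨w, memC ha hb⟩ from
      Subtype.ext he.2.2.eq).map π)
  obtain ⟨k, hk, ek⟩ := pts_spec.2.2 p hp (in2_iff.2 ⟨h0, h7, c0, c7⟩)
  refine ⟨⟨k / 4, by omega⟩, ⟨k % 4, by omega⟩, (L.eq_of_img V _ _ (w := ⟨w, memC ha hb⟩) ha hb ?_).symm⟩
  rw [← ep, ← ek]
  simp only
  rw [Nat.div_add_mod]

theorem commute_iff (i j : Fin 45) (m n : Fin 4) :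
    Commute (y i m) (y j n) ↔ Commute (trN (qq (4 * (i : ℕ) + (m : ℕ)))) (trN (qq (4 * (j : ℕ) + (n : ℕ)))) := by
  rw [← L.img i m (L.memy i m), ← L.img j n (L.memy j n)]
  refine ⟨fun h => (show Commute (⟨_, L.memy i m⟩ : ↥(Subgroup.centralizer ({a, b} : Set G))) ⟨_, L.memy j n⟩ from
    Subtype.ext h.eq).map π, fun h => ?_⟩
  exact L.frame.map.comm V.facts (a := ⟨_, L.memy i m⟩) (b := ⟨_, L.memy j n⟩) (L.mem i m).1.1 (L.mem j n).1.1 h

/-- Each number gives a quad with the same product. -/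
theorem quad (j : Fin 45) : Quad D z (blockSet y j) := by
  classical
  have F := V.facts
  have R := L.frame
  obtain ⟨hp, hcm⟩ := block_spec j.2
  have hD : ∀ u ∈ [y j 3, y j 2, y j 1, y j 0], u ∈ D := by simp [(L.mem j _).1.1]
  have hc : ∀ u ∈ [y j 3, y j 2, y j 1, y j 0], ∀ v ∈ [y j 3, y j 2, y j 1, y j 0], Commute u v := by
    intro u hu v hv
    obtain ⟨m, rfl⟩ : ∃ m, y j m = u := by
      simp only [List.mem_cons, List.not_mem_nil, or_false] at hu
      rcases hu with h | h | h | h <;> exact ⟨_, h.symm⟩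
    obtain ⟨n, rfl⟩ : ∃ n, y j n = v := by
      simp only [List.mem_cons, List.not_mem_nil, or_false] at hv
      rcases hv with h | h | h | h <;> exact ⟨_, h.symm⟩
    exact (L.commute_iff V j j m n).2 (hcm m m.2 n n.2)
  have hn : [y j 3, y j 2, y j 1, y j 0].Nodup := by
    have : Function.Injective (y j) := fun m n h => (L.inj h).2
    exact (List.nodup_map_iff this).2 (show [(3 : Fin 4), 2, 1, 0].Nodup by decide)
  obtain ⟨w, hw⟩ : ∃ w : ↥(Subgroup.centralizer ({a, b} : Set G)),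
      w = ⟨y j 3, L.memy j 3⟩ * ⟨y j 2, L.memy j 2⟩ * ⟨y j 1, L.memy j 1⟩ * ⟨y j 0, L.memy j 0⟩ := ⟨_, rfl⟩
  obtain ⟨k, hk⟩ : ∃ k : ↥(Subgroup.centralizer ({a, b} : Set G)),
      k = ⟨e, memC R.hea R.heb⟩ * ⟨c, memC R.hca R.hcb⟩ := ⟨_, rfl⟩
  have hwk : π (k⁻¹ * w) = 1 := by
    rw [map_mul, map_inv, inv_mul_eq_one, hk, hw, map_mul, map_mul, map_mul, map_mul, R.ime, R.imc,
      L.img, L.img, L.img, L.img]
    exact hp.symm
  have hwv : (w : G) = [y j 3, y j 2, y j 1, y j 0].prod := by rw [hw]; simp [mul_assoc]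
  have hkv : (k : G) = [e, c].prod := by rw [hk]; simp
  refine ⟨y j 3, y j 2, y j 1, y j 0, ⟨hn, hD, hc, ?_⟩, rfl⟩
  rcases (R.map.ker _).1 hwk with h | h | h | h <;>
    rw [Subgroup.coe_mul, Subgroup.coe_inv, inv_mul_eq_iff_eq_mul, hwv, hkv] at h
  · exfalso
    rw [mul_one] at h
    refine F.not_fac_two_four (x := [e, c].prod) ⟨[e, c], ?_, rfl, ?_, ?_, rfl⟩
      ⟨_, hn, rfl, hD, hc, h⟩
    · simp [R.tup.ne.2.2.2.2.2.symm]
    · simp [R.hea.1, R.hca.1]
    · simp [R.hce.2.2, R.hce.2.2.symm]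
  · exfalso
    have hpar := F.parity hD (l' := [e, c, a]) (by simp [R.hea.1, R.hca.1, R.ha]) (by
      rw [h]; simp [mul_assoc])
    simp [Nat.even_iff] at hpar
  · exfalso
    have hpar := F.parity hD (l' := [e, c, b]) (by simp [R.hea.1, R.hca.1, R.hb.1]) (by
      rw [h]; simp [mul_assoc])
    simp [Nat.even_iff] at hpar
  · have hperm : [a, b, c, e].Perm [e, c, a, b] := by
      refine (List.perm_append_comm (l₁ := [a, b]) (l₂ := [c, e])).trans ?_
      exact List.Perm.swap e c [a, b]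
    rw [h, ← (R.tup.perm hperm).2.2.2]
    simp [mul_assoc]

theorem blockSet_inj {i j : Fin 45} (h : blockSet y i = blockSet y j) : i = j := by
  obtain ⟨m, hm⟩ := exists_of_mem_blockSet (h ▸ mem_blockSet y i 0)
  exact (L.inj hm).1.symm

/-- Representatives commute as the table says. -/
theorem cm_iff_commute (i j : Fin 45) : Cm i j ↔ Commute (y i 0) (y j 0) := by
  rw [L.commute_iff V]
  simpa using (action_spec i j).2

/-- Representatives act as the table says. -/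
theorem conj_mem (i j : Fin 45) : y i 0 * y j 0 * (y i 0)⁻¹ ∈ blockSet y (rF i j) := by
  have F := V.facts
  obtain ⟨m, hm, e1⟩ := (action_spec i j).1
  obtain ⟨h1, h2, -, -⟩ := L.mem i 0
  have ha : Commute (y i 0) a := h1.2.2.symm
  have hb : Commute (y i 0) b := h2.2.2.symm
  have n1 : y i 0 * y j 0 * (y i 0)⁻¹ ∈ Nb D a := by
    have := nb_conj F.tg (y i 0) (L.mem j 0).1; rwa [conj_eq_self_of_commute ha] at this
  have n2 : y i 0 * y j 0 * (y i 0)⁻¹ ∈ Nb D b := by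
    have := nb_conj F.tg (y i 0) (L.mem j 0).2.1; rwa [conj_eq_self_of_commute hb] at this
  have e2 := L.eq_of_img V (rF i j) ⟨m, hm⟩ (w := ⟨_, L.memy i 0⟩ * ⟨_, L.memy j 0⟩ * (⟨_, L.memy i 0⟩)⁻¹) n1 n2
    (by rw [map_mul, map_mul, map_inv, L.img, L.img]; simpa using e1)
  simp only [Subgroup.coe_mul, Subgroup.coe_inv] at e2
  exact e2 ▸ mem_blockSet y _ _

/-- An element exchanging the last two of the frame, with its action on the numbers. -/
theorem exists_swap : ∃ g : G, g * a * g⁻¹ = a ∧ g * b * g⁻¹ = b ∧ g * c * g⁻¹ = e ∧ g * e * g⁻¹ = c ∧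
    g * z * g⁻¹ = z ∧ ∀ j, g * y j 0 * g⁻¹ ∈ blockSet y (swapP j) := by
  have F := V.facts
  have R := L.frame
  obtain ⟨u, hu⟩ := R.map.surj (el swapW)
  have hua : Commute (u : G) a := (Subgroup.mem_centralizer_iff.1 u.2 a (Or.inl rfl)).symm
  have hub : Commute (u : G) b := (Subgroup.mem_centralizer_iff.1 u.2 b (Or.inr rfl)).symm
  have key : ∀ {v v' : ↥(Subgroup.centralizer ({a, b} : Set G))}, (v : G) ∈ Nb D a → (v : G) ∈ Nb D b →
      (v' : G) ∈ Nb D a → (el swapW) * π v * (el swapW)⁻¹ = π v' → (u : G) * v * (u : G)⁻¹ = v' := by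
    intro v v' hva hvb hv' h
    have h1 : (u : G) * v * (u : G)⁻¹ ∈ Nb D a := by
      have := nb_conj F.tg (u : G) hva; rwa [conj_eq_self_of_commute hua] at this
    have h2 : (u : G) * v * (u : G)⁻¹ ∈ Nb D b := by
      have := nb_conj F.tg (u : G) hvb; rwa [conj_eq_self_of_commute hub] at this
    exact congrArg Subtype.val (R.map.inj F R.ha R.hb (a := u * v * u⁻¹) (b := v') h1 h2 hv'
      (by rw [map_mul, map_mul, map_inv, hu, h]))
  obtain ⟨s0, s7, sj⟩ := swap_spec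
  have g3 : (u : G) * c * (u : G)⁻¹ = e := key (v := ⟨c, memC R.hca R.hcb⟩) (v' := ⟨e, memC R.hea R.heb⟩)
    R.hca R.hcb R.hea (by rw [R.imc, R.ime, ← trN_apt _ (by norm_num), s0])
  have g4 : (u : G) * e * (u : G)⁻¹ = c := key (v := ⟨e, memC R.hea R.heb⟩) (v' := ⟨c, memC R.hca R.hcb⟩)
    R.hea R.heb R.hca (by rw [R.imc, R.ime, ← trN_apt _ (by norm_num), s7])
  refine ⟨u, conj_eq_self_of_commute hua, conj_eq_self_of_commute hub, g3, g4, ?_, fun j => ?_⟩
  · conv_lhs => rw [← R.prod_eq]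
    rw [show (u : G) * (a * b * c * e) * (u : G)⁻¹ = (u : G) * a * (u : G)⁻¹ * ((u : G) * b * (u : G)⁻¹) *
      ((u : G) * c * (u : G)⁻¹) * ((u : G) * e * (u : G)⁻¹) by group, conj_eq_self_of_commute hua,
      conj_eq_self_of_commute hub, g3, g4, mul_assoc (a * b), R.hce.2.2.symm.eq, ← mul_assoc, R.prod_eq]
  · obtain ⟨m, hm, e1⟩ := sj j
    have e2 := key (v := ⟨_, L.memy j 0⟩) (v' := ⟨_, L.memy (swapP j) ⟨m, hm⟩⟩) (L.mem j 0).1 (L.mem j 0).2.1
      (L.mem _ _).1 (by rw [L.img, L.img]; simpa using e1)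
    exact e2 ▸ mem_blockSet y _ _

omit V in
/-- What fixes the frame and all its common neighbours. -/
theorem fix_all {g : G} (ha : Commute g a) (hb : Commute g b) (hc : Commute g c) (he : Commute g e)
    (hy : ∀ j m, Commute g (y j m)) :
    ∃ u v : G, (u = 1 ∨ u = a ∨ u = b ∨ u = a * b) ∧ (v = 1 ∨ v = c ∨ v = e ∨ v = c * e) ∧ g = v * u := by
  have R := L.frame
  have hg : g ∈ Subgroup.centralizer ({a, b} : Set G) := by
    rw [Subgroup.mem_centralizer_iff]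
    rintro v (rfl | rfl)
    exacts [ha.eq.symm, hb.eq.symm]
  obtain ⟨gg, rfl⟩ : ∃ gg : ↥(Subgroup.centralizer ({a, b} : Set G)), (gg : G) = g := ⟨⟨g, hg⟩, rfl⟩
  have key : ∀ (p : ℕ), p < 3510 → ∀ v : ↥(Subgroup.centralizer ({a, b} : Set G)), π v = trN p →
      Commute (gg : G) v → apt (π gg) p = p := by
    intro p hp v hv hcv
    rw [apt_fix_iff _ hp, ← hv]
    exact (show Commute gg v from Subtype.ext hcv.eq).map π
  have h := FischerQuad.fix_all (g := π gg) (key 0 (by norm_num) ⟨c, memC R.hca R.hcb⟩ (R.imc _) hc)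
    (key 7 (by norm_num) ⟨e, memC R.hea R.heb⟩ (R.ime _) he) (fun k hk => by
      have e1 := L.img ⟨k / 4, by omega⟩ ⟨k % 4, by omega⟩ (L.memy _ _)
      simp only [Nat.div_add_mod] at e1
      exact key _ (pts_spec.1 k hk).1 _ e1 (hy _ _))
  have fin : ∀ v : ↥(Subgroup.centralizer ({a, b} : Set G)), π gg = π v →
      ∃ u : G, (u = 1 ∨ u = a ∨ u = b ∨ u = a * b) ∧ (gg : G) = v * u := by
    intro v hv
    have h1 : π (v⁻¹ * gg) = 1 := by rw [map_mul, map_inv, hv, inv_mul_cancel]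
    have h2 := (R.map.ker _).1 h1
    refine ⟨(v : G)⁻¹ * gg, ?_, by group⟩
    rwa [Subgroup.coe_mul, Subgroup.coe_inv] at h2
  rcases h with h | h | h | h
  · obtain ⟨u, hu, e1⟩ := fin 1 (by rw [h, map_one])
    exact ⟨u, 1, hu, Or.inl rfl, e1⟩
  · obtain ⟨u, hu, e1⟩ := fin ⟨c, memC R.hca R.hcb⟩ (by rw [h, R.imc])
    exact ⟨u, c, hu, Or.inr (Or.inl rfl), e1⟩
  · obtain ⟨u, hu, e1⟩ := fin ⟨e, memC R.hea R.heb⟩ (by rw [h, R.ime])
    exact ⟨u, e, hu, Or.inr (Or.inr (Or.inl rfl)), e1⟩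
  · obtain ⟨u, hu, e1⟩ := fin (⟨c, memC R.hca R.hcb⟩ * ⟨e, memC R.hea R.heb⟩)
      (by rw [h, map_mul, R.imc, R.ime])
    exact ⟨u, c * e, hu, Or.inr (Or.inr (Or.inr rfl)), e1⟩

end Local

end Cfsg.Agent.FischerQuad
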