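import Cfsg.Agent.Lib.FischerQuad.Orb
import Cfsg.Agent.Lib.SchurMult.U43Hom

/-!
The even part of the group on 126 points is the four-dimensional unitary group over nine elements.
-/

set_option autoImplicit false
set_option maxRecDepth 100000

namespace Cfsg.Agent.FischerQuad

open Cfsg.Agent.PermCert (Elt one validElt toPerm rep_toPerm genGroup cert_card)
open Cfsg.Agent.SchurMult (u43Gens u43_cert u43_order exists_u43_hom)

/-- The even part. -/
noncomputable def U0 : Subgroup (Equiv.Perm (Fin 126)) := genGroup 7 126 u126Gens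

theorem u126_ok : (CosetCert.allBelow (fun i => validElt 7 126 (u126Gens.getD i (one 7 126)) &&
    CosetCert.allBelow (fun d => Nat.beq (PermCert.get 7 (u126Gens.getD i (one 7 126)).1 d)
      (t126 (i + 1) (t126 0 d))) 126) 5) = true ∧ u126Gens.length = 5 := by decide +kernel

theorem joint_ok : (CosetCert.allBelow (fun i => validElt 7 126 (u126Gens.getD i (one 7 126)) &&
    validElt 7 112 (u112Gens.getD i (one 7 112)) && validElt 8 238 (ubothGens.getD i (one 8 238)) &&
    CosetCert.allBelow (fun k => Nat.beq (PermCert.get 8 (ubothGens.getD i (one 8 238)).1 k)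
      (cond (Nat.blt k 126) (PermCert.get 7 (u126Gens.getD i (one 7 126)).1 k)
        (126 + PermCert.get 7 (u112Gens.getD i (one 7 112)).1 (k - 126)))) 238) 5) = true ∧
    u112Gens.length = 5 ∧ ubothGens.length = 5 ∧ u112xGens = u112Gens ++ u43Gens := by decide +kernel

theorem U0_gen {i : ℕ} (hi : i < 5) :
    toPerm 7 126 (u126Gens.getD i (one 7 126)) = sixP (i + 1) * sixP 0 := by
  have h := CosetCert.allBelow_spec u126_ok.1 hi
  rw [Bool.and_eq_true] at h
  refine Equiv.ext fun d => Fin.ext ?_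
  rw [← (rep_toPerm h.1 d).1, Nat.eq_of_beq_eq_true (CosetCert.allBelow_spec h.2 d.2), Equiv.Perm.mul_apply,
    sixP_apply (show i + 1 < 6 by omega), sixP_apply (show 0 < 6 by norm_num)]

theorem U0_eq : U0 = Subgroup.closure ((fun i => sixP (i + 1) * sixP 0) '' {i | i < 5}) := by
  refine congrArg Subgroup.closure (Set.ext fun σ => ?_)
  simp only [List.mem_map, Set.mem_image, Set.mem_ofPred_eq]
  constructor
  · rintro ⟨e, he, rfl⟩
    obtain ⟨i, hi, rfl⟩ := List.getElem_of_mem he
    have hi' : i < 5 := u126_ok.2 ▸ hi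
    exact ⟨i, hi', by rw [← U0_gen hi', List.getD_eq_getElem _ _ hi]⟩
  · rintro ⟨i, hi, rfl⟩
    have hi' : i < u126Gens.length := u126_ok.2.symm ▸ hi
    exact ⟨_, List.getElem_mem hi', by rw [← U0_gen hi, List.getD_eq_getElem _ _ hi']⟩

theorem card_U0 : Nat.card U0 = 3265920 := by rw [U0, cert_card u126_cert, u126_order]

theorem U0_le_l126 : U0 ≤ genGroup 7 126 l126Gens := by
  rw [U0_eq, l126_eq, Subgroup.closure_le]
  rintro _ ⟨i, hi, rfl⟩
  have hi' : i + 1 < 6 := Nat.succ_lt_succ hi
  exact mul_mem (Subgroup.subset_closure ⟨i + 1, hi', rfl⟩) (Subgroup.subset_closure ⟨0, Nat.succ_pos 5, rfl⟩)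

/-- The isomorphism with the coded unitary group on 112 points. -/
theorem U0_equiv112 : Nonempty (U0 ≃* genGroup 7 112 u112Gens) := by
  classical
  obtain ⟨hj, hl112, hlb, -⟩ := joint_ok
  let gi : ℕ → Equiv.Perm (Fin 126) × Equiv.Perm (Fin 112) := fun i =>
    (toPerm 7 126 (u126Gens.getD i (one 7 126)), toPerm 7 112 (u112Gens.getD i (one 7 112)))
  let H := Subgroup.closure (gi '' {i | i < 5})
  let ι : Equiv.Perm (Fin 126) × Equiv.Perm (Fin 112) →* Equiv.Perm (Fin 238) :=
    (finSumFinEquiv.permCongrHom).toMonoidHom.comp (Equiv.Perm.sumCongrHom (Fin 126) (Fin 112))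
  have hι : Function.Injective ι :=
    (finSumFinEquiv.permCongrHom).injective.comp Equiv.Perm.sumCongrHom_injective
  have himg : ∀ i < 5, ι (gi i) = toPerm 8 238 (ubothGens.getD i (one 8 238)) := by
    intro i hi
    have h := CosetCert.allBelow_spec hj hi
    rw [Bool.and_eq_true, Bool.and_eq_true, Bool.and_eq_true] at h
    obtain ⟨⟨⟨hu, hw⟩, hb⟩, hk⟩ := h
    refine Equiv.ext fun k => Fin.ext ?_
    rw [← (rep_toPerm hb k).1, Nat.eq_of_beq_eq_true (CosetCert.allBelow_spec hk k.2)]
    obtain ⟨p, rfl⟩ := (finSumFinEquiv (m := 126) (n := 112)).surjective k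
    show ((finSumFinEquiv ((Equiv.Perm.sumCongr (gi i).1 (gi i).2) (finSumFinEquiv.symm (finSumFinEquiv p)))) :
      Fin (126 + 112)).val = _
    rw [finSumFinEquiv.symm_apply_apply]
    rcases p with d | d
    · simp only [Equiv.Perm.sumCongr_apply, Sum.map_inl, finSumFinEquiv_apply_left, Fin.val_castAdd]
      rw [show Nat.blt (d : ℕ) 126 = true by rw [Nat.blt_eq]; exact d.2, cond_true]
      exact (rep_toPerm hu d).1.symm
    · simp only [Equiv.Perm.sumCongr_apply, Sum.map_inr, finSumFinEquiv_apply_right, Fin.val_natAdd]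
      rw [show Nat.blt (126 + (d : ℕ)) 126 = false by rw [Bool.eq_false_iff, Ne, Nat.blt_eq]; omega, cond_false,
        Nat.add_sub_cancel_left]
      exact congrArg _ (rep_toPerm hw d).1.symm
  have hclos : ∀ {n w : ℕ} (l : List Elt) (hl : l.length = 5) (f : _ →* Equiv.Perm (Fin n)),
      (∀ i < 5, f (gi i) = toPerm w n (l.getD i (one w n))) → H.map f = genGroup w n l := by
    intro n w l hl f hf
    rw [MonoidHom.map_closure]
    refine congrArg Subgroup.closure (Set.ext fun σ => ?_)
    simp only [← Set.image_comp, List.mem_map, Set.mem_image, Set.mem_ofPred_eq, Function.comp_apply]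
    constructor
    · rintro ⟨i, hi, rfl⟩
      have hi' : i < l.length := hl.symm ▸ hi
      exact ⟨_, List.getElem_mem hi', by rw [hf i hi, List.getD_eq_getElem _ _ hi']⟩
    · rintro ⟨e, he, rfl⟩
      obtain ⟨i, hi, rfl⟩ := List.getElem_of_mem he
      exact ⟨i, hl ▸ hi, by rw [hf i (hl ▸ hi), List.getD_eq_getElem _ _ hi]⟩
  have hH : Nat.card H = 3265920 := by
    rw [← Subgroup.card_map_of_injective hι, hclos ubothGens hlb ι himg, cert_card uboth_cert, uboth_order]
  have iso : ∀ {n : ℕ} (f : Equiv.Perm (Fin 126) × Equiv.Perm (Fin 112) →* Equiv.Perm (Fin n))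
      (T : Subgroup (Equiv.Perm (Fin n))), H.map f = T → Nat.card T = 3265920 → Nonempty (H ≃* T) := by
    intro n f T hT hc
    subst hT
    refine ⟨MulEquiv.ofBijective (f.subgroupMap H) ?_⟩
    rw [Nat.bijective_iff_surjective_and_card]
    exact ⟨f.subgroupMap_surjective H, hH.trans hc.symm⟩
  obtain ⟨e1⟩ := iso (MonoidHom.fst _ _) U0 (hclos u126Gens u126_ok.2 _ fun i _ => rfl) card_U0
  obtain ⟨e2⟩ := iso (MonoidHom.snd _ _) _ (hclos u112Gens hl112 _ fun i _ => rfl)
    (by rw [cert_card u112_cert, u112_order])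
  exact ⟨e1.symm.trans e2⟩

theorem u112_eq_u43 : genGroup 7 112 u112Gens = genGroup 7 112 u43Gens := by
  obtain ⟨-, -, -, hx⟩ := joint_ok
  have h1 : genGroup 7 112 u112Gens ≤ genGroup 7 112 u112xGens := by
    refine Subgroup.closure_mono fun σ hσ => ?_
    rw [Set.mem_ofPred_eq, hx, List.map_append, List.mem_append]
    exact Or.inl hσ
  have h2 : genGroup 7 112 u43Gens ≤ genGroup 7 112 u112xGens := by
    refine Subgroup.closure_mono fun σ hσ => ?_
    rw [Set.mem_ofPred_eq, hx, List.map_append, List.mem_append]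
    exact Or.inr hσ
  have e1 := Subgroup.eq_of_le_of_card_ge h1 (by
    rw [cert_card u112x_cert, cert_card u112_cert, u112x_order, u112_order])
  have e2 := Subgroup.eq_of_le_of_card_ge h2 (by
    rw [cert_card u112x_cert, cert_card u43_cert, u112x_order, u43_order])
  exact e1.trans e2.symm

/-- The even part is the projective special unitary group. -/
theorem U0_psu : ∃ (K : Type) (_ : Field K) (_ : Fintype K), Fintype.card K = 9 ∧
    Nonempty (U0 ≃* Cfsg.PSU 4 K 3) := by
  haveI : Fact (Nat.Prime 3) := ⟨Nat.prime_three⟩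
  letI : Fintype (GaloisField 3 2) := Fintype.ofFinite _
  have hcard : Fintype.card (GaloisField 3 2) = 9 := by
    rw [← Nat.card_eq_fintype_card, GaloisField.card 3 2 (by norm_num)]
    norm_num
  obtain ⟨φ, hr, hk, -⟩ := exists_u43_hom hcard
  obtain ⟨e⟩ := U0_equiv112
  exact ⟨_, inferInstance, inferInstance, hcard, ⟨e.trans ((MulEquiv.subgroupCongr (u112_eq_u43.trans hr.symm)).trans
    ((QuotientGroup.quotientKerEquivRange φ).symm.trans (QuotientGroup.quotientMulEquivOfEq hk)))⟩⟩

end Cfsg.Agent.FischerQuad
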