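import Cfsg.Agent.Lib.FischerQuad.Extra
import Cfsg.Agent.Lib.FischerQuad.Unitary
import Cfsg.Agent.Lib.Techniques.CharP
import Cfsg.Agent.Lib.Qd.Basic

/-!
The centraliser of a product of four inside the subgroup of index two.
-/

set_option autoImplicit false
set_option maxRecDepth 100000
set_option linter.style.haveILetI false

namespace Cfsg.Agent.FischerQuad

open Cfsg.Agent.Fischer
open Cfsg.Agent.Fischer.Factor
open Cfsg.Agent.PermCert (genGroup)

universe u

theorem fix_stab_ok : (CosetCert.allBelow (fun d => Nat.beq d 0 ||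
    !(CosetCert.allBelow (fun i => Nat.beq (t126 (i + 1) (t126 0 d)) d) 4)) 126) = true := by decide +kernel

variable {G : Type u} [Group G] [Finite G] {D : Set G} (V : Env D)
include V

/-- The centraliser of the product in the even subgroup. -/
theorem Env.main {z : G} {a b c e : G} (ht : Tuple D z a b c e) (Ev : Subgroup G) (hI : Ev.index = 2)
    (hodd : ∀ d ∈ D, d ∉ Ev) (C : Subgroup G) (hC : C = Ev ⊓ Subgroup.centralizer ({z} : Set G)) :
    ∃ (Q : Subgroup ↥C) (_ : Q.Normal), Cfsg.generalizedFittingSubgroup ↥C = Q ∧ Cfsg.IsExtraspecial 2 ↥Q ∧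
      Nat.card Q = 2 ^ 13 ∧ ∃ (N M : Subgroup ↥C) (_ : N.Normal) (_ : M.Normal), Q ≤ N ∧ N ≤ M ∧
        Nat.card N = 3 * Nat.card Q ∧
        (∃ (K : Type) (_ : Field K) (_ : Fintype K), Fintype.card K = 9 ∧
          Nonempty (↥M ⧸ N.subgroupOf M ≃* Cfsg.PSU 4 K 3)) ∧ M.index = 2 := by
  classical
  obtain ⟨π, R⟩ := V.exists_frame ht
  obtain ⟨y, L⟩ := V.exists_local R
  obtain ⟨s, q, hsix, hq0, heq⟩ := V.exists_model L
  have N : Numbered V L s q := ⟨hsix, hq0, heq⟩
  subst hC
  obtain ⟨o0, -, -, -, -, -, -, -, -, -⟩ := orbit_spec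
  haveI : Ev.Normal := Subgroup.normal_of_index_eq_two hI
  set C := Ev ⊓ Subgroup.centralizer ({z} : Set G)
  set ι : C →* Cz z := Subgroup.inclusion inf_le_right
  have hι : Function.Injective ι := Subgroup.inclusion_injective _
  have hrange : ∀ g : Cz z, g ∈ ι.range ↔ (g : G) ∈ Ev := fun g =>
    ⟨fun ⟨x, hx⟩ => hx ▸ x.2.1, fun h => ⟨⟨g, h, g.2⟩, rfl⟩⟩
  have hs : ∀ k < 6, (s k : G) ∉ Ev := by
    intro k hk
    rcases Nat.lt_or_ge k 5 with h | h
    · rw [hsix.low k h]; exact hodd _ (L.y_mem V _ 0).1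
    · obtain rfl : k = 5 := by omega
      exact hodd _ hsix.top.1.1
  have hEE : ∀ p ∈ EE D z, (p : G) ∈ Ev := by
    intro p hp
    induction hp using Subgroup.closure_induction with
    | mem p hp =>
      obtain ⟨S, u, hu, v, hv, e1⟩ := hp
      rw [e1, Subgroup.mul_mem_iff_of_index_two hI]
      exact iff_of_false (hodd u (S.2.mem hu).1) (hodd v (S.2.mem hv).1)
    | one => exact one_mem _
    | mul p r _ _ h1 h2 => exact mul_mem h1 h2
    | inv p _ h => exact inv_mem h
  haveI := EE_normal V.facts.tg z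
  have hK : ∀ g ∈ N.phi.ker, (g : G) ∈ Ev := by
    intro g hg
    have hidx : ((EE D z).subgroupOf N.phi.ker).index = 3 := by
      have h := ((EE D z).subgroupOf N.phi.ker).card_mul_index
      rw [Nat.card_congr (Subgroup.subgroupOfEquivOfLe N.pairs_le).toEquiv, N.card_EE, N.card_ker] at h
      omega
    have h3 := Subgroup.pow_index_mem ((EE D z).subgroupOf N.phi.ker) ⟨g, hg⟩
    rw [hidx, Subgroup.mem_subgroupOf] at h3
    have h4 : (g : G) ^ 3 ∈ Ev := by simpa using hEE _ h3
    rw [pow_succ, pow_two, Subgroup.mul_mem_iff_of_index_two hI, Subgroup.mul_mem_iff_of_index_two hI] at h4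
    tauto
  set ψ := N.phi.comp ι with hψ
  set Q := (EE D z).comap ι with hQ
  have hQle : EE D z ≤ ι.range := fun p hp => (hrange p).2 (hEE p hp)
  have hNle : N.phi.ker ≤ ι.range := fun p hp => (hrange p).2 (hK p hp)
  have hcardQ : Nat.card Q = 2 ^ 13 := by
    rw [← Subgroup.card_map_of_injective hι, hQ, Subgroup.map_comap_eq_self hQle, N.card_EE]
  have hkerψ : ψ.ker = N.phi.ker.comap ι := (MonoidHom.comap_ker _ _).symm
  have hcardN : Nat.card ψ.ker = 3 * 2 ^ 13 := by
    rw [← Subgroup.card_map_of_injective hι, hkerψ, Subgroup.map_comap_eq_self hNle, N.card_ker]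
  haveI : Fact (Nat.Prime 2) := ⟨Nat.prime_two⟩
  have hQx : Cfsg.IsExtraspecial 2 Q := Qd.isExtraspecial_congr
    ((Subgroup.equivMapOfInjective Q ι hι).trans (MulEquiv.subgroupCongr (Subgroup.map_comap_eq_self hQle)))
    N.isExtraspecial_EE
  have hQN : Q ≤ ψ.ker := hkerψ ▸ Subgroup.comap_mono N.pairs_le
  -- orders
  have haC : a ∈ Subgroup.centralizer ({z} : Set G) :=
    Subgroup.mem_centralizer_singleton_iff.2 (L.frame.quad.mem L.a_mem).2.eq
  have hrelEv : Ev.relIndex (Subgroup.centralizer ({z} : Set G)) = 2 := by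
    have h1 : Ev.relIndex (Subgroup.centralizer ({z} : Set G)) ∣ 2 := hI ▸ Subgroup.relIndex_dvd_index_of_normal _ _
    rcases (Nat.dvd_prime Nat.prime_two).1 h1 with h | h
    · exact absurd (Subgroup.relIndex_eq_one.1 h haC) (hodd a L.frame.ha)
    · exact h
  have hcardC : 2 * Nat.card C = 126 * 24 * (4 * 26542080) := by
    rw [← V.card_cent L, ← Subgroup.card_mul_index ((C).subgroupOf (Subgroup.centralizer ({z} : Set G))),
      Nat.card_congr (Subgroup.subgroupOfEquivOfLe (inf_le_right : C ≤ _)).toEquiv, ← Subgroup.relIndex,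
      Subgroup.inf_relIndex_right, hrelEv, mul_comm]
  have hPC : Nat.card ψ.range = 6531840 := by
    have h := Subgroup.card_eq_card_quotient_mul_card_subgroup ψ.ker
    rw [Nat.card_congr (QuotientGroup.quotientKerEquivRange ψ).toEquiv, hcardN] at h
    omega
  have hodd2 : ∀ {x y : Cz z}, (x : G) ∉ Ev → (y : G) ∉ Ev → x * y ∈ ι.range := fun {x y} hx hy =>
    (hrange _).2 (by rw [Subgroup.coe_mul, Subgroup.mul_mem_iff_of_index_two hI]; exact iff_of_false hx hy)
  have hU0 : U0 ≤ ψ.range := by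
    rw [U0_eq, Subgroup.closure_le]
    rintro _ ⟨i, hi, rfl⟩
    have hi' : i + 1 < 6 := Nat.succ_lt_succ hi
    obtain ⟨x, hx⟩ := hodd2 (hs (i + 1) hi') (hs 0 (by norm_num))
    exact ⟨x, by rw [hψ, MonoidHom.comp_apply, hx, map_mul, N.phi_six hi', N.phi_six (by norm_num)]⟩
  set M := U0.comap ψ with hM
  have hMi : M.index = 2 := by
    rw [hM, Subgroup.index_comap]
    have h := (U0.subgroupOf ψ.range).card_mul_index
    rw [Nat.card_congr (Subgroup.subgroupOfEquivOfLe hU0).toEquiv, card_U0, hPC, ← Subgroup.relIndex] at h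
    omega
  haveI hMn : M.Normal := Subgroup.normal_of_index_eq_two hMi
  have hNM : ψ.ker ≤ M := fun x hx => by
    show ψ x ∈ U0
    rw [MonoidHom.mem_ker.1 hx]
    exact one_mem _
  -- transitivity
  have htrans : ∀ d : Fin 126, ∃ x : C, ψ x 0 = d := by
    intro d
    obtain ⟨σ, hσ, e1⟩ := six_transitive d
    obtain ⟨g, hg⟩ := N.six_le_range hσ
    by_cases hgE : (g : G) ∈ Ev
    · exact ⟨⟨g, hgE, g.2⟩, by rw [← e1, ← hg]; rfl⟩
    · obtain ⟨x, hx⟩ := hodd2 hgE (hs 0 (by norm_num))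
      refine ⟨x, ?_⟩
      rw [hψ, MonoidHom.comp_apply, hx, map_mul, Equiv.Perm.mul_apply, N.phi_six (by norm_num),
        o0 0 (by norm_num), hg, e1]
  -- the core
  set O := Cfsg.pCore 2 ↥C with hO
  haveI : O.Normal := Cfsg.pCore_normal 2 _
  have hOp : IsPGroup 2 O := PBasic.pCore_isPGroup 2 _
  let H : Subgroup C := (MulAction.stabilizer (Equiv.Perm (Fin 126)) (0 : Fin 126)).comap ψ
  have hH : ∀ x : C, x ∈ H ↔ ψ x 0 = 0 := fun x => Iff.rfl
  have hHidx : H.index = 126 := by
    letI : MulAction C (Fin 126) := MulAction.compHom _ ψ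
    have h : MulAction.stabilizer C (0 : Fin 126) = H := rfl
    rw [← h, MulAction.index_stabilizer, show MulAction.orbit C (0 : Fin 126) = Set.univ from
      Set.eq_univ_of_forall htrans, Set.ncard_univ, Nat.card_fin]
  have hrel : H.relIndex O ≤ 2 := by
    obtain ⟨j, hj⟩ := IsPGroup.iff_card.1 hOp
    obtain ⟨i, -, hi⟩ := (Nat.dvd_prime_pow Nat.prime_two).1 (hj ▸ Subgroup.relIndex_dvd_card (H := H) (K := O))
    have h126 : H.relIndex O ∣ 126 := by
      have h1 : H.relIndex (H ⊔ O) ∣ H.index := Subgroup.relIndex_dvd_index_of_le le_sup_left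
      rw [hHidx] at h1
      refine dvd_trans ?_ h1
      have h2 := Subgroup.card_mul_index (H.subgroupOf (H ⊔ O))
      have h3 := Subgroup.card_mul_index (H.subgroupOf O)
      have h4 := Subgroup.card_mul_index (O.subgroupOf (H ⊔ O))
      have h5 := Subgroup.card_mul_index (O.subgroupOf H)
      rw [← Subgroup.relIndex] at h2 h3 h4 h5
      rw [Subgroup.relIndex_sup_right] at h4
      rw [Nat.card_congr (Subgroup.subgroupOfEquivOfLe (le_sup_left : H ≤ H ⊔ O)).toEquiv] at h2
      rw [Nat.card_congr (Subgroup.subgroupOfEquivOfLe (le_sup_right : O ≤ H ⊔ O)).toEquiv] at h4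
      have e1 : Nat.card (H.subgroupOf O) = Nat.card (O.subgroupOf H) := by
        rw [← Subgroup.card_map_of_injective O.subtype_injective, ← Subgroup.card_map_of_injective H.subtype_injective,
          Subgroup.subgroupOf_map_subtype, Subgroup.subgroupOf_map_subtype, inf_comm]
      rw [e1] at h3
      have hp : 0 < Nat.card (O.subgroupOf H) := Nat.card_pos
      refine dvd_of_eq (Nat.eq_of_mul_eq_mul_left (Nat.card_pos (α := H)) ?_)
      rw [h2, ← h4, ← h3]
      rw [← h5]
      ring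
    by_contra hgt
    rw [hi] at h126 hgt
    have h2i : 2 ≤ i := by
      by_contra h
      interval_cases i <;> norm_num at hgt
    have : 4 ∣ 126 := (pow_dvd_pow 2 h2i).trans h126
    norm_num at this
  have hfix : ∀ r ∈ O, ψ r 0 = 0 := by
    intro r hr
    by_contra hne
    obtain ⟨d, hd⟩ : ∃ d, ψ r 0 = d := ⟨_, rfl⟩
    have h2 : ∀ r' ∈ O, ψ r' 0 ≠ 0 → ψ r' 0 = d := by
      intro r' hr' hne'
      have h2' : H.relIndex O = 2 := by
        have h0 : H.relIndex O ≠ 0 := Subgroup.index_ne_zero_of_finite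
        have h1 : H.relIndex O ≠ 1 := fun h => hne (Subgroup.relIndex_eq_one.1 h hr)
        omega
      have hmem := Subgroup.mul_mem_iff_of_index_two (H := H.subgroupOf O) h2'
        (a := (⟨r', hr'⟩ : O)⁻¹) (b := ⟨r, hr⟩)
      rw [inv_mem_iff] at hmem
      have h3 : ((⟨r', hr'⟩ : O)⁻¹ * ⟨r, hr⟩) ∈ H.subgroupOf O :=
        hmem.2 (iff_of_false (fun h => hne' h) (fun h => hne h))
      have h4 : ψ (r'⁻¹ * r) 0 = 0 := h3
      have h5 := congrArg (ψ r') h4
      rw [← Equiv.Perm.mul_apply, ← map_mul, mul_inv_cancel_left] at h5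
      exact h5.symm.trans hd
    have hdne : d ≠ 0 := hd ▸ hne
    refine hdne (Fin.ext ?_)
    have h := CosetCert.allBelow_spec fix_stab_ok d.2
    rw [Bool.or_eq_true, Nat.beq_eq] at h
    refine h.resolve_right fun h => ?_
    rw [Bool.not_eq_true'] at h
    have hall : ∀ i < 4, t126 (i + 1) (t126 0 d) = d := by
      intro i hi
      obtain ⟨x, hx⟩ := hodd2 (hs (i + 1) (by omega)) (hs 0 (by norm_num))
      have e1 : ψ x = sixP (i + 1) * sixP 0 := by
        rw [hψ, MonoidHom.comp_apply, hx, map_mul, N.phi_six (show i + 1 < 6 by omega), N.phi_six (by norm_num)]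
      have e0 : ψ x 0 = 0 := by
        rw [e1, Equiv.Perm.mul_apply, o0 0 (by norm_num), o0 (i + 1) (by omega)]
      have e2 : ψ (x * r * x⁻¹) 0 = ψ x d := by
        have e0' : (ψ x)⁻¹ 0 = 0 := (ψ x).symm_apply_eq.2 e0.symm
        rw [map_mul, map_mul, map_inv, Equiv.Perm.mul_apply, Equiv.Perm.mul_apply, e0', hd]
      have e3 := h2 _ ((inferInstance : O.Normal).conj_mem r hr x) (by
        rw [e2]
        intro h6
        exact hdne ((ψ x).injective (h6.trans e0.symm)))
      rw [e2, e1, Equiv.Perm.mul_apply] at e3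
      have := congrArg Fin.val e3
      rwa [sixP_apply (show i + 1 < 6 by omega), sixP_apply (show 0 < 6 by norm_num)] at this
    have e : CosetCert.allBelow (fun i => Nat.beq (t126 (i + 1) (t126 0 d)) d) 4 = true := by
      have key : ∀ j ≤ 4, CosetCert.allBelow (fun i => Nat.beq (t126 (i + 1) (t126 0 d)) d) j = true := by
        intro j
        induction j with
        | zero => intro _; rfl
        | succ j ih =>
          intro hj
          show Bool.rec false (CosetCert.allBelow (fun i => Nat.beq (t126 (i + 1) (t126 0 d)) d) j)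
            (Nat.beq (t126 (j + 1) (t126 0 d)) d) = true
          rw [show Nat.beq (t126 (j + 1) (t126 0 d)) d = true by rw [Nat.beq_eq]; exact hall j (by omega),
            ih (by omega)]
      exact key 4 le_rfl
    rw [e] at h
    exact Bool.noConfusion h
  have hON : O ≤ ψ.ker := by
    intro r hr
    refine MonoidHom.mem_ker.2 (Equiv.ext fun d => ?_)
    obtain ⟨x, rfl⟩ := htrans d
    have h := hfix _ ((inferInstance : O.Normal).conj_mem r hr x⁻¹)
    simp only [map_mul, map_inv, inv_inv, Equiv.Perm.mul_apply] at h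
    exact (ψ x).symm_apply_eq.1 h
  have hQp : IsPGroup 2 Q := IsPGroup.of_card hcardQ
  haveI hQn : Q.Normal := inferInstanceAs (Subgroup.comap ι (EE D z)).Normal
  have hQO : O = Q := by
    refine (Subgroup.eq_of_le_of_card_ge (PBasic.le_pCore hQn hQp) ?_).symm
    obtain ⟨j, hj⟩ := IsPGroup.iff_card.1 hOp
    have h1 : Nat.card O ∣ 3 * 2 ^ 13 := hcardN ▸ Subgroup.card_dvd_of_le hON
    rw [hj] at h1
    have h2 := ((Nat.coprime_primes Nat.prime_two Nat.prime_three).2 (by norm_num)).pow_left j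
    exact (hj ▸ Nat.le_of_dvd (by norm_num) (h2.dvd_of_dvd_mul_left h1)).trans hcardQ.ge
  have hchar : CharP.IsCharP 2 C := by
    intro g hg
    rw [show Cfsg.pCore 2 ↥C = Q from hQO] at hg ⊢
    rw [hQ, Subgroup.mem_comap]
    refine (Subgroup.zpowers_le.2 (V.zc_mem L) : ZZ z ≤ EE D z) (V.centralizer_EE L hsix fun p hp => ?_)
    obtain ⟨x, rfl⟩ := hQle hp
    have := Subgroup.mem_centralizer_iff.1 hg x hp
    rw [← map_mul, ← map_mul, this]
  refine ⟨Q, hQn, (CharP.generalizedFittingSubgroup_eq hchar).trans hQO, hQx, hcardQ,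
    ψ.ker, M, inferInstance, hMn, hQN, hNM, by rw [hcardN, hcardQ], ?_, hMi⟩
  obtain ⟨K, iF, iT, hK9, ⟨eK⟩⟩ := U0_psu
  refine ⟨K, iF, iT, hK9, ⟨?_⟩⟩
  let r : M →* U0 := (ψ.comp M.subtype).codRestrict U0 fun x => x.2
  have hr : Function.Surjective r := by
    rintro ⟨σ, hσ⟩
    obtain ⟨x, hx⟩ := hU0 hσ
    exact ⟨⟨x, show ψ x ∈ U0 from hx ▸ hσ⟩, Subtype.ext hx⟩
  have hk : r.ker = ψ.ker.subgroupOf M := by
    ext x
    rw [MonoidHom.mem_ker, Subgroup.mem_subgroupOf, MonoidHom.mem_ker, Subtype.ext_iff]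
    rfl
  exact ((QuotientGroup.quotientMulEquivOfEq hk.symm).trans
    (QuotientGroup.quotientKerEquivOfSurjective r hr)).trans eK

end Cfsg.Agent.FischerQuad
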