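import Cfsg.Agent.Lib.FischerQuad.SixCert
import Cfsg.Agent.Lib.Compute.CosetData.U43Six126
import Cfsg.Agent.Lib.Compute.CosetData.U43Six756
import Cfsg.Agent.Lib.Compute.CosetOrbit
import Mathlib.GroupTheory.GroupAction.Quotient

/-!
The 126 cosets: the six permutations, the three orbits of the first five, and the point stabilisers.
-/

set_option autoImplicit false
set_option maxRecDepth 100000

namespace Cfsg.Agent.FischerQuad

open Cfsg.Agent.PermCert (Elt one validElt toPerm rep_toPerm genGroup cert_card checkCert)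
open Cfsg.Agent.CosetData

/-- The far point of the sixth generator and the other one with the same eighteen. -/
def far1 : ℕ := 1

/-- The other one. -/
def far2 : ℕ := 125

/-- A neighbour fixed by the sixth generator. -/
def near0 : ℕ := 85

/-- The eighty far points. -/
def farBits : ℕ := 53418614315202708127447002845588488190

/-- Words in the five leading each point to the far or to the near representative. -/
def toRep : List (List ℕ) :=
  [[], [], [4], [3, 4], [1, 3, 4], [2, 3, 4], [0, 1, 3, 4], [2, 1, 3, 4], [2, 0, 1, 3, 4], [1, 2, 3, 4], [1, 2, 1, 3, 4], [3, 2, 1, 3, 4], [3, 2, 0, 1, 3, 4], [1, 2, 0, 1, 3, 4], [0, 1, 2, 3, 4], [0, 1, 2, 1, 3, 4], [0, 1, 2, 0, 1, 3, 4], [3, 1, 2, 3, 4], [3, 0, 1, 2, 3, 4], [4, 3, 2, 1, 3, 4], [4, 3, 2, 0, 1, 3, 4], [1, 3, 2, 0, 1, 3, 4], [4, 1, 3, 2, 0, 1, 3, 4], [3, 1, 2, 0, 1, 3, 4], [1, 3, 1, 2, 0, 1, 3, 4], [3, 0, 1, 2, 0, 1, 3, 4], [4, 3, 1, 2, 3, 4], [4,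 3, 0, 1, 2, 3, 4], [1, 3, 0, 1, 2, 3, 4], [4, 1, 3, 0, 1, 2, 3, 4], [0, 1, 2, 3, 4, 1, 3, 0, 1, 2, 3, 4], [1, 2, 3, 4, 1, 3, 0, 1, 2, 3, 4], [2, 3, 4, 1, 3, 0, 1, 2, 3, 4], [2, 1, 3, 2, 0, 1, 3, 4], [4, 2, 1, 3, 2, 0, 1, 3, 4], [3, 4, 1, 3, 0, 1, 2, 3, 4], [3, 4, 1, 3, 2, 0, 1, 3, 4], [2, 3, 4, 2, 1, 3, 0, 1, 2, 3, 4], [2, 3, 1, 2, 0, 1, 3, 4], [2, 3, 0, 1, 2, 0, 1, 3, 4], [4, 3, 1, 2, 0, 1, 3, 4], [4, 2, 3, 1, 2, 0, 1, 3, 4], [4, 2, 3, 0, 1, 2, 0, 1, 3, 4], [4, 3, 0, 1, 2, 0, 1, 3, 4], [4, 1, 3, 1, 2, 0, 1, 3, 4], [3, 4, 1, 3, 1, 2, 0, 1, 3, 4], [0, 1, 3, 4, 2, 1, 3, 2, 0, 1, 3, 4], [1, 3, 4, 2, 1, 3, 2, 0, 1, 3, 4], [3, 4, 2, 1, 3, 2, 0, 1, 3, 4], [2, 1, 3, 0, 1, 2, 3, 4], [3, 2, 1, 3, 0, 1, 2, 3, 4], [4, 3, 2, 1, 3, 0, 1, 2, 3, 4], [4, 2, 1, 3, 0, 1, 2, 3, 4], [2, 3, 4, 2, 1, 3, 2, 0, 1, 3, 4], [2, 3, 4, 1, 3, 2, 0, 1, 3, 4], [2, 3, 4, 1, 3, 1, 2, 0, 1, 3, 4], [3, 4, 2, 1, 3, 0, 1, 2, 3, 4], [3, 4,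 3, 2, 1, 3, 0, 1, 2, 3, 4], [2, 3, 4, 3, 2, 1, 3, 0, 1, 2, 3, 4], [2, 3, 4], [3, 4], [3, 4, 0], [1, 3, 4, 0], [1, 3, 4, 1, 0], [1, 3, 4, 2, 1], [3, 1, 2, 3, 4], [1, 2, 3, 4], [2, 1, 3, 4, 1, 0], [2, 3, 4, 0], [3, 4, 2, 3, 1, 2, 0, 1, 3, 4], [4], [4, 0], [3, 4, 2, 3, 0, 1, 2, 0, 1, 3, 4], [1, 2, 3, 4, 1, 3, 2, 0, 1, 3, 4], [1, 3, 4, 2, 1, 3, 0, 1, 2, 3, 4], [1, 3, 4, 3, 2, 1, 3, 0, 1, 2, 3, 4], [3, 4, 1, 0], [3, 4, 2, 1], [1, 2, 3, 4, 1, 3, 1, 2, 0, 1, 3, 4], [4, 1, 0], [1, 3, 4, 2, 3, 0, 1, 2, 0, 1, 3, 4], [1, 3, 4, 2, 3, 1, 2, 0, 1, 3, 4], [2, 1, 3, 4, 2, 3, 1, 2, 0, 1, 3, 4], [4, 2, 1], [4, 1], [], [1], [2, 1], [1, 0], [0], [0, 1, 2, 3, 4, 1, 3, 2, 0, 1, 3, 4], [0, 1, 3, 4, 2, 1, 3, 0, 1, 2, 3, 4], [0, 1, 3, 4, 3, 2, 1, 3, 0, 1, 2, 3, 4], [3, 4, 0, 1, 0], [3, 4, 2, 0, 1], [4, 2, 0, 1], [2, 0, 1, 3, 4, 2, 3, 1, 2, 0, 1, 3, 4], [0, 1, 3, 4, 2, 3, 1, 2, 0, 1, 3, 4], [0, 1, 3, 4, 2, 3, 0, 1, 2, 0, 1, 3,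 4], [4, 0, 1, 0], [0, 1, 0], [0, 1], [2, 0, 1], [4, 0, 1], [0, 1, 2, 3, 4, 1, 3, 1, 2, 0, 1, 3, 4], [4, 2, 1, 0], [2, 1, 3, 4, 2, 3, 0, 1, 2, 0, 1, 3, 4], [2, 0, 1, 3, 4, 2, 3, 0, 1, 2, 0, 1, 3, 4], [4, 2, 0, 1, 0], [2, 0, 1, 0], [2, 1, 0], [3, 1], [2, 3, 1], [2, 3, 0, 1], [3, 0, 1], [4, 1, 2, 0, 1], [1, 2, 0, 1, 3, 4, 2, 3, 1, 2, 0, 1, 3, 4], [1, 2, 0, 1, 3, 4, 2, 3, 0, 1, 2, 0, 1, 3, 4], [4, 1, 2, 0, 1, 0], [1, 2, 0, 1, 0], [1, 2, 0, 1], [1, 3, 0, 1], [1, 2, 3, 1], [3, 1, 2, 0, 1, 3, 4, 2, 3, 0, 1, 2, 0, 1, 3, 4], [3, 4, 1, 2, 0, 1, 0], [4, 3, 1, 2, 0, 1, 3, 4, 2, 3, 0, 1, 2, 0, 1, 3, 4]]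

/-- The image of a point under one of the six. -/
noncomputable def t126 (x d : ℕ) : ℕ := U43Six126.P.T.get (d * 6 + x)

/-- The image of a point under a word. -/
noncomputable def w126 (w : List ℕ) (d : ℕ) : ℕ := w.foldl (fun p x => t126 x p) d

theorem six_ok : (CosetCert.allBelow (fun x => validElt 7 126 (l126Gens.getD x (one 7 126)) &&
    CosetCert.allBelow (fun d => Nat.blt (t126 x d) 126 &&
      Nat.beq (PermCert.get 7 (l126Gens.getD x (one 7 126)).1 d) (t126 x d)) 126) 6) = true ∧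
    l126Gens.length = 6 ∧ p126Gens = l126Gens.take 5 := by decide +kernel

/-- The six permutations. -/
noncomputable def sixP (x : ℕ) : Equiv.Perm (Fin 126) := toPerm 7 126 (l126Gens.getD x (one 7 126))

theorem sixP_apply {x : ℕ} (hx : x < 6) (d : Fin 126) : ((sixP x d : Fin 126) : ℕ) = t126 x d := by
  have h := CosetCert.allBelow_spec six_ok.1 hx
  rw [Bool.and_eq_true] at h
  have h2 := CosetCert.allBelow_spec h.2 d.2
  rw [Bool.and_eq_true, Nat.beq_eq] at h2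
  exact ((rep_toPerm h.1 d).1.symm.trans h2.2)

theorem t126_lt {x d : ℕ} (hx : x < 6) (hd : d < 126) : t126 x d < 126 := by
  have h := CosetCert.allBelow_spec six_ok.1 hx
  rw [Bool.and_eq_true] at h
  have h2 := CosetCert.allBelow_spec h.2 hd
  rw [Bool.and_eq_true, Nat.blt_eq] at h2
  exact h2.1

theorem l126_eq : genGroup 7 126 l126Gens = Subgroup.closure (sixP '' {x | x < 6}) := by
  refine congrArg Subgroup.closure (Set.ext fun σ => ?_)
  simp only [List.mem_map, Set.mem_image, Set.mem_ofPred_eq]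
  constructor
  · rintro ⟨e, he, rfl⟩
    obtain ⟨i, hi, rfl⟩ := List.getElem_of_mem he
    exact ⟨i, six_ok.2.1 ▸ hi, by rw [sixP, List.getD_eq_getElem _ _ hi]⟩
  · rintro ⟨x, hx, rfl⟩
    have hx' : x < l126Gens.length := six_ok.2.1.symm ▸ hx
    exact ⟨_, List.getElem_mem hx', by rw [sixP, List.getD_eq_getElem _ _ hx']⟩

theorem p126_eq : genGroup 7 126 p126Gens = Subgroup.closure (sixP '' {x | x < 5}) := by
  refine congrArg Subgroup.closure (Set.ext fun σ => ?_)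
  simp only [six_ok.2.2, List.mem_map, Set.mem_image, Set.mem_ofPred_eq]
  constructor
  · rintro ⟨e, he, rfl⟩
    obtain ⟨i, hi, rfl⟩ := List.getElem_of_mem he
    rw [List.length_take, six_ok.2.1] at hi
    exact ⟨i, by omega, by rw [sixP, List.getElem_take, List.getD_eq_getElem]⟩
  · rintro ⟨x, hx, rfl⟩
    have hx' : x < (l126Gens.take 5).length := by rw [List.length_take, six_ok.2.1]; omega
    exact ⟨_, List.getElem_mem hx', by rw [sixP, List.getElem_take, List.getD_eq_getElem]⟩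

theorem card_l126 : Nat.card (genGroup 7 126 l126Gens) = 6531840 := by rw [cert_card l126_cert, l126_order]

/-! ### Orbits of the first five -/

theorem toRep_ok : (CosetCert.allBelow (fun d => ((toRep.getD d []).all fun k => Nat.blt k 5) &&
    (Nat.beq d 0 || (cond (CosetCert.bit farBits d) (Nat.beq (w126 (toRep.getD d []) d) far1)
      (Nat.beq (w126 (toRep.getD d []) d) near0)))) 126) = true := by decide +kernel

theorem near1_ok : (!(CosetCert.bit farBits 59) && CosetCert.bit farBits (t126 5 59)) = true := by decide +kernel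

theorem orbit_facts : (CosetCert.allBelow (fun k => Nat.beq (t126 k 0) 0) 5 &&
    CosetCert.allBelow (fun k => CosetCert.allBelow (fun d =>
      CosetCert.bit farBits (t126 k d) == CosetCert.bit farBits d) 126) 5 &&
    Nat.beq (t126 5 0) far1 && Nat.beq (t126 5 near0) near0 && CosetCert.bit farBits far1 &&
    CosetCert.bit farBits far2 && !(CosetCert.bit farBits 0) && !(CosetCert.bit farBits near0) &&
    Nat.beq ((List.range 126).filter fun d => CosetCert.bit farBits d).length 80 &&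
    CosetCert.allBelow (fun d => (!(CosetCert.bit farBits d) || Nat.beq d far1 || Nat.beq d far2) ||
      !(CosetCert.allBelow (fun k => Nat.beq (t126 k d) d) 4)) 126) = true := by decide +kernel

/-- The value of a word applied from the left. -/
noncomputable def wP (w : List ℕ) : Equiv.Perm (Fin 126) := (w.reverse.map sixP).prod

theorem wP_cons (x : ℕ) (w : List ℕ) : wP (x :: w) = wP w * sixP x := by simp [wP]

theorem wP_apply : ∀ (w : List ℕ), (∀ x ∈ w, x < 6) → ∀ d : Fin 126, ((wP w d : Fin 126) : ℕ) = w126 w d := by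
  intro w
  induction w with
  | nil => intro _ d; rfl
  | cons x w ih =>
    intro hw d
    rw [wP_cons, Equiv.Perm.mul_apply, ih (fun y hy => hw y (List.mem_cons_of_mem _ hy)),
      sixP_apply (hw x List.mem_cons_self)]
    rfl

theorem wP_mem5 {w : List ℕ} (hw : ∀ x ∈ w, x < 5) : wP w ∈ genGroup 7 126 p126Gens := by
  rw [p126_eq]
  refine Subgroup.list_prod_mem _ fun y hy => ?_
  obtain ⟨x, hx, rfl⟩ := List.mem_map.1 hy
  exact Subgroup.subset_closure ⟨x, hw x (List.mem_reverse.1 hx), rfl⟩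

/-- Far points. -/
def Far (d : Fin 126) : Prop := CosetCert.bit farBits (d : ℕ) = true

/-- The far representative. -/
def d1 : Fin 126 := ⟨far1, by decide⟩

/-- Its twin. -/
def d2 : Fin 126 := ⟨far2, by decide⟩

/-- The near representative. -/
def n0 : Fin 126 := ⟨near0, by decide⟩

theorem orbit_spec : (∀ k < 5, sixP k 0 = 0) ∧ (∀ k < 5, ∀ d, Far (sixP k d) ↔ Far d) ∧
    sixP 5 0 = d1 ∧ sixP 5 n0 = n0 ∧ Far d1 ∧ Far d2 ∧ ¬ Far 0 ∧ ¬ Far n0 ∧
    Nat.card {d // Far d} = 80 ∧ ∀ d, Far d → (∀ k < 4, sixP k d = d) → d = d1 ∨ d = d2 := by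
  have h := orbit_facts
  simp only [Bool.and_eq_true, Bool.not_eq_true', Nat.beq_eq] at h
  obtain ⟨⟨⟨⟨⟨⟨⟨⟨⟨h0, h1⟩, h2⟩, h3⟩, h4⟩, h5⟩, h6⟩, h7⟩, h8⟩, h9⟩ := h
  refine ⟨fun k hk => Fin.ext ?_, fun k hk d => ?_, Fin.ext ?_, Fin.ext ?_, h4, h5, by simp [Far, h6],
    by simp [Far, n0, h7], ?_, fun d hd hfix => ?_⟩
  · rw [sixP_apply (by omega)]
    exact Nat.eq_of_beq_eq_true (CosetCert.allBelow_spec h0 hk)
  · have := CosetCert.allBelow_spec (CosetCert.allBelow_spec h1 hk) d.2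
    rw [beq_iff_eq] at this
    rw [Far, Far, sixP_apply (by omega), this]
  · rw [sixP_apply (by norm_num)]; exact h2
  · rw [sixP_apply (by norm_num)]; exact h3
  · classical
    rw [← h8, ← List.toFinset_card_of_nodup (List.nodup_range.filter _), Nat.card_eq_fintype_card,
      Fintype.card_subtype]
    rw [← Finset.card_map Fin.valEmbedding]
    congr 1
    ext k
    simp only [Finset.mem_map, List.mem_toFinset, List.mem_filter, List.mem_range, Fin.valEmbedding_apply]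
    constructor
    · rintro ⟨k', hk, rfl⟩
      exact ⟨k'.2, (Finset.mem_filter.1 hk).2⟩
    · rintro ⟨hk, hb⟩
      exact ⟨⟨k, hk⟩, Finset.mem_filter.2 ⟨Finset.mem_univ _, hb⟩, rfl⟩
  · have := CosetCert.allBelow_spec h9 d.2
    rw [Bool.or_eq_true, Bool.or_eq_true, Bool.or_eq_true] at this
    rcases this with ((h' | h') | h') | h'
    · rw [Far] at hd; simp [hd] at h'
    · exact Or.inl (Fin.ext (Nat.eq_of_beq_eq_true h'))
    · exact Or.inr (Fin.ext (Nat.eq_of_beq_eq_true h'))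
    · exfalso
      rw [Bool.not_eq_true'] at h'
      have e : CosetCert.allBelow (fun k => Nat.beq (t126 k d) d) 4 = true := by
        have key : ∀ j ≤ 4, CosetCert.allBelow (fun k => Nat.beq (t126 k d) d) j = true := by
          intro j
          induction j with
          | zero => intro _; rfl
          | succ j ih =>
            intro hj
            show Bool.rec false (CosetCert.allBelow (fun k => Nat.beq (t126 k d) d) j) (Nat.beq (t126 j d) d) = true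
            have := congrArg Fin.val (hfix j (by omega))
            rw [sixP_apply (by omega)] at this
            rw [show Nat.beq (t126 j d) d = true by rw [Nat.beq_eq]; exact this, ih (by omega)]
        exact key 4 le_rfl
      rw [e] at h'
      exact Bool.noConfusion h'

/-- Each point other than zero goes to one of the two representatives. -/
theorem exists_rep (d : Fin 126) (hd : d ≠ 0) :
    ∃ w : List ℕ, (∀ x ∈ w, x < 5) ∧ ((Far d ∧ wP w d = d1) ∨ (¬ Far d ∧ wP w d = n0)) := by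
  have h := CosetCert.allBelow_spec toRep_ok d.2
  simp only [Bool.and_eq_true, Bool.or_eq_true, List.all_eq_true, Nat.blt_eq, Nat.beq_eq] at h
  refine ⟨_, h.1, ?_⟩
  have hw : ∀ x ∈ toRep.getD (d : ℕ) [], x < 6 := fun x hx => by have := h.1 x hx; omega
  rcases h.2 with h2 | h2
  · exact absurd (Fin.ext h2) hd
  by_cases hf : Far d
  · refine Or.inl ⟨hf, Fin.ext ?_⟩
    rw [Far] at hf
    rw [hf, cond_true, Nat.beq_eq] at h2
    rw [wP_apply _ hw]
    exact h2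
  · refine Or.inr ⟨hf, Fin.ext ?_⟩
    rw [Far, Bool.not_eq_true] at hf
    rw [hf, cond_false, Nat.beq_eq] at h2
    rw [wP_apply _ hw]
    exact h2

/-- The six move the zero point everywhere. -/
theorem six_transitive (d : Fin 126) : ∃ σ ∈ genGroup 7 126 l126Gens, σ 0 = d := by
  have hmem : ∀ x < 6, sixP x ∈ genGroup 7 126 l126Gens := fun x hx => by
    rw [l126_eq]; exact Subgroup.subset_closure ⟨x, hx, rfl⟩
  have h5 : genGroup 7 126 p126Gens ≤ genGroup 7 126 l126Gens := by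
    rw [p126_eq, l126_eq]
    exact Subgroup.closure_mono (Set.image_mono fun x (hx : x < 5) => show x < 6 by omega)
  obtain ⟨o0, o1, o5, o5n, f1, -, f0, fn, -, -⟩ := orbit_spec
  have hfar : ∀ d, Far d → ∃ σ ∈ genGroup 7 126 l126Gens, σ 0 = d := by
    intro d hd
    obtain ⟨w, hw, h⟩ := exists_rep d (fun e => f0 (e ▸ hd))
    rcases h with ⟨-, e⟩ | ⟨e, -⟩
    · refine ⟨(wP w)⁻¹ * sixP 5, mul_mem (inv_mem (h5 (wP_mem5 hw))) (hmem 5 (by norm_num)), ?_⟩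
      rw [Equiv.Perm.mul_apply, o5, ← e]
      exact (wP w).symm_apply_apply d
    · exact absurd hd e
  by_cases hd : d = 0
  · exact ⟨1, one_mem _, by rw [hd]; rfl⟩
  by_cases hf : Far d
  · exact hfar d hf
  have h59 := near1_ok
  simp only [Bool.and_eq_true, Bool.not_eq_true'] at h59
  obtain ⟨e, he⟩ : ∃ e : Fin 126, (e : ℕ) = 59 := ⟨⟨59, by norm_num⟩, rfl⟩
  have hne : ¬ Far e := by simp [Far, he, h59.1]
  obtain ⟨τ, hτ, hτ0⟩ := hfar (sixP 5 e) (by rw [Far, sixP_apply (by norm_num), he]; exact h59.2)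
  have he0 : e ≠ 0 := fun h => by rw [h] at he; simp at he
  obtain ⟨w, hw, h⟩ := exists_rep d hd
  obtain ⟨w', hw', h'⟩ := exists_rep e he0
  rcases h with ⟨e1, -⟩ | ⟨-, hwd⟩
  · exact absurd e1 hf
  rcases h' with ⟨e1, -⟩ | ⟨-, hwe⟩
  · exact absurd e1 hne
  refine ⟨(wP w)⁻¹ * (wP w' * ((sixP 5)⁻¹ * τ)), mul_mem (inv_mem (h5 (wP_mem5 hw)))
    (mul_mem (h5 (wP_mem5 hw')) (mul_mem (inv_mem (hmem 5 (by norm_num))) hτ)), ?_⟩
  simp only [Equiv.Perm.mul_apply, hτ0]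
  rw [show (sixP 5)⁻¹ (sixP 5 e) = e from (sixP 5).symm_apply_apply e, hwe, ← hwd]
  exact (wP w).symm_apply_apply d

/-- The first five generate the stabiliser of zero. -/
theorem stab_six {σ : Equiv.Perm (Fin 126)} (h : σ ∈ genGroup 7 126 l126Gens) (h0 : σ 0 = 0) :
    σ ∈ genGroup 7 126 p126Gens := by
  set G := genGroup 7 126 l126Gens
  have horb : Nat.card (MulAction.orbit G (0 : Fin 126)) = 126 := by
    rw [show MulAction.orbit G (0 : Fin 126) = Set.univ from Set.eq_univ_of_forall fun d =>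
      let ⟨τ, hτ, e⟩ := six_transitive d; ⟨⟨τ, hτ⟩, e⟩, Nat.card_univ, Nat.card_fin]
  have hst : Nat.card (MulAction.stabilizer G (0 : Fin 126)) = 51840 := by
    have := Subgroup.card_mul_index (MulAction.stabilizer G (0 : Fin 126))
    rw [MulAction.index_stabilizer, ← Nat.card_coe_set_eq, horb, card_l126] at this
    omega
  have hle : genGroup 7 126 p126Gens ≤ (MulAction.stabilizer G (0 : Fin 126)).map G.subtype := by
    rw [p126_eq, Subgroup.closure_le]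
    rintro _ ⟨x, hx, rfl⟩
    have hx' : x < 6 := by
      have : x < 5 := hx
      omega
    exact ⟨⟨sixP x, l126_eq.ge (Subgroup.subset_closure ⟨x, hx', rfl⟩)⟩, orbit_spec.1 x hx, rfl⟩
  have heq := Subgroup.eq_of_le_of_card_ge hle (by
    rw [Subgroup.card_map_of_injective G.subtype_injective, hst, cert_card p126_cert, p126_order])
  rw [heq]
  exact ⟨⟨σ, h⟩, h0, rfl⟩

end Cfsg.Agent.FischerQuad
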