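import Cfsg.Agent.Lib.FischerQuad.Points
import Cfsg.Agent.Lib.FischerQuad.Orb

/-!
The far quads, six generators, and the identification of the quads with the 126 cosets.
-/

set_option autoImplicit false
set_option maxRecDepth 100000
set_option linter.style.haveILetI false

namespace Cfsg.Agent.FischerQuad

open Cfsg.Agent.Fischer
open Cfsg.Agent.Fischer.Factor
open Cfsg.Agent.Fi22Local
open Cfsg.Agent.FischerInvol24
open Cfsg.Agent.CosetCert (act_eq_wprod wprod wprod_reverse rotsOK_spec tact checkCert_sound tableOK_spec)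
open Cfsg.Agent.CosetData

universe u

variable {G : Type u} [Group G] [Finite G] {D : Set G} (V : Env D)
include V

/-- Elements of the centraliser keep commuting quads commuting. -/
theorem Env.bcm_conj {z g : G} {S T : Set G} (h : BCm S T) :
    BCm ((fun x => g * x * g⁻¹) '' S) ((fun x => g * x * g⁻¹) '' T) := by
  have := V.facts
  rintro _ ⟨u, hu, rfl⟩ _ ⟨v, hv, rfl⟩
  exact (commute_conj_iff g u v).2 (h u hu v hv)

omit V in
theorem mem_of_eq {z : G} {S T : Blk D z} (h : S = T) {x : G} (hx : x ∈ S.1) : x ∈ T.1 := h ▸ hx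

namespace Local

variable {z a b c e : G} {π : ↥(Subgroup.centralizer ({a, b} : Set G)) →* GG}
  {y : Fin 45 → Fin 4 → G} (L : Local D z a b c e π y)
include L

/-- The numbered quads commute as the table says. -/
theorem cm_iff_bcm (i j : Fin 45) : Cm i j ↔ BCm (blockSet y i) (blockSet y j) := by
  rw [L.cm_iff_commute V]
  exact ⟨V.bcm (L.quad V i) (L.quad V j) (mem_blockSet y i 0) (mem_blockSet y j 0),
    fun h => h _ (mem_blockSet y i 0) _ (mem_blockSet y j 0)⟩

/-- A representative, in the centraliser. -/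
def rep (i : Fin 45) : ↥(Subgroup.centralizer ({z} : Set G)) :=
  ⟨y i 0, Subgroup.mem_centralizer_singleton_iff.2 (L.y_mem V i 0).2.eq⟩

theorem act_rep_blk (i j : Fin 45) : act V z (L.rep V i) (L.blk V j) = L.blk V (rF i j) :=
  V.blk_eq (act_mem V (L.rep V i) (mem_blockSet y j 0)) (L.conj_mem V i j)

theorem act_rep_base (i : Fin 45) : act V z (L.rep V i) L.base = L.base := by
  refine V.blk_eq (act_mem V (L.rep V i) L.a_mem) ?_
  show y i 0 * a * (y i 0)⁻¹ ∈ _
  rw [conj_eq_self_of_commute (L.y_a i 0)]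
  exact L.a_mem

omit V in
/-- A quad moved by the first of the frame. -/
def Far (_ : Local D z a b c e π y) (T : Blk D z) : Prop := ∀ v ∈ T.1, ¬ Commute v a

omit V in
/-- The numbers of the quads commuting with a given one. -/
noncomputable def com (_ : Local D z a b c e π y) (T : Blk D z) : Finset (Fin 45) :=
  @Finset.filter _ (fun i => BCm (blockSet y i) T.1) (Classical.decPred _) Finset.univ

omit V in
theorem mem_com {T : Blk D z} {i : Fin 45} : i ∈ L.com T ↔ BCm (blockSet y i) T.1 := by
  classical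
  simp [com]

theorem com_closed {T : Blk D z} : ∀ i ∈ L.com T, ∀ j ∈ L.com T, rF i j ∈ L.com T := by
  intro i hi j hj
  rw [mem_com] at hi hj ⊢
  obtain ⟨v, hv⟩ := T.2.nonempty
  refine V.bcm (L.quad V _) T.2 (L.conj_mem V i j) hv ?_
  have h1 : Commute (y i 0) v := hi _ (mem_blockSet y i 0) v hv
  have h2 : Commute (y j 0) v := hj _ (mem_blockSet y j 0) v hv
  exact (h1.mul_left h2).mul_left h1.inv_left

/-- A frame at a numbered quad. -/
theorem exists_at (i : Fin 45) : ∃ (a' b' c' e' : G) (π' : ↥(Subgroup.centralizer ({a', b'} : Set G)) →* GG)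
    (y' : Fin 45 → Fin 4 → G) (L' : Local D z a' b' c' e' π' y') (q0 : Fin 45),
    L'.base = L.blk V i ∧ L'.blk V q0 = L.base := by
  obtain ⟨a', b', c', e', ht, hS⟩ := L.quad V i
  obtain ⟨π', R'⟩ := V.exists_frame ht
  obtain ⟨y', L'⟩ := V.exists_local R'
  have hb : L'.base = L.blk V i := Subtype.ext hS.symm
  have ha' : a' ∈ blockSet y i := hS ▸ Or.inl rfl
  obtain ⟨m, hm⟩ := exists_of_mem_blockSet ha'
  rcases L'.near_cases V (T := L.base) L.a_mem (hm ▸ (L.y_a i m).symm) with h | ⟨q0, h⟩
  · exact absurd (h.trans hb).symm (L.blk_ne_base V i)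
  · exact ⟨a', b', c', e', π', y', L', q0, hb, h.symm⟩

/-- Every commuting quad of a far one commutes with three others. -/
theorem com_deg3 {T : Blk D z} (hT : L.Far T) : Deg3 (L.com T) := by
  classical
  intro i hi
  rw [mem_com] at hi
  obtain ⟨a', b', c', e', π', y', L', q0, hb, hq0⟩ := L.exists_at V i
  have ha' : a' ∈ blockSet y i := mem_of_eq hb L'.a_mem
  obtain ⟨v, hv⟩ := T.2.nonempty
  rcases L'.near_cases V (T := T) hv (hi a' ha' v hv).symm with h | ⟨t0, ht0⟩
  · exfalso
    refine hT (y i 0) ?_ (L.y_a i 0)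
    rw [h, hb]
    exact mem_blockSet y i 0
  have hnc : ¬ Cm q0 t0 := by
    rw [L'.cm_iff_bcm V]
    intro h
    refine hT v hv ?_
    exact (h a (mem_of_eq hq0.symm L.a_mem) v (mem_of_eq ht0 hv)).symm
  rw [← card_mu hnc]
  have hex : ∀ j ∈ (L.com T).filter (fun j => j ≠ i ∧ Cm i j), ∃ k, L'.blk V k = L.blk V j := by
    intro j hj
    obtain ⟨-, hne, hij⟩ := Finset.mem_filter.1 hj
    rcases L'.near_cases V (T := L.blk V j) (mem_blockSet y j 0)
        (((L.cm_iff_bcm V i j).1 hij) a' ha' _ (mem_blockSet y j 0)).symm with h | ⟨k, h⟩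
    · exact absurd (L.blk_inj V (h.trans hb)) hne
    · exact ⟨k, h.symm⟩
  refine Finset.card_bij (fun j hj => (hex j hj).choose) ?_ ?_ ?_
  · intro j hj
    have hk := congrArg Subtype.val (hex j hj).choose_spec
    obtain ⟨hjT, -, -⟩ := Finset.mem_filter.1 hj
    rw [Finset.mem_filter, L'.cm_iff_bcm V, L'.cm_iff_bcm V]
    refine ⟨Finset.mem_univ _, ?_, ?_⟩
    · rw [show blockSet y' q0 = ({a, b, c, e} : Set G) from congrArg Subtype.val hq0]
      refine V.bcm L.frame.quad (L'.quad V _) L.a_mem (hk.ge (mem_blockSet y j 0)) ?_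
      exact (L.y_a j 0).symm
    · rw [show blockSet y' t0 = T.1 from (congrArg Subtype.val ht0).symm]
      refine V.bcm T.2 (L'.quad V _) hv (hk.ge (mem_blockSet y j 0)) ?_
      exact (L.mem_com.1 hjT _ (mem_blockSet y j 0) v hv).symm
  · intro j hj j' hj' h
    exact L.blk_inj V ((hex j hj).choose_spec.symm.trans ((congrArg (L'.blk V) h).trans (hex j' hj').choose_spec))
  · intro k hk
    obtain ⟨-, hqk, htk⟩ := Finset.mem_filter.1 hk
    rw [L'.cm_iff_bcm V] at hqk htk
    have hka : Commute (y' k 0) a :=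
      (hqk a (mem_of_eq hq0.symm L.a_mem) _ (mem_blockSet y' k 0)).symm
    have hkv : Commute (y' k 0) v :=
      (htk v (mem_of_eq ht0 hv) _ (mem_blockSet y' k 0)).symm
    rcases L.near_cases V (T := L'.blk V k) (mem_blockSet y' k 0) hka with h | ⟨j, h⟩
    · exfalso
      refine hT v hv ?_
      exact (V.bcm (L'.quad V k) T.2 (mem_blockSet y' k 0) hv hkv a
        (mem_of_eq h.symm L.a_mem) v hv).symm
    have hmem : j ∈ (L.com T).filter (fun j => j ≠ i ∧ Cm i j) := by
      rw [Finset.mem_filter, mem_com]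
      have hj : y' k 0 ∈ blockSet y j := mem_of_eq h (mem_blockSet y' k 0)
      refine ⟨V.bcm (L.quad V j) T.2 hj hv hkv, fun e => L'.blk_ne_base V k ?_, ?_⟩
      · rw [h, hb, e]
      · rw [L.cm_iff_bcm V]
        exact V.bcm (L.quad V i) (L.quad V j) ha' hj (L'.y_a k 0).symm
    exact ⟨j, hmem, L'.blk_inj V ((hex j hmem).choose_spec.trans h.symm)⟩

/-- Some far quad commutes with at least thirteen numbered ones. -/
theorem exists_big : ∃ T : Blk D z, L.Far T ∧ 13 ≤ (L.com T).card := by
  classical
  letI : Fintype (Blk D z) := Fintype.ofFinite _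
  set Fs := (Finset.univ : Finset (Blk D z)).filter fun T => L.Far T with hFs
  by_contra hcon
  push Not at hcon
  have h80 : Fs.card ≤ 80 := by
    have hsub : Fs ∪ insert L.base ((Finset.univ : Finset (Fin 45)).image (L.blk V)) ⊆ Finset.univ :=
      Finset.subset_univ _
    have hdis : Disjoint Fs (insert L.base ((Finset.univ : Finset (Fin 45)).image (L.blk V))) := by
      rw [Finset.disjoint_left]
      intro T hT hT'
      have hf := (Finset.mem_filter.1 hT).2
      rcases Finset.mem_insert.1 hT' with rfl | hT'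
      · exact hf a L.a_mem (Commute.refl a)
      · obtain ⟨j, -, rfl⟩ := Finset.mem_image.1 hT'
        exact hf (y j 0) (mem_blockSet y j 0) (L.y_a j 0)
    have := Finset.card_le_card hsub
    rw [Finset.card_union_of_disjoint hdis, Finset.card_insert_of_notMem, Finset.card_image_of_injective _
      (fun i j h => L.blk_inj V h), Finset.card_univ, Finset.card_univ, Fintype.card_fin,
      ← Nat.card_eq_fintype_card, L.card_blk V] at this
    · omega
    · intro h
      obtain ⟨j, -, hj⟩ := Finset.mem_image.1 h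
      exact L.blk_ne_base V j hj
  have h32 : ∀ i : Fin 45, 32 ≤ (Fs.filter fun T => i ∈ L.com T).card := by
    intro i
    obtain ⟨a', b', c', e', π', y', L', q0, hb, hq0⟩ := L.exists_at V i
    have ha' : a' ∈ blockSet y i := mem_of_eq hb L'.a_mem
    have hc : ((Finset.univ : Finset (Fin 45)).filter fun k => ¬ Cm q0 k).card = 32 := by
      have := Finset.card_filter_add_card_filter_not (s := (Finset.univ : Finset (Fin 45))) (fun k => Cm q0 k)
      rw [card_deg, Finset.card_univ, Fintype.card_fin] at this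
      omega
    rw [← hc]
    refine Finset.card_le_card_of_injOn (L'.blk V) (fun k hk => ?_) (fun k _ k' _ h => L'.blk_inj V h)
    have hk' := (Finset.mem_filter.1 hk).2
    refine Finset.mem_filter.2 ⟨Finset.mem_filter.2 ⟨Finset.mem_univ _, fun v hv hva => hk' ?_⟩, ?_⟩
    · rw [L'.cm_iff_bcm V]
      exact V.bcm (L'.quad V q0) (L'.quad V k) (mem_of_eq hq0.symm L.a_mem) hv hva.symm
    · rw [mem_com]
      exact V.bcm (L.quad V i) (L'.quad V k) ha' (mem_blockSet y' k 0) (L'.y_a k 0).symm
  have hsum : ∑ T ∈ Fs, (L.com T).card = ∑ i : Fin 45, (Fs.filter fun T => i ∈ L.com T).card := by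
    have e1 : ∀ T, (L.com T).card = ∑ i : Fin 45, if i ∈ L.com T then 1 else 0 := fun T => by
      rw [← Finset.card_filter]; simp
    simp only [e1, Finset.card_filter]
    exact Finset.sum_comm
  have hup : ∑ T ∈ Fs, (L.com T).card ≤ 80 * 12 :=
    (Finset.sum_le_card_nsmul Fs _ 12 fun T hT => by
      have := hcon T (Finset.mem_filter.1 hT).2; omega).trans (by rw [smul_eq_mul]; omega)
  have hlow : 45 * 32 ≤ ∑ i : Fin 45, (Fs.filter fun T => i ∈ L.com T).card := by
    have := Finset.card_nsmul_le_sum (Finset.univ : Finset (Fin 45)) _ 32 fun i _ => h32 i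
    simpa using this
  omega

theorem far_rep {T : Blk D z} (hT : L.Far T) (i : Fin 45) : L.Far (act V z (L.rep V i) T) := by
  rintro _ ⟨v, hv, rfl⟩ hc
  refine hT v hv ((commute_conj_iff (y i 0) v a).1 ?_)
  rw [conj_eq_self_of_commute (L.y_a i 0)]
  exact hc

theorem com_rep {k : ℕ} (hk : k < 5) (T : Blk D z) :
    L.com (act V z (L.rep V (f5 k)) T) = (L.com T).image (rowPerm (f5 k)) := by
  have key : ∀ (U : Blk D z) i, i ∈ L.com U → rF (f5 k) i ∈ L.com (act V z (L.rep V (f5 k)) U) := by
    intro U i hi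
    rw [mem_com] at hi ⊢
    have h := V.bcm_conj (z := z) (g := y (f5 k) 0) hi
    obtain ⟨v, hv⟩ := U.2.nonempty
    exact V.bcm (L.quad V _) (act V z (L.rep V (f5 k)) U).2 (L.conj_mem V (f5 k) i)
      (act_mem V (L.rep V (f5 k)) hv) (h _ ⟨_, mem_blockSet y i 0, rfl⟩ _ ⟨v, hv, rfl⟩)
  ext i
  refine ⟨fun hi => Finset.mem_image.2 ⟨rowPerm (f5 k) i, ?_, row_sq hk i⟩, fun hi => ?_⟩
  · have := key _ i hi
    rwa [← Equiv.Perm.mul_apply, ← map_mul, show L.rep V (f5 k) * L.rep V (f5 k) = 1 from
      Subtype.ext (V.facts.sq (L.y_mem V (f5 k) 0).1), map_one, Equiv.Perm.one_apply, ← rowPerm_apply] at this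
  · obtain ⟨j, hj, rfl⟩ := Finset.mem_image.1 hi
    rw [rowPerm_apply]
    exact key T j hj

/-- Some far quad has the listed eighteen. -/
theorem exists_S0 : ∃ T : Blk D z, L.Far T ∧ L.com T = S0set := by
  obtain ⟨T, hT, h13⟩ := L.exists_big V
  obtain ⟨w, hw, hS⟩ := listed_spec (closed_listed (L.com_closed V) (L.com_deg3 V hT) h13)
  clear h13
  have gen : ∀ (w : List ℕ), (w.all fun k => Nat.blt k 5) = true → ∀ (A : Finset (Fin 45)) (T : Blk D z),
      L.Far T → L.com T = A.image (pW w) → ∃ T', L.Far T' ∧ L.com T' = A := by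
    intro w
    induction w with
    | nil => intro _ A T hT h; exact ⟨T, hT, by simpa [pW] using h⟩
    | cons k w ih =>
      intro hw A T hT h
      rw [List.all_cons, Bool.and_eq_true, Nat.blt_eq] at hw
      obtain ⟨T1, h1, e1⟩ := ih hw.2 (A.image (rowPerm (f5 k))) T hT (by
        rw [h, Finset.image_image]
        refine Finset.image_congr fun j _ => ?_
        rw [show pW (k :: w) = pW w * rowPerm (f5 k) by simp [pW]]
        rfl)
      refine ⟨_, L.far_rep V h1 (f5 k), ?_⟩
      rw [L.com_rep V hw.1, e1, Finset.image_image,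
        show (rowPerm (f5 k) : Fin 45 → Fin 45) ∘ rowPerm (f5 k) = id from funext (row_sq hw.1), Finset.image_id]
  exact gen w hw S0set T hT hS

/-- The base is the only quad fixed by the five. -/
theorem fixed_five {T : Blk D z} (h : ∀ k < 5, act V z (L.rep V (f5 k)) T = T) : T = L.base := by
  obtain ⟨v, hv⟩ := T.2.nonempty
  have h5 : ∀ k < 5, f5 k ∈ L.com T := by
    intro k hk
    rw [mem_com]
    refine V.bcm (L.quad V _) T.2 (mem_blockSet y (f5 k) 0) hv ?_
    exact (V.fix_iff (L.y_mem V (f5 k) 0).1 (L.y_mem V (f5 k) 0).2 T.2 hv).1 (congrArg Subtype.val (h k hk))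
  have hall : ∀ i, i ∈ L.com T :=
    five_induction (P := fun i => i ∈ L.com T) h5 fun i j hi hj => L.com_closed V i hi j hj
  by_cases hva : Commute v a
  · rcases L.near_cases V hv hva with h' | ⟨j, rfl⟩
    · exact h'
    · exfalso
      have h13 := card_deg j
      have : (Finset.univ.filter fun k => Cm j k) = Finset.univ := Finset.eq_univ_iff_forall.2 fun i =>
        Finset.mem_filter.2 ⟨Finset.mem_univ _, cm_symm ((L.cm_iff_bcm V i j).2 (L.mem_com.1 (hall i)))⟩
      rw [this, Finset.card_univ, Fintype.card_fin] at h13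
      omega
  · exfalso
    have hfar : L.Far T := fun u hu hua =>
      hva (V.quad_all T.2 L.frame.ha (L.frame.quad.mem L.a_mem).2 hu hua.symm hv).symm
    have h3 := L.com_deg3 V hfar (f5 0) (hall _)
    have h13 := card_deg (f5 0)
    have e : (L.com T).filter (fun j => j ≠ f5 0 ∧ Cm (f5 0) j) =
        (Finset.univ.filter fun j => Cm (f5 0) j).erase (f5 0) := by
      ext j
      simp [hall j]
    rw [e, Finset.card_erase_of_mem (Finset.mem_filter.2 ⟨Finset.mem_univ _, cm_self _⟩), h13] at h3
    omega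

end Local

/-- Members realising the six. -/
structure Six (V : Env D) {z a b c e : G} {π : ↥(Subgroup.centralizer ({a, b} : Set G)) →* GG}
    {y : Fin 45 → Fin 4 → G} (L : Local D z a b c e π y)
    (s : ℕ → ↥(Subgroup.centralizer ({z} : Set G))) : Prop where
  low : ∀ k < 5, s k = L.rep V (f5 k)
  top : ((s 5 : G) ∈ D ∧ ¬ Commute (s 5 : G) a) ∧
    ∀ k < 5, (Commute (y (f5 k) 0) (s 5 : G) ↔ k < 4)
  sq : ∀ k, s k * s k = 1

namespace Six

variable {z a b c e : G} {π : ↥(Subgroup.centralizer ({a, b} : Set G)) →* GG} {y : Fin 45 → Fin 4 → G}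
  {L : Local D z a b c e π y} {s : ℕ → ↥(Subgroup.centralizer ({z} : Set G))} (M : Six V L s)
include M

theorem relators : ∀ w ∈ U43Six126.base, wprod s w = 1 := by
  obtain ⟨⟨p01, p02, p03, p04⟩, ⟨p12, p13, p14⟩, ⟨p23, p24⟩, p34, pd, pd'⟩ := five_pattern
  obtain ⟨⟨hxD, -⟩, hx⟩ := M.top
  have hD : ∀ k < 6, (s k : G) ∈ D := by
    intro k hk
    rcases Nat.lt_or_ge k 5 with h | h
    · rw [M.low k h]; exact (L.y_mem V _ 0).1
    · obtain rfl : k = 5 := by omega
      exact hxD
  have two : ∀ {i j : ℕ}, Commute (s i : G) (s j : G) → wprod s [i, j, i, j] = 1 := by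
    intro i j h
    have h' : Commute (s i) (s j) := Subtype.ext h.eq
    simp only [wprod, List.map_cons, List.map_nil, List.prod_cons, List.prod_nil, mul_one]
    rw [← mul_assoc (s j), ← h'.eq, mul_assoc, M.sq, mul_one, M.sq]
  have three : ∀ {i j : ℕ}, i < 6 → j < 6 → ¬ Commute (s i : G) (s j : G) → wprod s [i, j, i, j, i, j] = 1 := by
    intro i j hi hj h
    have := TSet.cube V.facts.tg.1 (hD i hi) (hD j hj) h
    refine Subtype.ext ?_
    simp only [wprod, List.map_cons, List.map_nil, List.prod_cons, List.prod_nil, mul_one, Subgroup.coe_mul,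
      Subgroup.coe_one]
    rw [← this, pow_succ, pow_two]
    simp only [mul_assoc]
  have low2 : ∀ {i j : ℕ}, i < 5 → j < 5 → Cm (f5 i) (f5 j) → Commute (s i : G) (s j : G) := by
    intro i j hi hj h
    rw [M.low i hi, M.low j hj]
    exact (L.cm_iff_commute V _ _).1 h
  have low3 : ∀ {i j : ℕ}, i < 5 → j < 5 → ¬ Cm (f5 i) (f5 j) → ¬ Commute (s i : G) (s j : G) := by
    intro i j hi hj h
    rw [M.low i hi, M.low j hj]
    exact fun hc => h ((L.cm_iff_commute V _ _).2 hc)
  have high : ∀ {i : ℕ}, i < 4 → Commute (s i : G) (s 5 : G) := fun {i} hi => by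
    rw [M.low i (by omega)]
    exact (hx i (by omega)).2 hi
  have four : ¬ Commute (s 4 : G) (s 5 : G) := by
    rw [M.low 4 (by norm_num)]
    exact fun h => absurd ((hx 4 (by norm_num)).1 h) (by norm_num)
  have tri : ∀ {i j k : ℕ}, i < 5 → j < 5 → k < 5 → ¬ Cm (f5 i) (rF (f5 j) (f5 k)) →
      wprod s [i, j, k, j, i, j, k, j, i, j, k, j] = 1 := by
    intro i j k hi hj hk h
    have hm : (s j : G) * (s k : G) * (s j : G)⁻¹ ∈ blockSet y (rF (f5 j) (f5 k)) := by
      rw [M.low j hj, M.low k hk]
      exact L.conj_mem V _ _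
    have hn : ¬ Commute (s i : G) ((s j : G) * (s k : G) * (s j : G)⁻¹) := by
      rw [M.low i hi]
      intro hc
      exact h ((L.cm_iff_bcm V _ _).2 (V.bcm (L.quad V _) (L.quad V _) (mem_blockSet y (f5 i) 0) hm hc))
    have := TSet.cube V.facts.tg.1 (hD i (by omega)) (((L.quad V _).mem hm).1) hn
    rw [TSet.inv V.facts.tg.1 (hD j (by omega))] at this
    refine Subtype.ext ?_
    simp only [wprod, List.map_cons, List.map_nil, List.prod_cons, List.prod_nil, mul_one, Subgroup.coe_mul,
      Subgroup.coe_one]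
    rw [← this, pow_succ, pow_two]
    simp only [mul_assoc]
  have one : ∀ i, wprod s [i, i] = 1 := fun i => by simp [wprod, M.sq]
  simp only [U43Six126.base, List.forall_mem_cons]
  exact ⟨one 0, one 1, one 2, one 3, one 4, one 5,
    three (by norm_num) (by norm_num) (low3 (by norm_num) (by norm_num) p01),
    two (low2 (by norm_num) (by norm_num) p02), two (low2 (by norm_num) (by norm_num) p03),
    two (low2 (by norm_num) (by norm_num) p04), two (high (by norm_num)),
    three (by norm_num) (by norm_num) (low3 (by norm_num) (by norm_num) p12),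
    three (by norm_num) (by norm_num) (low3 (by norm_num) (by norm_num) p13),
    two (low2 (by norm_num) (by norm_num) p14), two (high (by norm_num)),
    three (by norm_num) (by norm_num) (low3 (by norm_num) (by norm_num) p23),
    two (low2 (by norm_num) (by norm_num) p24), two (high (by norm_num)),
    three (by norm_num) (by norm_num) (low3 (by norm_num) (by norm_num) p34), two (high (by norm_num)),
    three (by norm_num) (by norm_num) four,
    tri (by norm_num) (by norm_num) (by norm_num) pd, tri (by norm_num) (by norm_num) (by norm_num) pd',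
    fun _ h => absurd h List.not_mem_nil⟩

end Six

/-- The word leading to the sixth subgroup generator. -/
def pathW6 : List ℕ := [5, 4, 3, 1, 0, 2, 3, 1, 2, 4, 3, 1, 0, 5, 4, 3, 1, 2, 3, 4, 5]

omit [Group G] [Finite G] V in
theorem table_facts : (CosetCert.allBelow (fun k =>
      Nat.beq (tact U43Six756.P [k] (tact U43Six756.P pathW6 0)) (tact U43Six756.P pathW6 0)) 5) = true ∧
    (pathW6.all fun x => Nat.blt x 6) = true ∧ U43Six756.P.k = 6 ∧ U43Six126.P.k = 6 ∧
    U43Six756.P.subs = [[0], [1], [2], [3], [4]] ∧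
    (U43Six126.P.subs.all fun w => [[0], [1], [2], [3], [4], pathW6].any fun u =>
      CosetCert.wordEq w u || CosetCert.wordEq w.reverse u) = true ∧ U43Six756.base = U43Six126.base := by
  decide +kernel

omit [Group G] [Finite G] V in
/-- Edges give the action of words. -/
theorem edges_act {X : Type*} {f : ℕ → X → X} {P : CosetCert.Params} {n : ℕ} {q : ℕ → X}
    (htab : CosetCert.tableOK P n = true)
    (hq : ∀ i < n * P.k, f (i % P.k) (q (i / P.k)) = q (P.T.get i)) :
    ∀ (w : List ℕ), (∀ x ∈ w, x < P.k) → ∀ c < n, CosetCert.act f w (q c) = q (tact P w c) := by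
  intro w
  induction w with
  | nil => intro _ c _; rfl
  | cons x w ih =>
    intro hw c hc
    have hx := hw x List.mem_cons_self
    have hi : c * P.k + x < n * P.k := by
      have : (c + 1) * P.k ≤ n * P.k := Nat.mul_le_mul_right _ hc
      rw [Nat.add_mul, Nat.one_mul] at this
      omega
    have h := hq _ hi
    have hk : 0 < P.k := by omega
    rw [Nat.mul_comm c, Nat.mul_add_mod, Nat.mod_eq_of_lt hx, Nat.mul_add_div hk, Nat.div_eq_of_lt hx,
      Nat.add_zero, Nat.mul_comm P.k] at h
    have hlt := tableOK_spec P htab hi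
    rw [Bool.and_eq_true, Nat.blt_eq] at hlt
    rw [CosetCert.act_cons, h, CosetCert.tact_cons, ih (fun y hy => hw y (List.mem_cons_of_mem _ hy)) _ hlt.1]

/-- The quads are the 126 cosets. -/
theorem Env.exists_model {z a b c e : G} {π : ↥(Subgroup.centralizer ({a, b} : Set G)) →* GG}
    {y : Fin 45 → Fin 4 → G} (L : Local D z a b c e π y) :
    ∃ (s : ℕ → ↥(Subgroup.centralizer ({z} : Set G))) (q : Fin 126 ≃ Blk D z),
      Six V L s ∧ q 0 = L.base ∧ ∀ x < 6, ∀ d, q (sixP x d) = act V z (s x) (q d) := by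
  classical
  obtain ⟨T, hT, hS⟩ := L.exists_S0 V
  obtain ⟨x, hx⟩ := T.2.nonempty
  obtain ⟨hxD, hxz⟩ := T.2.mem hx
  obtain ⟨s, hs⟩ : ∃ s : ℕ → ↥(Subgroup.centralizer ({z} : Set G)), s = fun k =>
      if k < 5 then L.rep V (f5 k) else if k = 5 then
        ⟨x, Subgroup.mem_centralizer_singleton_iff.2 hxz.eq⟩ else 1 := ⟨_, rfl⟩
  have hs5 : (s 5 : G) = x := by rw [hs]; rfl
  have hmem : ∀ k < 5, (Commute (y (f5 k) 0) x ↔ k < 4) := by
    intro k hk
    have h1 : Commute (y (f5 k) 0) x ↔ f5 k ∈ L.com T := by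
      rw [L.mem_com]
      exact ⟨V.bcm (L.quad V _) T.2 (mem_blockSet y (f5 k) 0) hx, fun h => h _ (mem_blockSet y (f5 k) 0) x hx⟩
    rw [h1, hS]
    obtain ⟨m0, m1, m2, m3, m4⟩ := S0_mem
    interval_cases k <;> simp [m0, m1, m2, m3, m4]
  have M : Six V L s := ⟨fun k hk => by rw [hs]; exact if_pos hk,
    ⟨hs5.symm ▸ ⟨hxD, hT x hx⟩, hs5.symm ▸ hmem⟩, fun k => by
      rw [hs]
      dsimp only
      split_ifs
      · exact Subtype.ext (V.facts.sq (L.y_mem V (f5 k) 0).1)
      · exact Subtype.ext (V.facts.sq hxD)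
      · exact mul_one 1⟩
  obtain ⟨gen, hgen⟩ : ∃ gen : ℕ → Equiv.Perm (Blk D z), gen = fun k => act V z (s k) := ⟨_, rfl⟩
  have hinv : ∀ k, gen k * gen k = 1 := fun k => by rw [hgen]; show act V z (s k) * act V z (s k) = 1; rw [← map_mul, M.sq, map_one]
  have hinv' : ∀ k (p : Blk D z), gen k (gen k p) = p := fun k p => by
    rw [← Equiv.Perm.mul_apply, hinv]; rfl
  have hbase : ∀ w ∈ U43Six126.base, wprod gen w = 1 := fun w hw => by
    have := congrArg (act V z) (M.relators V w hw)
    rw [map_one, wprod, map_list_prod, List.map_map] at this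
    rw [hgen]
    exact this
  obtain ⟨t1, t2, k756, k126, t3, t4, t5⟩ := table_facts
  have hfive : ∀ k < 5, gen k L.base = L.base := fun k hk => by
    rw [hgen]
    show act V z (s k) L.base = L.base
    rw [M.low k hk]
    exact L.act_rep_base V _
  obtain ⟨q7, hq70, hq7⟩ := checkCert_sound (P := U43Six756.P) (s := fun k p => gen k p) (q₀ := L.base)
    (fun w hw p => by
      have h1 := rotsOK_spec (gen := gen) hinv (t5 ▸ hbase) _ _ U43Six756.rots_ok w hw
      rw [show (fun k p => gen k p) = (fun k p => gen k • p) from rfl, act_eq_wprod, wprod_reverse hinv, h1,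
        inv_one, one_smul])
    (fun w hw => by
      rw [t3] at hw
      simp only [List.mem_cons, List.not_mem_nil, or_false] at hw
      rcases hw with rfl | rfl | rfl | rfl | rfl <;>
        · rw [CosetCert.act_cons, CosetCert.act_nil]
          exact hfive _ (by norm_num))
    hinv' U43Six756.cert_ok
  have hedge7 := edges_act (f := fun k p => gen k p) U43Six756.tab_ok hq7
  have hw6 : ∀ x ∈ pathW6, x < 6 := fun x hx => by
    have := List.all_eq_true.1 t2 x hx
    rwa [Nat.blt_eq] at this
  have hpath : CosetCert.act (fun k p => gen k p) pathW6 L.base = L.base := by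
    have e1 := hedge7 pathW6 (fun x hx => k756.symm ▸ hw6 x hx) 0 (by norm_num)
    rw [hq70] at e1
    rw [e1]
    refine L.fixed_five V fun k hk => ?_
    have hlt : tact U43Six756.P pathW6 0 < 756 := by
      have : ∀ (w : List ℕ), (∀ x ∈ w, x < 6) → ∀ c < 756, tact U43Six756.P w c < 756 := by
        intro w
        induction w with
        | nil => intro _ c hc; exact hc
        | cons x w ih =>
          intro hw c hc
          rw [CosetCert.tact_cons]
          refine ih (fun y hy => hw y (List.mem_cons_of_mem _ hy)) _ ?_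
          have hx := hw x List.mem_cons_self
          have h := tableOK_spec U43Six756.P U43Six756.tab_ok (i := c * U43Six756.P.k + x) (by rw [k756]; omega)
          rw [Bool.and_eq_true, Nat.blt_eq] at h
          exact h.1
      exact this _ hw6 0 (by norm_num)
    have e2 := hedge7 [k] (fun x hx => by rw [List.mem_singleton] at hx; rw [k756]; omega) _ hlt
    rw [CosetCert.act_cons, CosetCert.act_nil, Nat.eq_of_beq_eq_true (CosetCert.allBelow_spec t1 hk)] at e2
    rw [← M.low k hk]
    rw [hgen] at e2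
    exact e2
  obtain ⟨q1, hq10, hq1⟩ := checkCert_sound (P := U43Six126.P) (s := fun k p => gen k p) (q₀ := L.base)
    (fun w hw p => by
      have h1 := rotsOK_spec (gen := gen) hinv hbase _ _ U43Six126.rots_ok w hw
      rw [show (fun k p => gen k p) = (fun k p => gen k • p) from rfl, act_eq_wprod, wprod_reverse hinv, h1,
        inv_one, one_smul])
    (fun w hw => by
      have hfix : ∀ u ∈ [[0], [1], [2], [3], [4], pathW6],
          CosetCert.act (fun k p => gen k p) u L.base = L.base := by
        intro u hu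
        simp only [List.mem_cons, List.not_mem_nil, or_false] at hu
        rcases hu with rfl | rfl | rfl | rfl | rfl | rfl
        iterate 5 (· rw [CosetCert.act_cons, CosetCert.act_nil]; exact hfive _ (by norm_num))
        exact hpath
      obtain ⟨u, hu, h⟩ := List.any_eq_true.1 (List.all_eq_true.1 t4 w hw)
      rw [Bool.or_eq_true] at h
      rcases h with h | h
      · exact (CosetCert.eq_of_wordEq h) ▸ hfix u hu
      · have e1 := hfix u hu
        rw [← CosetCert.eq_of_wordEq h] at e1
        nth_rewrite 1 [← e1]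
        exact CosetCert.act_act_reverse (s := fun k p => gen k p) hinv' w L.base)
    hinv' U43Six126.cert_ok
  let q : Fin 126 → Blk D z := fun d => q1 d
  have heq : ∀ k < 6, ∀ d, q (sixP k d) = act V z (s k) (q d) := by
    intro k hk d
    have hi : (d : ℕ) * 6 + k < 126 * U43Six126.P.k := by rw [k126]; omega
    have h := hq1 _ hi
    rw [k126, show ((d : ℕ) * 6 + k) % 6 = k by omega, show ((d : ℕ) * 6 + k) / 6 = d by omega] at h
    show q1 _ = _
    rw [sixP_apply hk]
    rw [hgen] at h
    exact h.symm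
  have hgrp : ∀ σ ∈ PermCert.genGroup 7 126 l126Gens, ∃ g : Equiv.Perm (Blk D z), ∀ d, q (σ d) = g (q d) := by
    intro σ hσ
    rw [l126_eq] at hσ
    induction hσ using Subgroup.closure_induction with
    | mem τ hτ => obtain ⟨k, hk, rfl⟩ := hτ; exact ⟨_, heq k hk⟩
    | one => exact ⟨1, fun d => rfl⟩
    | mul σ τ _ _ hσ hτ =>
      obtain ⟨g, hg⟩ := hσ
      obtain ⟨h, hh⟩ := hτ
      exact ⟨g * h, fun d => by rw [Equiv.Perm.mul_apply, hg, hh, Equiv.Perm.mul_apply]⟩
    | inv σ _ hσ =>
      obtain ⟨g, hg⟩ := hσ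
      refine ⟨g⁻¹, fun d => ?_⟩
      have h1 := hg (σ⁻¹ d)
      rw [show σ (σ⁻¹ d) = d from σ.apply_symm_apply d] at h1
      rw [h1]
      exact (g.symm_apply_apply _).symm
  obtain ⟨o0, -, o5, o5n, -, -, -, -, -, -⟩ := orbit_spec
  have hzero : ∀ d : Fin 126, q d = L.base → d = 0 := by
    intro d hd
    by_contra hne
    obtain ⟨w, hw, h⟩ := exists_rep d hne
    have hfixw : ∀ (w : List ℕ), (∀ k ∈ w, k < 5) → ∀ d, q d = L.base → q (wP w d) = L.base := by
      intro w
      induction w with
      | nil => intro _ d h; exact h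
      | cons k w ih =>
        intro hw d h
        rw [wP_cons, Equiv.Perm.mul_apply]
        refine ih (fun y hy => hw y (List.mem_cons_of_mem _ hy)) _ ?_
        have hk := hw k List.mem_cons_self
        rw [heq k (by omega), h]
        have := hfive k hk
        rw [hgen] at this
        exact this
    have hwd := hfixw w hw d hd
    have hx1 : q d1 ≠ L.base := by
      rw [← o5, heq 5 (by norm_num), show q 0 = L.base from hq10]
      intro h'
      refine M.top.1.2 ?_
      refine (V.fix_iff M.top.1.1 (Subgroup.mem_centralizer_singleton_iff.1 (s 5).2) L.frame.quad L.a_mem).1 ?_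
      exact congrArg Subtype.val h'
    rcases h with ⟨-, e⟩ | ⟨-, e⟩ <;> rw [e] at hwd
    · exact hx1 hwd
    · refine hx1 ?_
      have h2 := heq 5 (by norm_num) n0
      rw [o5n, hwd] at h2
      rw [← o5, heq 5 (by norm_num), show q 0 = L.base from hq10]
      exact h2.symm
  have hinj : Function.Injective q := by
    intro p r h
    obtain ⟨σ, hσ, rfl⟩ := six_transitive p
    obtain ⟨g, hg⟩ := hgrp σ hσ
    have e1 : q r = g (q (σ⁻¹ r)) := by rw [← hg, show σ (σ⁻¹ r) = r from σ.apply_symm_apply r]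
    rw [hg, e1] at h
    have := hzero (σ⁻¹ r) ((g.injective h).symm.trans hq10)
    rw [← this, show σ (σ⁻¹ r) = r from σ.apply_symm_apply r]
  have hbij : Function.Bijective q := by
    letI : Fintype (Blk D z) := Fintype.ofFinite _
    rw [Fintype.bijective_iff_injective_and_card]
    exact ⟨hinj, by rw [Fintype.card_fin, ← Nat.card_eq_fintype_card, L.card_blk V]⟩
  exact ⟨s, Equiv.ofBijective q hbij, M, hq10, heq⟩

end Cfsg.Agent.FischerQuad
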