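import Cfsg.Agent.Lib.FischerQuad.Blocks
import Cfsg.Agent.Lib.FischerInvol24.Classes

/-!
Sets of four commuting transpositions with a given product in a group of type M(24).
-/

set_option autoImplicit false

namespace Cfsg.Agent.FischerQuad

open Cfsg.Agent.Fischer
open Cfsg.Agent.Fischer.Factor
open Cfsg.Agent.Fi22Local
open Cfsg.Agent.Fi22Local.Triple
open Cfsg.Agent.FischerPresented
open Cfsg.Agent.FischerInvol24
open Cfsg.Agent.FischerUnique.InvolutionClasses (Fac)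

local notation "W" => Fi22Class.D

universe u

variable {G : Type u} [Group G] [Finite G] {D : Set G}

/-- What is used about the group. -/
structure Env (D : Set G) : Prop where
  facts : Facts D
  card : ∀ t : G, Fac D 4 t → {w | w ∈ D ∧ Commute w t}.ncard = 504

/-- Four distinct commuting transpositions. -/
def Tuple (D : Set G) (z a b c e : G) : Prop :=
  [a, b, c, e].Nodup ∧ (∀ u ∈ [a, b, c, e], u ∈ D) ∧ (∀ u ∈ [a, b, c, e], ∀ v ∈ [a, b, c, e], Commute u v) ∧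
    [a, b, c, e].prod = z

/-- A set of four commuting transpositions with product `z`. -/
def Quad (D : Set G) (z : G) (S : Set G) : Prop :=
  ∃ a b c e : G, Tuple D z a b c e ∧ S = {a, b, c, e}

theorem memC {a b x : G} (ha : x ∈ Nb D a) (hb : x ∈ Nb D b) :
    x ∈ Subgroup.centralizer ({a, b} : Set G) := by
  rw [Subgroup.mem_centralizer_iff]
  rintro v (rfl | rfl)
  exacts [ha.2.2.eq, hb.2.2.eq]

theorem Tuple.nb {z a b c e : G} (h : Tuple D z a b c e) {u v : G} (hu : u ∈ [a, b, c, e])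
    (hv : v ∈ [a, b, c, e]) (hne : u ≠ v) : v ∈ Nb D u :=
  ⟨h.2.1 v hv, hne.symm, h.2.2.1 u hu v hv⟩

theorem Tuple.ne {z a b c e : G} (h : Tuple D z a b c e) :
    a ≠ b ∧ a ≠ c ∧ a ≠ e ∧ b ≠ c ∧ b ≠ e ∧ c ≠ e := by
  have := h.1
  simp only [List.nodup_cons, List.mem_cons, List.not_mem_nil, or_false, not_or, List.nodup_nil, and_true] at this
  tauto

theorem Tuple.fac {z a b c e : G} (h : Tuple D z a b c e) : Fac D 4 z :=
  ⟨[a, b, c, e], h.1, rfl, h.2.1, h.2.2.1, h.2.2.2⟩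

theorem Tuple.perm {z a b c e a' b' c' e' : G} (h : Tuple D z a b c e)
    (hp : [a, b, c, e].Perm [a', b', c', e']) : Tuple D z a' b' c' e' :=
  ⟨hp.nodup_iff.1 h.1, fun u hu => h.2.1 u (hp.mem_iff.2 hu),
    fun u hu v hv => h.2.2.1 u (hp.mem_iff.2 hu) v (hp.mem_iff.2 hv),
    (hp.prod_eq' (List.pairwise_iff_forall_sublist.2
      fun hs => h.2.2.1 _ (hs.subset (by simp)) _ (hs.subset (by simp)))).symm.trans h.2.2.2⟩

omit [Finite G] in
theorem set_four (a b c e : G) : ({a, b, c, e} : Set G) = {x | x ∈ [a, b, c, e]} := by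
  ext x; simp

theorem Tuple.quad {z a b c e : G} (h : Tuple D z a b c e) : Quad D z {a, b, c, e} := ⟨a, b, c, e, h, rfl⟩

/-- A member of a quad can be put first. -/
theorem Quad.first {z : G} {S : Set G} (h : Quad D z S) {u : G} (hu : u ∈ S) :
    ∃ b c e : G, Tuple D z u b c e ∧ S = {u, b, c, e} := by
  classical
  obtain ⟨a, b, c, e, ht, rfl⟩ := h
  rw [set_four, Set.mem_ofPred_eq] at hu
  have hp := List.perm_cons_erase hu
  have hlen : (([a, b, c, e] : List G).erase u).length = 3 := by rw [List.length_erase_of_mem hu]; rfl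
  obtain ⟨b', c', e', he⟩ := List.length_eq_three.1 hlen
  rw [he] at hp
  refine ⟨b', c', e', ht.perm hp, ?_⟩
  rw [set_four, set_four]
  exact Set.ext fun x => hp.mem_iff

theorem Quad.mem {z : G} {S : Set G} (h : Quad D z S) {u : G} (hu : u ∈ S) : u ∈ D ∧ Commute u z := by
  obtain ⟨b, c, e, ht, -⟩ := h.first hu
  refine ⟨ht.2.1 u (by simp), ?_⟩
  rw [← ht.2.2.2]
  exact Commute.list_prod_right _ u fun v hv => ht.2.2.1 u (by simp) v hv

theorem Quad.comm {z : G} {S : Set G} (h : Quad D z S) {u v : G} (hu : u ∈ S) (hv : v ∈ S) : Commute u v := by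
  obtain ⟨a, b, c, e, ht, rfl⟩ := h
  rw [set_four, Set.mem_ofPred_eq] at hu hv
  exact ht.2.2.1 u hu v hv

theorem Quad.ncard {z : G} {S : Set G} (h : Quad D z S) : S.ncard = 4 := by
  classical
  obtain ⟨a, b, c, e, ht, rfl⟩ := h
  rw [set_four, show {x | x ∈ [a, b, c, e]} = ↑([a, b, c, e] : List G).toFinset by ext; simp,
    Set.ncard_coe_finset, List.toFinset_card_of_nodup ht.1]
  rfl

theorem Quad.nonempty {z : G} {S : Set G} (h : Quad D z S) : S.Nonempty := by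
  obtain ⟨a, b, c, e, -, rfl⟩ := h
  exact ⟨a, Or.inl rfl⟩

theorem Quad.conj (hT : Cfsg.IsThreeTranspositionGroup D) {z : G} {S : Set G} (h : Quad D z S) {g : G}
    (hg : Commute g z) : Quad D z ((fun x => g * x * g⁻¹) '' S) := by
  obtain ⟨a, b, c, e, ⟨h1, h2, h3, h4⟩, rfl⟩ := h
  refine ⟨g * a * g⁻¹, g * b * g⁻¹, g * c * g⁻¹, g * e * g⁻¹, ⟨?_, ?_, ?_, ?_⟩, ?_⟩
  · exact (List.nodup_map_iff (MulAut.conj g).injective).2 h1
  · intro u hu
    obtain ⟨v, hv, rfl⟩ := List.mem_map.1 (show u ∈ [a, b, c, e].map (MulAut.conj g) from hu)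
    exact hT.2.1 g v (h2 v hv)
  · intro u hu v hv
    obtain ⟨u', hu', rfl⟩ := List.mem_map.1 (show u ∈ [a, b, c, e].map (MulAut.conj g) from hu)
    obtain ⟨v', hv', rfl⟩ := List.mem_map.1 (show v ∈ [a, b, c, e].map (MulAut.conj g) from hv)
    exact (h3 u' hu' v' hv').map (MulAut.conj g).toMonoidHom
  · show ([a, b, c, e].map (MulAut.conj g)).prod = z
    rw [← map_list_prod, h4]
    exact conj_eq_self_of_commute hg
  · simp only [Set.image_insert_eq, Set.image_singleton]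

variable (V : Env D)
include V

/-- A transposition commuting with `z` and with one member commutes with all. -/
theorem Env.quad_all {z : G} {S : Set G} (h : Quad D z S) {w u v : G} (hw : w ∈ D) (hwz : Commute w z)
    (hu : u ∈ S) (hwu : Commute w u) (hv : v ∈ S) : Commute w v := by
  classical
  obtain ⟨b, c, e, ⟨hn, hD, hcm, hp⟩, rfl⟩ := h.first hu
  have F := V.facts
  have hn3 : [b, c, e].Nodup := (List.nodup_cons.1 hn).2
  have hw3 : Commute w (b * (c * e)) := by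
    rw [show b * (c * e) = u⁻¹ * ([u, b, c, e].prod) by simp]
    rw [hp]
    exact hwu.inv_right.mul_right hwz
  have hset := unique_factor F.tg.1 F.h4 F.h6 3 le_rfl ([b, c, e].map (MulAut.conj w)) [b, c, e]
    (hn3.map (MulAut.conj w).injective) hn3 (by simp) rfl
    (fun x hx => by obtain ⟨y, hy, rfl⟩ := List.mem_map.1 hx; exact F.conj w (hD y (List.mem_cons_of_mem _ hy)))
    (fun x hx => hD x (List.mem_cons_of_mem _ hx))
    (fun x hx y hy => by
      obtain ⟨x', hx', rfl⟩ := List.mem_map.1 hx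
      obtain ⟨y', hy', rfl⟩ := List.mem_map.1 hy
      exact (hcm x' (List.mem_cons_of_mem _ hx') y' (List.mem_cons_of_mem _ hy')).map (MulAut.conj w).toMonoidHom)
    (fun x hx y hy => hcm x (List.mem_cons_of_mem _ hx) y (List.mem_cons_of_mem _ hy))
    (by rw [← map_list_prod]; simp only [List.prod_cons, List.prod_nil, mul_one]
        exact conj_eq_self_of_commute hw3)
  have key : ∀ y ∈ [b, c, e], Commute w y := fun y hy => by
    by_contra hnc
    have hyD := hD y (List.mem_cons_of_mem _ hy)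
    have h1 := (hset (w * y * w⁻¹)).1 (List.mem_map.2 ⟨y, hy, rfl⟩)
    rw [TSet.inv F.tg.1 hw] at h1
    have h2 := hcm y (List.mem_cons_of_mem _ hy) _ (List.mem_cons_of_mem _ h1)
    have h3 : w = y * (w * y * w) * y := by
      rw [TSet.braid F.tg.1 hw hyD hnc]
      simp only [← mul_assoc, TSet.sq F.tg.1 hyD, one_mul]
      rw [mul_assoc, TSet.sq F.tg.1 hyD, mul_one]
    rw [h2.eq, mul_assoc, TSet.sq F.tg.1 hyD, mul_one] at h3
    exact hnc (h3 ▸ h2.symm)
  rcases hv with rfl | rfl | rfl | rfl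
  exacts [hwu, key _ (by simp), key _ (by simp), key _ (by simp)]

/-- Quads sharing a member are equal. -/
theorem Env.quad_eq {z : G} {S T : Set G} (hS : Quad D z S) (hT : Quad D z T) {u : G} (hu : u ∈ S)
    (hu' : u ∈ T) : S = T := by
  obtain ⟨b, c, e, hs, rfl⟩ := hS.first hu
  obtain ⟨b', c', e', ht, rfl⟩ := hT.first hu'
  have e1 : u * [b, c, e].prod = u * [b', c', e'].prod := by
    rw [← List.prod_cons, ← List.prod_cons, hs.2.2.2, ht.2.2.2]
  have F := V.facts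
  have h := unique_factor F.tg.1 F.h4 F.h6 3 le_rfl [b, c, e] [b', c', e'] (List.nodup_cons.1 hs.1).2
    (List.nodup_cons.1 ht.1).2 rfl rfl (fun x hx => hs.2.1 x (List.mem_cons_of_mem _ hx))
    (fun x hx => ht.2.1 x (List.mem_cons_of_mem _ hx))
    (fun x hx y hy => hs.2.2.1 x (List.mem_cons_of_mem _ hx) y (List.mem_cons_of_mem _ hy))
    (fun x hx y hy => ht.2.2.1 x (List.mem_cons_of_mem _ hx) y (List.mem_cons_of_mem _ hy)) (mul_left_cancel e1)
  ext x
  have := h x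
  simp only [List.mem_cons, List.not_mem_nil, or_false] at this
  simp only [Set.mem_insert_iff, Set.mem_singleton_iff]
  exact or_congr_right this

/-- Commuting pairs are conjugate. -/
theorem Env.pair_conj {a b d e : G} (ha : a ∈ D) (hb : b ∈ Nb D a) (hd : d ∈ D) (he : e ∈ Nb D d) :
    ∃ k : G, k * a * k⁻¹ = d ∧ k * b * k⁻¹ = e := by
  have F := V.facts
  obtain ⟨g, hg⟩ := F.trans a ha d hd
  have hgb : g * b * g⁻¹ ∈ Nb D d := hg ▸ nb_conj F.tg g hb
  obtain ⟨q, hq⟩ := (F.qprim d hd).1 _ ⟨⟨_, nb_subset hgb⟩, hgb, rfl⟩ _ ⟨⟨e, nb_subset he⟩, he, rfl⟩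
  obtain ⟨u, rfl⟩ := QuotientGroup.mk_surjective q
  have hud : (u : G) * d * (u : G)⁻¹ = d := conj_eq_self_of_commute (commute_of_mem_closure_nb u.2).symm
  refine ⟨(u : G) * g, ?_, ?_⟩
  · rw [show (u : G) * g * a * ((u : G) * g)⁻¹ = (u : G) * (g * a * g⁻¹) * (u : G)⁻¹ by group, hg, hud]
  · have hN := nb_conj F.tg (u : G) hgb
    rw [hud] at hN
    rw [← QuotientGroup.mk_inv, ← QuotientGroup.mk_mul, ← QuotientGroup.mk_mul] at hq
    rw [show (u : G) * g * b * ((u : G) * g)⁻¹ = (u : G) * (g * b * g⁻¹) * (u : G)⁻¹ by group]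
    exact congrArg Subtype.val (img_inj F.tg F.trans F.free hd (x := u * ⟨_, nb_subset hgb⟩ * u⁻¹)
      (by simpa using hN) (y := ⟨e, nb_subset he⟩) he hq)

omit V

/-- A tuple together with its map onto Fi22, the last two going to the base points. -/
structure Frame (D : Set G) (z a b c e : G)
    (π : ↥(Subgroup.centralizer ({a, b} : Set G)) →* GG) : Prop where
  tup : Tuple D z a b c e
  map : PairMap D a b π
  imc : ∀ h : c ∈ Subgroup.centralizer ({a, b} : Set G), π ⟨c, h⟩ = trN 0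
  ime : ∀ h : e ∈ Subgroup.centralizer ({a, b} : Set G), π ⟨e, h⟩ = trN 7

namespace Frame

variable {z a b c e : G} {π : ↥(Subgroup.centralizer ({a, b} : Set G)) →* GG} (R : Frame D z a b c e π)
include R

theorem ha : a ∈ D := R.tup.2.1 a (by simp)

theorem hb : b ∈ Nb D a := R.tup.nb (by simp) (by simp) R.tup.ne.1

theorem hca : c ∈ Nb D a := R.tup.nb (by simp) (by simp) R.tup.ne.2.1

theorem hea : e ∈ Nb D a := R.tup.nb (by simp) (by simp) R.tup.ne.2.2.1

theorem hcb : c ∈ Nb D b := R.tup.nb (by simp) (by simp) R.tup.ne.2.2.2.1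

theorem heb : e ∈ Nb D b := R.tup.nb (by simp) (by simp) R.tup.ne.2.2.2.2.1

theorem hce : e ∈ Nb D c := R.tup.nb (by simp) (by simp) R.tup.ne.2.2.2.2.2

theorem prod_eq : a * b * c * e = z := by rw [← R.tup.2.2.2]; simp [mul_assoc]

theorem quad : Quad D z {a, b, c, e} := R.tup.quad

end Frame

include V

/-- Every tuple has a frame. -/
theorem Env.exists_frame {z a b c e : G} (h : Tuple D z a b c e) :
    ∃ π, Frame D z a b c e π := by
  obtain ⟨nab, nac, nae, nbc, nbe, nce⟩ := h.ne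
  have F := V.facts
  have ha : a ∈ D := h.2.1 a (by simp)
  have hb : b ∈ Nb D a := h.nb (by simp) (by simp) nab
  have hca : c ∈ Nb D a := h.nb (by simp) (by simp) nac
  have hea : e ∈ Nb D a := h.nb (by simp) (by simp) nae
  have hcb : c ∈ Nb D b := h.nb (by simp) (by simp) nbc
  have heb : e ∈ Nb D b := h.nb (by simp) (by simp) nbe
  obtain ⟨π, P⟩ := F.pair_map ha hb
  obtain ⟨p, hp, ep⟩ := exists_trN (P.mem ⟨c, memC hca hcb⟩ hca hcb)
  obtain ⟨q, hq, eq⟩ := exists_trN (P.mem ⟨e, memC hea heb⟩ hea heb)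
  have hne : p ≠ q := fun he => nce (congrArg Subtype.val (P.inj F ha hb (a := ⟨c, memC hca hcb⟩)
    (b := ⟨e, memC hea heb⟩) hca hcb hea (by rw [← ep, ← eq, he])))
  have hc : tapp p q = q := (tapp_fix_iff hp hq).2 (by
    rw [ep, eq]
    exact (show Commute (⟨c, memC hca hcb⟩ : ↥(Subgroup.centralizer ({a, b} : Set G))) ⟨e, memC hea heb⟩ from
      Subtype.ext (h.2.2.1 c (by simp) e (by simp)).eq).map π)
  obtain ⟨g, g0, g7⟩ := exists_pair hp hq hne hc
  refine ⟨(MulAut.conj g⁻¹).toMonoidHom.comp π, ⟨h, ⟨?_, ?_, ?_, ?_⟩, ?_, ?_⟩⟩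
  · exact (MulAut.conj g⁻¹).surjective.comp P.surj
  · intro x
    rw [← P.ker x]
    exact (MulAut.conj g⁻¹).map_eq_one_iff
  · intro x h1 h2
    obtain ⟨r, hr, er⟩ := exists_trN (P.mem x h1 h2)
    show g⁻¹ * π x * g⁻¹⁻¹ ∈ W
    rw [← er, ← trN_apt _ hr]
    exact trN_mem (apt_lt _ hr)
  · intro w hw
    obtain ⟨r, hr, rfl⟩ := exists_trN hw
    obtain ⟨x, h1, h2, h3⟩ := P.lift (trN (apt g r)) (trN_mem (apt_lt _ hr))
    refine ⟨x, h1, h2, ?_⟩
    show g⁻¹ * π x * g⁻¹⁻¹ = _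
    rw [h3, trN_apt _ hr]
    group
  · intro hm
    show g⁻¹ * π _ * g⁻¹⁻¹ = _
    rw [← ep, ← g0, trN_apt _ (by norm_num)]
    group
  · intro hm
    show g⁻¹ * π _ * g⁻¹⁻¹ = _
    rw [← eq, ← g7, trN_apt _ (by norm_num)]
    group

/-- Ordered quads are conjugate. -/
theorem Env.tuple_conj {z a b c e z' a' b' c' e' : G} (h : Tuple D z a b c e)
    (h' : Tuple D z' a' b' c' e') :
    ∃ g : G, g * a * g⁻¹ = a' ∧ g * b * g⁻¹ = b' ∧ g * c * g⁻¹ = c' ∧ g * e * g⁻¹ = e' ∧ g * z * g⁻¹ = z' := by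
  have F := V.facts
  obtain ⟨π', R'⟩ := V.exists_frame h'
  obtain ⟨k, ka, kb⟩ := V.pair_conj (h.2.1 a (by simp)) (h.nb (u := a) (v := b) (by simp) (by simp) h.ne.1)
    R'.ha R'.hb
  obtain ⟨-, nac, nae, nbc, nbe, nce⟩ := h.ne
  have kca : k * c * k⁻¹ ∈ Nb D a' := ka ▸ nb_conj F.tg k (h.nb (by simp) (by simp) nac)
  have kcb : k * c * k⁻¹ ∈ Nb D b' := kb ▸ nb_conj F.tg k (h.nb (by simp) (by simp) nbc)
  have kea : k * e * k⁻¹ ∈ Nb D a' := ka ▸ nb_conj F.tg k (h.nb (by simp) (by simp) nae)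
  have keb : k * e * k⁻¹ ∈ Nb D b' := kb ▸ nb_conj F.tg k (h.nb (by simp) (by simp) nbe)
  obtain ⟨p, hp, ep⟩ := exists_trN (R'.map.mem ⟨_, memC kca kcb⟩ kca kcb)
  obtain ⟨q, hq, eq⟩ := exists_trN (R'.map.mem ⟨_, memC kea keb⟩ kea keb)
  have hne : p ≠ q := fun he => nce (mul_left_cancel (mul_right_cancel (congrArg Subtype.val
    (R'.map.inj F R'.ha R'.hb (a := ⟨_, memC kca kcb⟩) (b := ⟨_, memC kea keb⟩) kca kcb kea
      (by rw [← ep, ← eq, he])))))
  have hc : tapp p q = q := (tapp_fix_iff hp hq).2 (by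
    rw [ep, eq]
    exact (show Commute (⟨_, memC kca kcb⟩ : ↥(Subgroup.centralizer ({a', b'} : Set G))) ⟨_, memC kea keb⟩ from
      Subtype.ext ((commute_conj_iff k c e).2 (h.2.2.1 c (by simp) e (by simp))).eq).map π')
  obtain ⟨x, x0, x7⟩ := exists_pair hp hq hne hc
  obtain ⟨u, hu⟩ := R'.map.surj x⁻¹
  have hua : Commute (u : G) a' := (Subgroup.mem_centralizer_iff.1 u.2 a' (Or.inl rfl)).symm
  have hub : Commute (u : G) b' := (Subgroup.mem_centralizer_iff.1 u.2 b' (Or.inr rfl)).symm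
  have key : ∀ {y y' : G} {r s : ℕ} (hy : y ∈ Nb D a' ∧ y ∈ Nb D b') (hy' : y' ∈ Nb D a' ∧ y' ∈ Nb D b'),
      π' ⟨y, memC hy.1 hy.2⟩ = trN r → π' ⟨y', memC hy'.1 hy'.2⟩ = trN s → r < 3510 → apt x s = r → s < 3510 →
      (u : G) * y * (u : G)⁻¹ = y' := by
    intro y y' r s hy hy' e1 e2 hr hxs hs
    have h1 : (u : G) * y * (u : G)⁻¹ ∈ Nb D a' := by
      have := nb_conj F.tg (u : G) hy.1; rwa [conj_eq_self_of_commute hua] at this
    have h2 : (u : G) * y * (u : G)⁻¹ ∈ Nb D b' := by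
      have := nb_conj F.tg (u : G) hy.2; rwa [conj_eq_self_of_commute hub] at this
    refine congrArg Subtype.val (R'.map.inj F R'.ha R'.hb
      (a := u * ⟨y, memC hy.1 hy.2⟩ * u⁻¹) (b := ⟨y', memC hy'.1 hy'.2⟩) h1 h2 hy'.1 ?_)
    rw [map_mul, map_mul, map_inv, hu, e1, e2, ← hxs, ← trN_apt _ (apt_lt _ hs), ← apt_mul, inv_mul_cancel,
      apt_one]
  have e3 := key ⟨kca, kcb⟩ ⟨R'.hca, R'.hcb⟩ ep.symm (R'.imc _) hp x0 (by norm_num)
  have e4 := key ⟨kea, keb⟩ ⟨R'.hea, R'.heb⟩ eq.symm (R'.ime _) hq x7 (by norm_num)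
  have g1 : (u : G) * k * a * ((u : G) * k)⁻¹ = a' := by
    rw [show (u : G) * k * a * ((u : G) * k)⁻¹ = (u : G) * (k * a * k⁻¹) * (u : G)⁻¹ by group, ka,
      conj_eq_self_of_commute hua]
  have g2 : (u : G) * k * b * ((u : G) * k)⁻¹ = b' := by
    rw [show (u : G) * k * b * ((u : G) * k)⁻¹ = (u : G) * (k * b * k⁻¹) * (u : G)⁻¹ by group, kb,
      conj_eq_self_of_commute hub]
  have g3 : (u : G) * k * c * ((u : G) * k)⁻¹ = c' := by
    rw [show (u : G) * k * c * ((u : G) * k)⁻¹ = (u : G) * (k * c * k⁻¹) * (u : G)⁻¹ by group, e3]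
  have g4 : (u : G) * k * e * ((u : G) * k)⁻¹ = e' := by
    rw [show (u : G) * k * e * ((u : G) * k)⁻¹ = (u : G) * (k * e * k⁻¹) * (u : G)⁻¹ by group, e4]
  refine ⟨(u : G) * k, g1, g2, g3, g4, ?_⟩
  rw [← h.2.2.2, ← h'.2.2.2]
  simp only [List.prod_cons, List.prod_nil, mul_one]
  have key : ∀ g : G, g * (a * (b * (c * e))) * g⁻¹ =
      g * a * g⁻¹ * (g * b * g⁻¹ * (g * c * g⁻¹ * (g * e * g⁻¹))) := fun g => by group
  rw [key, g1, g2, g3, g4]

end Cfsg.Agent.FischerQuad
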